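import Groth.Agent.Flat2F.H1Core
import Groth.Agent.Flat2C.Thick
import Groth.Agent.Flat2G.StratField

/-!
Let `P = X₀ ×_Z Z'` with `Z`, `Z'` affine and `i : X ⟶ P` a closed immersion, `g : X ⟶ X₀`.
Then `g_* O_X` is generated by the functions pulled back from `Z'`.
-/

set_option autoImplicit false
universe u
open CategoryTheory CategoryTheory.Limits AlgebraicGeometry Opposite TopologicalSpace

namespace Groth.Agent.Flat2F.AffGen

open Groth.Agent.Flat2F.H1Core
open Groth.Agent.Dcoh.Restrict (unitHom unitHom_app_one unit_hom_ext one map_one)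

theorem span_eq_top_of_closure {R B C M : Type*} [CommRing R] [CommRing B] [CommRing C]
    [AddCommGroup M] [Module R M] (φ : R →+* B) (ψ : C →+* B)
    (h : ∀ b : B, b ∈ Subring.closure (Set.range φ ∪ Set.range ψ)) (e : B ≃+ M)
    (he : ∀ r b, e (φ r * b) = r • e b) :
    Submodule.span R (Set.range fun c => e (ψ c)) = ⊤ := by
  let N : Submodule R M := Submodule.span R (Set.range fun c => e (ψ c))
  have h1 : ∀ (c : C) (b : B), e b ∈ N → e (ψ c * b) ∈ N := by
    intro c b hb
    have : ∀ m ∈ N, e (ψ c * e.symm m) ∈ N := by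
      intro m hm
      induction hm using Submodule.span_induction with
      | mem x hx =>
        obtain ⟨d, rfl⟩ := hx
        refine Submodule.subset_span ⟨c * d, ?_⟩
        simp
      | zero => simp
      | add x y _ _ hx hy =>
        rw [map_add, mul_add, map_add]
        exact N.add_mem hx hy
      | smul r x _ hx =>
        have h2 : e.symm (r • x) = φ r * e.symm x := by
          rw [AddEquiv.symm_apply_eq, he, AddEquiv.apply_symm_apply]
        rw [h2, mul_left_comm, he]
        exact N.smul_mem r hx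
    simpa using this (e b) hb
  have h2 : ∀ b₁ b₂ : B, e b₁ ∈ N → e b₂ ∈ N → e (b₁ * b₂) ∈ N := by
    intro b₁ b₂ hb₁ hb₂
    have : ∀ m ∈ N, e (e.symm m * b₂) ∈ N := by
      intro m hm
      induction hm using Submodule.span_induction with
      | mem x hx =>
        obtain ⟨d, rfl⟩ := hx
        simpa using h1 d b₂ hb₂
      | zero => simp
      | add x y _ _ hx hy =>
        rw [map_add, add_mul, map_add]
        exact N.add_mem hx hy
      | smul r x _ hx =>
        have h2 : e.symm (r • x) = φ r * e.symm x := by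
          rw [AddEquiv.symm_apply_eq, he, AddEquiv.apply_symm_apply]
        rw [h2, mul_assoc, he]
        exact N.smul_mem r hx
    simpa using this (e b₁) hb₁
  have h3 : e 1 ∈ N := Submodule.subset_span ⟨1, by simp⟩
  refine eq_top_iff.2 fun m _ => ?_
  have h4 : ∀ b : B, e b ∈ N := by
    intro b
    induction h b using Subring.closure_induction with
    | mem x hx =>
      rcases hx with ⟨r, rfl⟩ | ⟨c, rfl⟩
      · rw [← mul_one (φ r), he]
        exact N.smul_mem r h3
      · exact Submodule.subset_span ⟨c, rfl⟩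
    | zero => simp
    | one => exact h3
    | add x y _ _ hx hy => rw [map_add]; exact N.add_mem hx hy
    | neg x _ hx => rw [map_neg]; exact N.neg_mem hx
    | mul x y _ _ hx hy => exact h2 x y hx hy
  simpa using h4 (e.symm m)

variable {X X₀ P Z Z' : Scheme.{u}}

/-- The function on `X` pulled back from `Z'`, as a global section of `g_* O_X`. -/
noncomputable def sec (g : X ⟶ X₀) (t : X ⟶ Z') (c : Γ(Z', ⊤)) :
    Γ((Scheme.Modules.pushforward g).obj (Coh.structureModule X), ⊤) :=
  (t.appTop c : Γ(X, ⊤))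

theorem epi_desc_sec (i : X ⟶ P) [IsClosedImmersion i] {p : P ⟶ X₀} {f' : P ⟶ Z'} {φ : X₀ ⟶ Z}
    {q : Z' ⟶ Z} (h : IsPullback p f' φ q) [IsAffine Z] [IsAffine Z'] (g : X ⟶ X₀) (t : X ⟶ Z')
    (hg : i ≫ p = g) (ht : i ≫ f' = t) :
    Epi (Sigma.desc fun c : Γ(Z', ⊤) => unitHom (sec g t c)) := by
  subst hg ht
  have hq : IsAffineHom q := inferInstance
  refine epi_desc_unitHom _ fun W hW => ?_
  have hpo := Groth.Agent.Flat2C.Thick.isPushout_appLE h (isAffineOpen_top Z) hW (by simp)
  have hpa : IsAffineHom p := MorphismProperty.of_isPullback h.flip hq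
  have hs : Function.Surjective (i.app (p ⁻¹ᵁ W)) := i.app_surjective _ (hW.preimage p)
  refine Eq.trans ?_ (span_eq_top_of_closure (R := Γ(X₀, W)) (B := Γ(X, (i ≫ p) ⁻¹ᵁ W))
    (C := Γ(Z', ⊤)) (M := Γ((Scheme.Modules.pushforward (i ≫ p)).obj (Coh.structureModule X), W))
    ((i ≫ p).app W).hom ((i ≫ f').appLE ⊤ ((i ≫ p) ⁻¹ᵁ W) le_top).hom ?_ (AddEquiv.refl _) ?_)
  · congr 1
  · intro b
    obtain ⟨b, rfl⟩ := hs b
    have hb := Groth.Agent.Flat2G.StratField.mem_closure_of_isPushout hpo b
    refine Subring.closure_induction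
      (p := fun b _ => (i.app (p ⁻¹ᵁ W)).hom b ∈ Subring.closure
        (Set.range ((i ≫ p).app W).hom ∪ Set.range ((i ≫ f').appLE ⊤ ((i ≫ p) ⁻¹ᵁ W) le_top).hom))
      ?_ ?_ ?_ ?_ ?_ ?_ hb
    · rintro _ (⟨r, rfl⟩ | ⟨c, rfl⟩)
      · refine Subring.subset_closure (Or.inl ⟨r, ?_⟩)
        rw [Scheme.Hom.comp_app]
        rfl
      · refine Subring.subset_closure (Or.inr ⟨c, ?_⟩)
        rw [← RingHom.comp_apply, ← CommRingCat.hom_comp, ← Scheme.Hom.appLE_eq_app,
          Scheme.Hom.appLE_comp_appLE]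
        rfl
    · rw [map_zero]; exact Subring.zero_mem _
    · rw [_root_.map_one]; exact Subring.one_mem _
    · intro x y _ _ hx hy
      rw [map_add]; exact Subring.add_mem _ hx hy
    · intro x _ hx
      rw [map_neg]; exact Subring.neg_mem _ hx
    · intro x y _ _ hx hy
      rw [map_mul]; exact Subring.mul_mem _ hx hy
  · intro r b
    rfl

end Groth.Agent.Flat2F.AffGen
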