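import Mathlib.RingTheory.Ideal.KrullsHeightTheorem
import Mathlib.RingTheory.Ideal.MinimalPrime.Noetherian
import Mathlib.RingTheory.LocalRing.MaximalIdeal.Basic

/-!
# Primes avoiding an element in a Noetherian local ring

* `isMaximal_minimalPrimes_of_forall_mem`: in a Noetherian local domain `D`, if a nonzero `h` lies in
  every nonzero prime, the maximal ideal is a minimal prime over `h` as soon as `h` is in it.
* `exists_prime_avoiding`: in a Noetherian local ring `B`, with `h` not in some prime, there is a prime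
  `Q` with `h ∉ Q` and such that the maximal ideal is the only prime containing `Q` and `h`.
-/

set_option autoImplicit false

namespace Groth.Agent.Flat2F.AvoidElement

open IsLocalRing

theorem maximalIdeal_mem_minimalPrimes_of_forall_mem {D : Type*} [CommRing D] [IsDomain D] [IsLocalRing D]
    [IsNoetherianRing D] (h : D) (h0 : h ≠ 0) (hm : h ∈ maximalIdeal D)
    (hP : ∀ P : Ideal D, P.IsPrime → P ≠ ⊥ → h ∈ P) :
    maximalIdeal D ∈ (Ideal.span {h}).minimalPrimes := by
  by_contra hcon
  have hfin : (Ideal.span {h}).minimalPrimes.Finite :=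
    Ideal.finite_minimalPrimes_of_isNoetherianRing D _
  have hnot : ¬ ((maximalIdeal D : Ideal D) : Set D) ⊆ ⋃ p ∈ hfin.toFinset, ((p : Ideal D) : Set D) := by
    intro hsub
    have := (Ideal.subset_union_prime (s := hfin.toFinset) (f := fun p => p) (maximalIdeal D)
      (maximalIdeal D) (fun p hp _ _ => ((hfin.mem_toFinset.mp hp).1.1))).mp hsub
    obtain ⟨p, hp, hle⟩ := this
    have hp' := hfin.mem_toFinset.mp hp
    have : maximalIdeal D = p := (maximalIdeal.isMaximal D).eq_of_le hp'.1.1.ne_top hle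
    exact hcon (this ▸ hp')
  obtain ⟨g, hg, hgn⟩ := Set.not_subset.mp hnot
  have hgn' : ∀ p ∈ (Ideal.span {h}).minimalPrimes, g ∉ p := by
    intro p hp hgp
    exact hgn (Set.mem_biUnion (hfin.mem_toFinset.mpr hp) hgp)
  -- g ≠ 0
  obtain ⟨q0, hq0, -⟩ := Ideal.exists_minimalPrimes_le (I := Ideal.span {h}) (J := maximalIdeal D)
    ((Ideal.span_singleton_le_iff_mem _).mpr hm)
  have hg0 : g ≠ 0 := by
    rintro rfl
    exact hgn' q0 hq0 (zero_mem _)
  obtain ⟨p', hp', -⟩ := Ideal.exists_minimalPrimes_le (I := Ideal.span {g}) (J := maximalIdeal D)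
    ((Ideal.span_singleton_le_iff_mem _).mpr hg)
  have : p'.IsPrime := hp'.1.1
  have hgp' : g ∈ p' := hp'.1.2 (Ideal.mem_span_singleton_self g)
  have hp'0 : p' ≠ ⊥ := by
    rintro rfl
    exact hg0 (by simpa using hgp')
  have hhp' : h ∈ p' := hP p' inferInstance hp'0
  obtain ⟨p'', hp'', hle⟩ := Ideal.exists_minimalPrimes_le (I := Ideal.span {h}) (J := p')
    ((Ideal.span_singleton_le_iff_mem _).mpr hhp')
  have : p''.IsPrime := hp''.1.1
  have hp''0 : p'' ≠ ⊥ := by
    rintro rfl
    have : h ∈ (⊥ : Ideal D) := hp''.1.2 (Ideal.mem_span_singleton_self h)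
    exact h0 (by simpa using this)
  have hht : p'.height ≤ 1 :=
    Ideal.height_le_one_of_isPrincipal_of_mem_minimalPrimes (Ideal.span {g}) p' hp'
  have hne : p'' ≠ p' := by
    rintro rfl
    exact hgn' _ hp'' hgp'
  have hlt : p'' < p' := lt_of_le_of_ne hle hne
  have h1 : p''.height < p'.height := Ideal.height_strict_mono_of_isPrime_of_isPrime hlt
  have h2 : (⊥ : Ideal D).height < p''.height :=
    Ideal.height_strict_mono_of_isPrime_of_isPrime (bot_lt_iff_ne_bot.mpr hp''0)
  have h3 : p''.height < 1 := lt_of_lt_of_le h1 hht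
  have h4 : p''.height = 0 := Order.lt_one_iff.mp h3
  rw [h4] at h2
  exact absurd h2 not_lt_zero

theorem exists_prime_avoiding {B : Type*} [CommRing B] [IsLocalRing B] [IsNoetherianRing B]
    (h : B) (P₀ : Ideal B) [P₀.IsPrime] (hP₀ : h ∉ P₀) :
    ∃ Q : Ideal B, Q.IsPrime ∧ P₀ ≤ Q ∧ h ∉ Q ∧ ∀ P : Ideal B, P.IsPrime → Q ≤ P → h ∈ P → P = maximalIdeal B := by
  obtain ⟨Q, ⟨hQp, hQle, hQh⟩, hQmax⟩ := set_has_maximal_iff_noetherian.mpr ‹IsNoetherianRing B›
    {P : Ideal B | P.IsPrime ∧ P₀ ≤ P ∧ h ∉ P} ⟨P₀, ‹_›, le_rfl, hP₀⟩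
  refine ⟨Q, hQp, hQle, hQh, fun P hP hQP hhP => ?_⟩
  have hmax : ∀ P : Ideal B, P.IsPrime → Q < P → h ∈ P := by
    intro P hP hlt
    by_contra hh
    exact hQmax P ⟨hP, hQle.trans hlt.le, hh⟩ hlt
  have hhm : h ∈ maximalIdeal B := le_maximalIdeal hP.ne_top hhP
  let D := B ⧸ Q
  have : IsDomain D := inferInstance
  have : IsLocalRing D := .of_surjective' (Ideal.Quotient.mk Q) Ideal.Quotient.mk_surjective
  have hmapmax : (maximalIdeal D).comap (Ideal.Quotient.mk Q) = maximalIdeal B :=
    ((IsLocalRing.local_hom_TFAE (Ideal.Quotient.mk Q)).out 0 4).mp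
      (by exact .of_surjective (Ideal.Quotient.mk Q) Ideal.Quotient.mk_surjective)
  have key := maximalIdeal_mem_minimalPrimes_of_forall_mem (D := D) (Ideal.Quotient.mk Q h)
    (by rwa [Ne, Ideal.Quotient.eq_zero_iff_mem])
    (by
      have : h ∈ (maximalIdeal D).comap (Ideal.Quotient.mk Q) := by rw [hmapmax]; exact hhm
      exact this)
    (by
      intro P' hP' hP'0
      have : h ∈ P'.comap (Ideal.Quotient.mk Q) := by
        refine hmax _ (Ideal.comap_isPrime _ _) ?_
        refine lt_of_le_of_ne ?_ ?_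
        · intro a ha
          have : Ideal.Quotient.mk Q a = 0 := Ideal.Quotient.eq_zero_iff_mem.mpr ha
          rw [Ideal.mem_comap, this]
          exact zero_mem _
        · intro heq
          apply hP'0
          rw [eq_bot_iff]
          intro b hb
          obtain ⟨b, rfl⟩ := Ideal.Quotient.mk_surjective b
          have : b ∈ Q := by rw [heq]; exact hb
          exact (Submodule.mem_bot _).mpr (Ideal.Quotient.eq_zero_iff_mem.mpr this)
      exact this)
  -- P maps to a prime of D
  have hker : RingHom.ker (Ideal.Quotient.mk Q) ≤ P := by rwa [Ideal.mk_ker]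
  have hP'' : (P.map (Ideal.Quotient.mk Q)).IsPrime :=
    Ideal.map_isPrime_of_surjective Ideal.Quotient.mk_surjective hker
  have hle : P.map (Ideal.Quotient.mk Q) ≤ maximalIdeal D := le_maximalIdeal hP''.ne_top
  have hspan : Ideal.span {Ideal.Quotient.mk Q h} ≤ P.map (Ideal.Quotient.mk Q) :=
    (Ideal.span_singleton_le_iff_mem _).mpr (Ideal.mem_map_of_mem _ hhP)
  have hge := key.2 ⟨hP'', hspan⟩ hle
  have heq : P.map (Ideal.Quotient.mk Q) = maximalIdeal D := le_antisymm hle hge
  have : (P.map (Ideal.Quotient.mk Q)).comap (Ideal.Quotient.mk Q) = P := by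
    rw [Ideal.comap_map_of_surjective _ Ideal.Quotient.mk_surjective]
    rw [← RingHom.ker_eq_comap_bot]
    exact sup_eq_left.mpr hker
  rw [← this, heq, hmapmax]

end Groth.Agent.Flat2F.AvoidElement
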