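import Mathlib.Algebra.BigOperators.Finprod
import Mathlib.Algebra.Order.BigOperators.Group.Finset
import Mathlib.SetTheory.Cardinal.Finite
import Mathlib.Data.Fintype.BigOperators

/-!
Two counting lemmas.
-/

set_option autoImplicit false

namespace Groth.Agent.Flat2F.Comb

lemma card_le_finsum {α β : Type*} [Finite α] (σ : α → β) (S : Set β) (hS : S.Finite)
    (hσ : ∀ a, σ a ∈ S) (w : β → ℤ) (hw : ∀ s, 0 ≤ w s)
    (h : ∀ a, (Nat.card {b // σ b = σ a} : ℤ) ≤ w (σ a)) :
    (Nat.card α : ℤ) ≤ ∑ᶠ s ∈ S, w s := by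
  classical
  have := Fintype.ofFinite α
  rw [finsum_mem_eq_finite_toFinset_sum _ hS, Nat.card_eq_fintype_card, ← Finset.card_univ,
    Finset.card_eq_sum_card_fiberwise (f := σ) (t := hS.toFinset) (by intro a _; simpa using hσ a)]
  push_cast
  refine Finset.sum_le_sum fun s hs => ?_
  by_cases hne : ∃ a, σ a = s
  · obtain ⟨a, rfl⟩ := hne
    refine le_trans (le_of_eq ?_) (h a)
    rw [Nat.card_eq_fintype_card, Fintype.card_subtype]
  · have : ({a ∈ (Finset.univ : Finset α) | σ a = s}) = ∅ := by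
      rw [Finset.filter_eq_empty_iff]
      intro a _ ha
      exact hne ⟨a, ha⟩
    rw [this]
    simpa using hw s

lemma exists_tuple {β : Type*} (S : Set β) (hS : S.Finite) (w : β → ℤ) (hw : ∀ s, 0 < w s) (n : ℕ)
    (hn : ∑ᶠ s ∈ S, w s = n) :
    ∃ τ : Fin n → β, (∀ j, τ j ∈ S) ∧ ∀ j, (Nat.card {k // τ k = τ j} : ℤ) ≤ w (τ j) := by
  classical
  let T := (s : hS.toFinset) × Fin (w s).toNat
  have hT : Fintype.card T = n := by
    have h1 : Fintype.card T = ∑ s : hS.toFinset, (w s).toNat := by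
      rw [Fintype.card_sigma]
      simp
    have h2 : ((∑ s : hS.toFinset, (w s).toNat : ℕ) : ℤ) = n := by
      rw [← hn, finsum_mem_eq_finite_toFinset_sum _ hS]
      push_cast
      rw [← Finset.sum_coe_sort hS.toFinset]
      refine Finset.sum_congr rfl fun s _ => ?_
      exact Int.toNat_of_nonneg (hw s).le
    rw [h1]
    exact_mod_cast h2
  let e : Fin n ≃ T := (Fintype.equivFinOfCardEq hT).symm
  refine ⟨fun k => (e k).1, fun j => ?_, fun j => ?_⟩
  · have := (e j).1.2
    rwa [Set.Finite.mem_toFinset] at this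
  · have h3 : Nat.card {k // ((e k).1 : β) = (e j).1} ≤ Nat.card (Fin (w (e j).1).toNat) := by
      refine Nat.card_le_card_of_injective
        (fun k => Fin.cast (by rw [k.2]) (e k.1).2) ?_
      rintro ⟨k, hk⟩ ⟨k', hk'⟩ hkk
      ext1
      apply e.injective
      have h1 : (e k).1 = (e k').1 := Subtype.ext (hk.trans hk'.symm)
      refine Sigma.ext h1 ?_
      rw [Fin.heq_ext_iff (by rw [h1])]
      simpa [Fin.ext_iff] using hkk
    rw [Nat.card_eq_fintype_card (α := Fin _), Fintype.card_fin] at h3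
    have h4 := Int.toNat_of_nonneg (hw (e j).1).le
    rw [← h4]
    exact Int.ofNat_le.mpr h3

end Groth.Agent.Flat2F.Comb
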