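import Groth.Agent.LoccohB.HomBC2
import Groth.Agent.LoccohB.FinInj

/-!
# Base change of dualizing complexes along flat ring maps: reduction to the closed fibres
-/

set_option autoImplicit false
universe u

open CategoryTheory CategoryTheory.Limits Opposite Pretriangulated
open scoped TensorProduct ChangeOfRings

attribute [local instance] HasDerivedCategory.standard

namespace Groth.Agent.Flat2F.DualBC

open DerivedCategory Groth.Agent.LoccohB.DBase Groth.Agent.LoccohB.FlatLBC
  Groth.Agent.LoccohB.HomBC

variable {A : Type u} (B : Type u) [CommRing A] [CommRing B] [Algebra A B]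
  (h : (algebraMap A B).Flat)

/-- `A = End(ω)` and no higher self maps: base change along flat `A → B`. -/
theorem self_flatBC [IsNoetherianRing A] {ω : Dual.D A} (hω : Dual.IsDualizing A ω) :
    Function.Bijective (fun b : B => b • 𝟙 ((flatBC (algebraMap A B) h).obj ω)) ∧
    ∀ i : ℤ, i ≠ 0 → Subsingleton ((flatBC (algebraMap A B) h).obj ω ⟶
      ((flatBC (algebraMap A B) h).obj ω)⟦i⟧) := by
  obtain ⟨a, b, hge, hle, -⟩ := exists_bounds_of_isDualizing hω
  constructor
  · have h1 := bc_bijective_of_bounded B h ω a b hω.finite_cohomology ω a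
    let e : A ≃ₗ[A] (ω ⟶ ω) := LinearEquiv.ofBijective
      { toFun := fun a : A => a • 𝟙 ω
        map_add' := fun x y => by rw [add_smul]
        map_smul' := fun x y => by simp [mul_smul] } hω.toEnd_bijective
    have h2 : (fun b : B => b • 𝟙 ((flatBC (algebraMap A B) h).obj ω)) =
        (bc A B (flatBC (algebraMap A B) h) ω ω) ∘
          (e.lTensor B) ∘ (TensorProduct.rid A B).symm := by
      ext b
      simp only [Function.comp_apply, TensorProduct.rid_symm_apply]
      rw [LinearEquiv.lTensor_tmul, bc_tmul]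
      congr 1
      change _ = (flatBC (algebraMap A B) h).map ((1 : A) • 𝟙 ω)
      rw [one_smul, CategoryTheory.Functor.map_id]
    rw [h2]
    exact h1.comp ((LinearEquiv.bijective _).comp (LinearEquiv.bijective _))
  · intro i hi
    have h1 := homBCEquiv B h ω a b hω.finite_cohomology ω a i
    have := hω.ext_self_subsingleton i hi
    have : Subsingleton (B ⊗[A] (ω ⟶ ω⟦i⟧)) := inferInstance
    exact h1.symm.toEquiv.subsingleton

/-- A flat base change of a dualizing complex is dualizing as soon as it has finite injective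
dimension, tested on residue fields. -/
theorem isDualizing_flatBC [IsNoetherianRing B] {ω : Dual.D A} (hω : Dual.IsDualizing A ω)
    (H : ∃ b : ℤ, ∀ (n : Ideal B) [n.IsMaximal] (i : ℤ), b < i →
      Subsingleton (Dual.inD B (B ⧸ n) ⟶ ((flatBC (algebraMap A B) h).obj ω)⟦i⟧)) :
    Dual.IsDualizing B ((flatBC (algebraMap A B) h).obj ω) := by
  have := hω.isNoetherianRing
  obtain ⟨a, b', hge, hle, -⟩ := exists_bounds_of_isDualizing hω
  obtain ⟨b, hb⟩ := H
  have hfin : ∀ i, Module.Finite B (Dual.HD B ((flatBC (algebraMap A B) h).obj ω) i) := by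
    intro i
    have := hω.finite_cohomology i
    exact Module.Finite.equiv (flatHDEquiv B h ω i)
  have hge' := isGE_flatBC B h ω a
  exact
    { isNoetherianRing := inferInstance
      finite_injective_dimension := ⟨a, b, fun M _ _ i hi =>
        Groth.Agent.LoccohB.FinInj.finite_injective_dimension_of_maximal _ a b hfin hb M i hi⟩
      finite_cohomology := hfin
      toEnd_bijective := (self_flatBC B h hω).1
      ext_self_subsingleton := (self_flatBC B h hω).2 }

/-- vanishing of `Hom(B ⊗ M, (ω ⊗ B)[i])`. -/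
theorem subsingleton_of_tensor [IsNoetherianRing A] (M : Type u) [AddCommGroup M] [Module A M]
    [Module.Finite A M] (N : Type u) [AddCommGroup N] [Module B N] (e : B ⊗[A] M ≃ₗ[B] N)
    (K : Dual.D A) (a : ℤ) [K.IsGE a] (i : ℤ) (hM : Subsingleton (Dual.inD A M ⟶ K⟦i⟧)) :
    Subsingleton (Dual.inD B N ⟶ ((flatBC (algebraMap A B) h).obj K)⟦i⟧) := by
  have h1 := homBCModuleEquiv B h (ModuleCat.of A M) K a i
  have : Subsingleton (B ⊗[A] (Dual.inD A M ⟶ K⟦i⟧)) := inferInstance
  have h2 : Subsingleton ((singleFunctor (ModuleCat.{u} B) 0).obj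
        ((ModuleCat.extendScalars.{u, u, u} (algebraMap A B)).obj (ModuleCat.of A M)) ⟶
      ((flatBC (algebraMap A B) h).obj K)⟦i⟧) := h1.symm.toEquiv.subsingleton
  let e' : (ModuleCat.extendScalars.{u, u, u} (algebraMap A B)).obj (ModuleCat.of A M) ≅
      ModuleCat.of B N := ((extEquiv A B (ModuleCat.of A M)).symm ≪≫ₗ e).toModuleIso
  exact (Linear.homCongr B ((singleFunctor (ModuleCat.{u} B) 0).mapIso e')
    (Iso.refl _)).symm.toEquiv.subsingleton

/-- Flat base change of a dualizing complex when all residue fields of `B` at maximal ideals are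
base changes of residue fields of `A`: `n = mB`. -/
theorem isDualizing_flatBC_of_maximal [IsNoetherianRing B] {ω : Dual.D A}
    (hω : Dual.IsDualizing A ω)
    (H : ∀ (n : Ideal B) [n.IsMaximal], ∃ J : Ideal A, J.map (algebraMap A B) = n) :
    Dual.IsDualizing B ((flatBC (algebraMap A B) h).obj ω) := by
  have := hω.isNoetherianRing
  obtain ⟨a, b, hge, hle, hab⟩ := exists_bounds_of_isDualizing hω
  refine isDualizing_flatBC B h hω ⟨b, fun n _ i hi => ?_⟩
  obtain ⟨J, rfl⟩ := H n
  have e : B ⊗[A] (A ⧸ J) ≃ₗ[B] (B ⧸ J.map (algebraMap A B)) :=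
    (Algebra.TensorProduct.quotIdealMapEquivTensorQuot B J).symm.toLinearEquiv
  exact subsingleton_of_tensor B h (A ⧸ J) _ e ω a i (hab _ i (Or.inr hi))

end Groth.Agent.Flat2F.DualBC
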