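import Groth.Agent.Flat2F.EtaleFit
import Groth.Agent.Flat2C.Glob
import Mathlib.AlgebraicGeometry.Morphisms.Etale

/-!
# Centres dominated through an étale morphism

`exists_centre` : `e : T ⟶ S` étale, `S` qcqs, `𝓘` an ideal sheaf of finite type on `T` with support disjoint from
`e ⁻¹ U`.  Around every point `t` of `T` there are an open `V` and an ideal sheaf `K` on `S`, admissible for `U`, such
that the inverse image of `K` on `V` is a multiple of `𝓘|_V`.
-/

set_option autoImplicit false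
universe u

open CategoryTheory AlgebraicGeometry Limits TopologicalSpace

namespace Groth.Agent.Flat2F.EtaleCentre

open Groth.Agent.Divis.IdealComap Groth.Agent.Divis.EffCartier Groth.Agent.Divis.BlowUpFormal
  Groth.Agent.Divis.IdealFT Groth.Agent.Divis.CartierBasic Groth.Agent.Flat2C.Glob
  Groth.Agent.Flat2F.EtaleFit

variable {S T : Scheme.{u}}

/-- An ideal which contains up to radical the ideal of the complement of `U` is trivial on `U`. -/
lemma map_eq_top_of_le_radical {U : S.Opens} {I : S.IdealSheafData} (hI : (I.support : Set S) = (U : Set S)ᶜ)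
    (W : S.affineOpens) (J : Ideal Γ(S, W.1)) (hJ : I.ideal W ≤ J.radical)
    (V : S.affineOpens) (hVU : V.1 ≤ U) (hVW : V.1 ≤ W.1) :
    J.map (S.presheaf.map (homOfLE hVW).op).hom = ⊤ := by
  have h1 : I.ideal V = ⊤ := ideal_eq_top_of_disjoint I V (by
    rw [hI]; exact Set.disjoint_left.mpr fun x hx hxV ↦ hx (hVU hxV))
  have h3 := Ideal.map_mono (f := (S.presheaf.map (homOfLE hVW).op).hom) hJ
  have h3' : (⊤ : Ideal Γ(S, V.1)) ≤ J.radical.map (S.presheaf.map (homOfLE hVW).op).hom := by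
    rw [← h1, ← I.map_ideal (U := V) (V := W) hVW]
    exact h3
  have h4 := h3'.trans (Ideal.map_radical_le _)
  rw [top_le_iff, Ideal.radical_eq_top] at h4
  exact h4

theorem exists_centre [CompactSpace S] [QuasiSeparatedSpace S] (U : S.Opens) (hU : IsCompact (U : Set S))
    (e : T ⟶ S) [Etale e] (𝓘 : T.IdealSheafData) (hft : BlowUp.IsFiniteTypeIdeal 𝓘)
    (hsupp : Disjoint (𝓘.support : Set T) ((e ⁻¹ᵁ U : T.Opens) : Set T)) (t : T) :
    ∃ (V : T.Opens) (K : S.IdealSheafData) (J' : V.toScheme.IdealSheafData), t ∈ V ∧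
      BlowUp.IsAdmissibleFor U K ∧ K.comap (V.ι ≫ e) = 𝓘.comap V.ι * J' := by
  obtain ⟨I₀, hI₀ft, hI₀⟩ := exists_ft_support_eq_compl U hU
  obtain ⟨W, V₀, htW, htV, -, -, hle⟩ := exists_affine_le e t ⊤ trivial ⊤ trivial
  let φ : Γ(S, W.1) ⟶ Γ(T, V₀.1) := e.appLE W.1 V₀.1 hle
  let : Algebra Γ(S, W.1) Γ(T, V₀.1) := φ.hom.toAlgebra
  have : Algebra.Etale Γ(S, W.1) Γ(T, V₀.1) := by
    have h := HasRingHomProperty.appLE (P := @Etale) e inferInstance W V₀ hle
    exact h
  have h𝔞 : (I₀.ideal W).map (algebraMap Γ(S, W.1) Γ(T, V₀.1)) ≤ (𝓘.ideal V₀).radical := by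
    have h1 : (I₀.comap e).ideal V₀ ≤ (𝓘.ideal V₀).radical := by
      refine ideal_le_radical_of_support V₀ ?_
      rintro x ⟨hx, -⟩
      have h2 : x ∉ ((e ⁻¹ᵁ U : T.Opens) : Set T) := Set.disjoint_left.mp hsupp hx
      rw [Scheme.IdealSheafData.support_comap]
      change e x ∈ (I₀.support : Set S)
      rw [hI₀]
      exact h2
    rw [ideal_comap _ e W V₀ hle] at h1
    exact h1
  obtain ⟨I, g, J', hIfg, hIrad, hg, hfit⟩ := exists_etale_fit' (I₀.ideal W) (hI₀ft W) (𝓘.ideal V₀) (hft V₀) h𝔞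
    (V₀.2.primeIdealOf ⟨t, htV⟩).asIdeal
  obtain ⟨K, hKft, hKW, hKU⟩ := exists_extend U hU W I hIfg
    (fun V hVU hVW ↦ map_eq_top_of_le_radical hI₀ W I hIrad V hVU hVW)
  let V : T.Opens := T.basicOpen g
  have hVV₀ : V ≤ V₀.1 := T.basicOpen_le g
  have htV' : t ∈ V := by
    have := V₀.2.isLocalization_stalk ⟨t, htV⟩
    change t ∈ T.basicOpen g
    rw [Scheme.mem_basicOpen _ _ _ htV]
    let := T.presheaf.algebra_section_stalk (⟨t, htV⟩ : V₀.1)
    exact IsLocalization.map_units (T.presheaf.stalk t)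
      (⟨g, hg⟩ : (V₀.2.primeIdealOf ⟨t, htV⟩).asIdeal.primeCompl)
  have hVaff : IsAffineOpen V := V₀.2.basicOpen g
  have : IsAffine V.toScheme := hVaff
  let top : V.toScheme.affineOpens := ⟨⊤, isAffineOpen_top V.toScheme⟩
  have htopV₀ : top.1 ≤ V.ι ⁻¹ᵁ V₀.1 := by
    intro x _
    exact hVV₀ x.2
  have htopW : top.1 ≤ (V.ι ≫ e) ⁻¹ᵁ W.1 := by
    intro x _
    exact hle (hVV₀ x.2)
  -- the restriction map
  let ρ : Γ(T, V₀.1) ⟶ Γ(V.toScheme, top.1) := V.ι.appLE V₀.1 top.1 htopV₀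
  have hρg : IsUnit (ρ.hom g) := by
    have h1 : IsUnit ((T.presheaf.map (homOfLE hVV₀).op).hom g) := T.toRingedSpace.isUnit_res_basicOpen g
    have h2 : T.presheaf.map (homOfLE hVV₀).op ≫ V.ι.appLE V top.1 (fun x _ => x.2) = ρ :=
      Scheme.Hom.map_appLE _ _ _
    rw [← h2]
    exact h1.map (V.ι.appLE V top.1 (fun x _ => x.2)).hom
  let ψ : Localization.Away g →+* Γ(V.toScheme, top.1) := IsLocalization.Away.lift g hρg
  have hψ : ψ.comp (algebraMap Γ(T, V₀.1) (Localization.Away g)) = ρ.hom := by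
    exact IsLocalization.Away.lift_comp g hρg
  refine ⟨V, K, Scheme.IdealSheafData.ofIdealTop (J'.map ψ), htV', ⟨hKft, ?_⟩, ?_⟩
  · exact disjoint_support_of_ideal_eq_top K U hKU
  · apply Scheme.IdealSheafData.ext_of_isAffine
    change (K.comap (V.ι ≫ e)).ideal top = (𝓘.comap V.ι * _).ideal top
    have h1 : (Scheme.IdealSheafData.ofIdealTop (J'.map ψ)).ideal top = J'.map ψ := by
      rw [Scheme.IdealSheafData.ofIdealTop_ideal]
      change (J'.map ψ).map (V.toScheme.presheaf.map (𝟙 _)).hom = _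
      rw [CategoryTheory.Functor.map_id]
      exact Ideal.map_id _
    rw [Scheme.IdealSheafData.ideal_mul, Pi.mul_apply, ideal_comap K (V.ι ≫ e) W top htopW,
      ideal_comap 𝓘 V.ι V₀ top htopV₀, hKW, h1]
    have h2 := congrArg (Ideal.map ψ) hfit
    rw [Ideal.map_mul, Ideal.map_map, Ideal.map_map, hψ] at h2
    rw [← h2]
    congr 1
    rw [IsScalarTower.algebraMap_eq Γ(S, W.1) Γ(T, V₀.1) (Localization.Away g), ← RingHom.comp_assoc, hψ]
    change _ = (φ ≫ ρ).hom
    congr 1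
    exact (Scheme.Hom.appLE_comp_appLE _ _ _ _ _ _ _).symm

end Groth.Agent.Flat2F.EtaleCentre
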