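import Groth.Agent.S1271

/-!
# Products of ideals through etale ring maps (Stacks 0813, general centre)

`exists_etale_fit` : for `A → B` étale, `J` a finitely generated ideal of `B`, `s` a finite set of
elements of `A` which lie in the radical of `J` and `q` a prime of `B` there is a finitely generated
ideal `I` of `A` containing powers of the elements of `s`, and `g ∉ q`, with
`I B_g = (J B_g) J'`.
-/

set_option autoImplicit false
universe u

namespace Groth.Agent.Flat2F.EtaleFit

open TensorProduct Groth.Agent.S1271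

theorem exists_etale_fit {A B : Type u} [CommRing A] [CommRing B] [Algebra A B] [Algebra.Etale A B]
    (s : Finset A) (J : Ideal B) (hJ : J.FG) (hJa : ∀ a ∈ s, algebraMap A B a ∈ J.radical)
    (q : Ideal B) [q.IsPrime] :
    ∃ (I : Ideal A) (g : B) (J' : Ideal (Localization.Away g)), I.FG ∧ (∀ a ∈ s, a ∈ I.radical) ∧
      g ∉ q ∧
      I.map (algebraMap A (Localization.Away g)) = J.map (algebraMap B (Localization.Away g)) * J' := by
  classical
  obtain ⟨g, hgq, hst⟩ := Algebra.IsEtaleAt.exists_isStandardEtale (R := A) q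
  obtain ⟨P⟩ := hst.nonempty_standardEtalePresentation
  let C := AdjoinRoot P.f
  let e := (AdjoinRoot.powerBasis' P.monic_f).basis
  let ε : C →ₐ[A] (Localization.Away g) := AdjoinRoot.liftAlgHom P.f (Algebra.ofId A _) P.x P.hasMap.1
  have hεroot : ε (AdjoinRoot.root P.f) = P.x := AdjoinRoot.liftAlgHom_root _ (Algebra.ofId A _) P.x P.hasMap.1
  obtain ⟨e₁, he₁, hε1⟩ := exists_idem P.f P.x P.hasMap.1 P.hasMap.isUnit_derivative_f ε hεroot
  have hεmk : ∀ p, ε (AdjoinRoot.mk P.f p) = Polynomial.aeval P.x p := by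
    intro p
    rw [← AdjoinRoot.aeval_eq, ← Polynomial.aeval_algHom_apply, hεroot]
  -- lift generators of `J` to `C`
  set JB := J.map (algebraMap B (Localization.Away g)) with hJB
  have hJBfg : JB.FG := hJ.map _
  obtain ⟨T, hT⟩ := hJBfg
  obtain ⟨v, hv⟩ := P.hasMap.2
  have hlift : ∀ t : Localization.Away g, ∃ c : C, ∃ w : (Localization.Away g)ˣ, ε c = t * w := by
    intro t
    obtain ⟨p, n, hp⟩ := P.exists_mul_aeval_x_g_pow_eq_aeval_x t
    refine ⟨AdjoinRoot.mk P.f p, v ^ n, ?_⟩
    rw [hεmk, ← hp, Units.val_pow_eq_pow_val, hv]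
  choose cl wl hcl using hlift
  have hJa' : ∀ a : A, ∃ m : ℕ, a ∈ s → algebraMap A B a ^ m ∈ J := by
    intro a
    by_cases ha : a ∈ s
    · obtain ⟨m, hm⟩ := hJa a ha
      exact ⟨m, fun _ => hm⟩
    · exact ⟨0, fun h => absurd h ha⟩
  choose m hm using hJa'
  let S₀ : Finset C := (s.image fun a => algebraMap A C (a ^ m a)) ∪ (T.image cl)
  let JC : Ideal C := Ideal.span S₀
  have hJCmap : JC.map ε.toRingHom = JB := by
    rw [Ideal.map_span]
    apply le_antisymm
    · rw [Ideal.span_le]
      rintro _ ⟨c, hc, rfl⟩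
      rw [Finset.mem_coe, Finset.mem_union, Finset.mem_image, Finset.mem_image] at hc
      rcases hc with ⟨a, ha, rfl⟩ | ⟨t, ht, rfl⟩
      · have h1 : ε (algebraMap A C (a ^ m a)) = algebraMap B (Localization.Away g) (algebraMap A B a ^ m a) := by
          rw [ε.commutes, IsScalarTower.algebraMap_apply A B (Localization.Away g), map_pow]
        change ε (algebraMap A C (a ^ m a)) ∈ JB
        rw [h1]
        exact Ideal.mem_map_of_mem _ (hm a ha)
      · change ε (cl t) ∈ JB
        rw [hcl, ← hT]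
        exact Ideal.mul_mem_right _ _ (Ideal.subset_span ht)
    · rw [← hT, Ideal.span_le]
      intro t ht
      have h1 : t = ε (cl t) * ↑(wl t)⁻¹ := by
        rw [hcl, mul_assoc, Units.mul_inv, mul_one]
      rw [h1]
      exact Ideal.mul_mem_right _ _ (Ideal.subset_span ⟨cl t, by
        rw [Finset.mem_coe, Finset.mem_union, Finset.mem_image, Finset.mem_image]
        exact Or.inr ⟨t, ht, rfl⟩, rfl⟩)
  have hfinC : Module.Finite A C := Module.Finite.of_basis e
  have hJCfin : Module.Finite A JC := by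
    have : Module.Finite C JC := Module.Finite.iff_fg.mpr ⟨S₀, rfl⟩
    exact Module.Finite.trans C JC
  obtain ⟨S, hS⟩ : (JC.restrictScalars A).FG := Module.Finite.iff_fg.mp hJCfin
  have hSmem : ∀ x, x ∈ Submodule.span A (S : Set C) ↔ x ∈ JC := by
    intro x; rw [hS]; rfl
  have hS2 : ∀ c ∈ (S : Set C), ∀ x : C, x * c ∈ Submodule.span A (S : Set C) := by
    intro c hc x
    rw [hSmem]
    exact Ideal.mul_mem_left _ _ ((hSmem c).mp (Submodule.subset_span hc))
  have hS3 : Ideal.span (S : Set C) = JC := by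
    apply le_antisymm
    · rw [Ideal.span_le]; intro c hc; exact (hSmem c).mp (Submodule.subset_span hc)
    · intro x hx
      exact Submodule.span_le_restrictScalars A C (S : Set C) ((hSmem x).mpr hx)
  have hS4 : Ideal.span (ε '' (S : Set C)) = JB := by
    rw [← hJCmap, ← hS3, Ideal.map_span]; rfl
  have hkey := key e ε e₁ he₁ hε1 (S : Set C) hS2
  rw [hS4] at hkey
  refine ⟨_, g, _, ?_, ?_, hgq, hkey⟩
  · refine ⟨((Set.Finite.pi' (fun _ => S.finite_toSet)).image (fun v => e.det v)).toFinset, ?_⟩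
    congr 1
    ext d
    rw [Set.Finite.coe_toFinset]
    rfl
  · intro a ha
    have h1 := multilinear_mem_of_span (e.det).toMultilinearMap
      (fun _ => (S : Set C)) (Ideal.span {d | ∃ v, (∀ i, v i ∈ (S : Set C)) ∧ e.det v = d}) (fun v hv => Ideal.subset_span ⟨v, hv, rfl⟩)
      (fun i => (a ^ m a) • e i) (fun i => by
        rw [hSmem, Algebra.smul_def]
        refine Ideal.mul_mem_right _ _ (Ideal.subset_span ?_)
        rw [Finset.mem_coe, Finset.mem_union, Finset.mem_image, Finset.mem_image]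
        exact Or.inl ⟨a, ha, rfl⟩)
    rw [MultilinearMap.map_smul_univ] at h1
    simp only [AlternatingMap.coe_multilinearMap, Finset.prod_const, e.det_self, smul_eq_mul, mul_one] at h1
    rw [← pow_mul] at h1
    exact ⟨_, h1⟩

/-- Variant with an ideal `𝔞` of `A` in place of a finite set of elements. -/
theorem exists_etale_fit' {A B : Type u} [CommRing A] [CommRing B] [Algebra A B] [Algebra.Etale A B]
    (𝔞 : Ideal A) (h𝔞 : 𝔞.FG) (J : Ideal B) (hJ : J.FG) (hJa : 𝔞.map (algebraMap A B) ≤ J.radical)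
    (q : Ideal B) [q.IsPrime] :
    ∃ (I : Ideal A) (g : B) (J' : Ideal (Localization.Away g)), I.FG ∧ 𝔞 ≤ I.radical ∧
      g ∉ q ∧
      I.map (algebraMap A (Localization.Away g)) = J.map (algebraMap B (Localization.Away g)) * J' := by
  obtain ⟨s, hs⟩ := h𝔞
  obtain ⟨I, g, J', h1, h2, h3, h4⟩ := exists_etale_fit s J hJ (fun a ha => hJa
    (Ideal.mem_map_of_mem _ (hs ▸ Ideal.subset_span ha))) q
  refine ⟨I, g, J', h1, ?_, h3, h4⟩
  rw [← hs, Ideal.span_le]
  exact h2

end Groth.Agent.Flat2F.EtaleFit
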