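import Groth.Agent.Flat2C.StrictMPull
import Groth.Agent.Divis.BlowUpFormal
import Mathlib.AlgebraicGeometry.Morphisms.Etale

/-!
# Flatness of strict transforms is étale local
-/

set_option autoImplicit false
universe u

open CategoryTheory CategoryTheory.Limits AlgebraicGeometry TopologicalSpace Opposite

namespace Groth.Agent.Flat2F.EtaleStrict

open Groth.Agent.Divis.CartierBasic Groth.Agent.Divis.IdealComap Groth.Agent.Divis.EffCartier
  Groth.Agent.Divis.BlowUpFormal Groth.Agent.Flat2C.StrictM Groth.Agent.Flat2C.StrictMPull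
  Groth.Agent.Fdesc.PullbackStalk Groth.Agent.CycB.StalkExact Groth.Agent.Flat2C

/-- If `G` is flat over `T` at `y` then `G_y` is torsion free for the inverse image of an effective Cartier ideal. -/
theorem torsFree_of_isFlatOverAt {Y T : Scheme.{u}} (d : Y ⟶ T) {D : T.IdealSheafData}
    (hD : BlowUp.IsEffCartierIdeal D) (G : Y.Modules) (y : Y) (h : FlatMod.IsFlatOverAt d G y) :
    PowTors.TorsFree (stalkIdeal (D.comap d) y) (G.presheaf.stalk y) := by
  let := stalkAlg d y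
  let := FlatMod.moduleStalkOver d G y
  have := isScalarTower d G y
  have h' : Module.Flat (T.presheaf.stalk (d.base y)) (G.presheaf.stalk y) := h
  obtain ⟨g, hg, hgD⟩ := exists_stalkIdeal_eq_span hD (d.base y)
  rw [Groth.Agent.Divis.CartierStalk.stalkIdeal_comap]
  have h1 : (stalkIdeal D (d y)).map (d.stalkMap y).hom =
      Ideal.span {algebraMap (T.presheaf.stalk (d.base y)) (Y.presheaf.stalk y) g} := by
    have h2 : (stalkIdeal D (d.base y)).map (d.stalkMap y).hom = Ideal.span {(d.stalkMap y).hom g} := by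
      rw [hgD, Ideal.map_span, Set.image_singleton]
    exact h2
  rw [h1]
  exact PowTors.torsFree_of_flat hg

variable {X S : Scheme.{u}}

/-- The local statement. -/
theorem isFlatOverAt_of_etale_local (f : X ⟶ S) (F : X.Modules) (𝓙 : S.IdealSheafData)
    (hJ : BlowUp.IsFiniteTypeIdeal 𝓙) {S' : Scheme.{u}} (b' : S' ⟶ S)
    (hb' : BlowUp.IsEffCartierIdeal (𝓙.comap b'))
    {S₁ X₁ : Scheme.{u}} (e : S₁ ⟶ S) (j : X₁ ⟶ X) (f₁ : X₁ ⟶ S₁) [Etale e] [Etale j]
    (hcomm : j ≫ f = f₁ ≫ e) (𝓘 : S₁.IdealSheafData) (hI : BlowUp.IsFiniteTypeIdeal 𝓘)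
    {Sst : Scheme.{u}} (b : Sst ⟶ S₁) (hb : BlowUp.IsBlowUp b 𝓘)
    (hflat : ∀ (X' : Scheme.{u}) (p₁ : X' ⟶ X₁) (p₂ : X' ⟶ Sst), IsPullback p₁ p₂ f₁ b →
      ∀ (G : X'.Modules) (π : (Scheme.Modules.pullback p₁).obj ((Scheme.Modules.pullback j).obj F) ⟶ G),
        BlowUp.IsStrictTransform p₁ (𝓘.comap f₁) ((Scheme.Modules.pullback j).obj F) G π →
        FlatMod.IsFlatOver p₂ G)
    (V : S₁.Opens) (K : S.IdealSheafData) (J' : V.toScheme.IdealSheafData)
    (hK : K.comap (V.ι ≫ e) = 𝓘.comap V.ι * J') (hKJ : K ∣ 𝓙)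
    {X' : Scheme.{u}} (p₁ : X' ⟶ X) (p₂ : X' ⟶ S') (H : IsPullback p₁ p₂ f b')
    (G : X'.Modules) (π : (Scheme.Modules.pullback p₁).obj F ⟶ G)
    (hG : BlowUp.IsStrictTransform p₁ (𝓙.comap f) F G π)
    (x' : X') (y₁ : X₁) (hy₁ : f₁ y₁ ∈ V) (hx' : p₁ x' = j y₁) :
    FlatMod.IsFlatOverAt p₂ G x' := by
  obtain ⟨C, rfl⟩ := hKJ
  set 𝓙 := K * C with h𝓙
  -- the base `T = V ×_S S'`
  let T := pullback (V.ι ≫ e) b'
  let r₀ : T ⟶ V := pullback.fst _ _
  let q : T ⟶ S' := pullback.snd _ _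
  have HT : IsPullback r₀ q (V.ι ≫ e) b' := IsPullback.of_hasPullback _ _
  have : Flat q := inferInstance
  have hD : BlowUp.IsEffCartierIdeal ((𝓙.comap b').comap q) := isEff_comap_flat hb' q
  have hDr : (𝓙.comap b').comap q = (𝓘.comap (r₀ ≫ V.ι)) * ((J'.comap r₀) * (C.comap (r₀ ≫ V.ι ≫ e))) := by
    rw [← Scheme.IdealSheafData.comap_comp, ← HT.w, h𝓙, comap_mul, Scheme.IdealSheafData.comap_comp, hK, comap_mul,
      mul_assoc, ← Scheme.IdealSheafData.comap_comp]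
  have hIr : BlowUp.IsEffCartierIdeal (𝓘.comap (r₀ ≫ V.ι)) := by
    rw [hDr] at hD
    exact isEff_of_mul hD
  obtain ⟨h, hh, -⟩ := hb.2 T (r₀ ≫ V.ι) hIr
  -- the open `Y` of `X₁`
  let Y := pullback f₁ V.ι
  let a : Y ⟶ X₁ := pullback.fst _ _
  let fY : Y ⟶ V := pullback.snd _ _
  have HY : IsPullback a fY f₁ V.ι := IsPullback.of_hasPullback _ _
  let Y' := pullback fY r₀
  let α : Y' ⟶ Y := pullback.fst _ _
  let d : Y' ⟶ T := pullback.snd _ _
  have HY' : IsPullback α d fY r₀ := IsPullback.of_hasPullback _ _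
  have Hbig : IsPullback α (d ≫ q) (fY ≫ V.ι ≫ e) b' := HY'.flip.paste_horiz HT.flip |>.flip
  have hfe : fY ≫ V.ι ≫ e = (a ≫ j) ≫ f := by
    rw [← Category.assoc, ← HY.w, Category.assoc, ← hcomm, Category.assoc]
  rw [hfe] at Hbig
  let c : Y' ⟶ X' := H.lift (α ≫ a ≫ j) (d ≫ q) (by rw [← Hbig.w]; simp only [Category.assoc])
  have hc₁ : c ≫ p₁ = α ≫ a ≫ j := H.lift_fst _ _ _
  have hc₂ : c ≫ p₂ = d ≫ q := H.lift_snd _ _ _
  have Hc : IsPullback c α p₁ (a ≫ j) :=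
    IsPullback.of_right (h₁₂ := p₂) (h₂₂ := f) (v₁₃ := b') (by rw [hc₂]; exact Hbig.flip) hc₁ H.flip
  have hfc : Flat c := MorphismProperty.of_isPullback Hc.flip inferInstance
  -- the strict transform over `S₁`
  let Xs := pullback f₁ b
  let u : Xs ⟶ X₁ := pullback.fst _ _
  let v : Xs ⟶ Sst := pullback.snd _ _
  have HX : IsPullback u v f₁ b := IsPullback.of_hasPullback _ _
  have Hbig₂ : IsPullback (α ≫ a) d f₁ (r₀ ≫ V.ι) := HY'.flip.paste_vert HY.flip |>.flip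
  rw [← hh] at Hbig₂
  let cs : Y' ⟶ Xs := HX.lift (α ≫ a) (d ≫ h) (by rw [Hbig₂.w, Category.assoc])
  have hcs₁ : cs ≫ u = α ≫ a := HX.lift_fst _ _ _
  have hcs₂ : cs ≫ v = d ≫ h := HX.lift_snd _ _ _
  have Hcs : IsPullback cs d v h :=
    IsPullback.of_right (h₁₂ := u) (h₂₂ := b) (v₁₃ := f₁) (by rw [hcs₁]; exact Hbig₂) hcs₂ HX
  obtain ⟨G₁, π₁, hπ₁⟩ := exists_isStrictTransform u (isFiniteTypeIdeal_comap f₁ hI) ((Scheme.Modules.pullback j).obj F)
  have hG₁ : FlatMod.IsFlatOver v G₁ := hflat Xs u v HX G₁ π₁ hπ₁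
  rw [isStrictTransform_iff u (isFiniteTypeIdeal_comap f₁ hI)] at hπ₁
  rw [isStrictTransform_iff p₁ (isFiniteTypeIdeal_comap f hJ)] at hG
  -- the point
  obtain ⟨y, hy, -⟩ := Scheme.Pullback.exists_preimage_pullback (f := f₁) (g := V.ι) y₁ ⟨f₁ y₁, hy₁⟩ rfl
  obtain ⟨y', hy'c, -⟩ := Scheme.exists_preimage_of_isPullback Hc x' y (by
    change p₁ x' = (a ≫ j) y
    rw [hx', ← hy]
    rfl)
  -- the two torsion quotients
  let E' : Y'.IdealSheafData := ((𝓙.comap f).comap p₁).comap c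
  have hE'ft : BlowUp.IsFiniteTypeIdeal ((𝓙.comap f).comap p₁) :=
    isFiniteTypeIdeal_comap p₁ (isFiniteTypeIdeal_comap f hJ)
  have hQ : IsTorsQuot E' ((Scheme.Modules.pullback c).map π) := isTorsQuot_pullback_flat c hE'ft hG
  have hflat₁ : FlatMod.IsFlatOverAt d ((Scheme.Modules.pullback cs).obj G₁) y' :=
    Groth.Agent.Fdesc.FlatBC.isFlatOverAt_pullback Hcs G₁ y' (hG₁ _)
  have hE'eq : E' = ((𝓙.comap b').comap q).comap d := by
    simp only [E', ← Scheme.IdealSheafData.comap_comp]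
    congr 1
    rw [Category.assoc, H.w, reassoc_of% hc₂]
  have hcsI : ((𝓘.comap f₁).comap u).comap cs = (𝓘.comap (r₀ ≫ V.ι)).comap d := by
    simp only [← Scheme.IdealSheafData.comap_comp]
    congr 1
    rw [HX.w, reassoc_of% hcs₂, hh]
  have hle : stalkIdeal E' y' ^ 1 ≤ stalkIdeal (((𝓘.comap f₁).comap u).comap cs) y' := by
    rw [pow_one, hcsI, hE'eq, hDr, comap_mul, stalkIdeal_mul]
    exact Ideal.mul_le_left
  have hfree : PowTors.TorsFree (stalkIdeal E' y')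
      (((Scheme.Modules.pullback cs).obj G₁).presheaf.stalk y') := by
    rw [hE'eq]
    exact torsFree_of_isFlatOverAt d hD _ y' hflat₁
  have hQ₁ : PowTors.IsTorsQuot (stalkIdeal E' y') (stalkLin ((Scheme.Modules.pullback cs).map π₁) y') :=
    isTorsQuotAt_pullback_of_torsFree cs hπ₁ E' y' 1 hle hfree
  -- the comparison
  have hcomp : c ≫ p₁ = (cs ≫ u) ≫ j := by rw [hc₁, hcs₁, Category.assoc]
  let Φ : (Scheme.Modules.pullback c).obj ((Scheme.Modules.pullback p₁).obj F) ≅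
      (Scheme.Modules.pullback cs).obj ((Scheme.Modules.pullback u).obj ((Scheme.Modules.pullback j).obj F)) :=
    (Scheme.Modules.pullbackComp c p₁).app F ≪≫ (Scheme.Modules.pullbackCongr hcomp).app F ≪≫
      ((Scheme.Modules.pullbackComp (cs ≫ u) j).app F).symm ≪≫
      ((Scheme.Modules.pullbackComp cs u).app ((Scheme.Modules.pullback j).obj F)).symm
  have hQ₂ := hQ₁.comp_equiv (stalkLinEquiv Φ y')
  obtain ⟨ε, -⟩ := hQ₂.exists_equiv (hQ y')
  have h1 : FlatMod.IsFlatOverAt d ((Scheme.Modules.pullback c).obj G) y' := isFlatOverAt_of_equiv d y' ε hflat₁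
  have h2 : FlatMod.IsFlatOverAt (d ≫ q) ((Scheme.Modules.pullback c).obj G) y' := isFlatOverAt_comp d q _ y' h1
  rw [← hc₂] at h2
  have h3 := isFlatOverAt_of_flat_source c p₂ G y' h2
  rw [← hy'c]
  exact h3

end Groth.Agent.Flat2F.EtaleStrict
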