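import Groth.Prelude.Def_MoreMor
import Mathlib.AlgebraicGeometry.Morphisms.QuasiFinite
import Mathlib.AlgebraicGeometry.Pullbacks

/-!
Fibre integrals (Stacks 0F39 ff.) computed with geometric points.
-/

set_option autoImplicit false
universe u

namespace Groth.Agent.Flat2F.FibreIntegral

open AlgebraicGeometry CategoryTheory Limits

lemma finsum_comp_card {α β : Type*} (p : α → β) (w : β → ℤ)
    (hfin : ∀ b, Finite {a // p a = b}) (hne : ∀ b, Nonempty {a // p a = b}) :
    ∑ᶠ a, w (p a) = ∑ᶠ b, w b * (Nat.card {a // p a = b} : ℤ) := by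
  classical
  have hpos : ∀ b, (Nat.card {a // p a = b} : ℤ) ≠ 0 := fun b => by
    have := hfin b
    have := hne b
    exact_mod_cast Nat.card_pos.ne'
  have hsupp : Function.support (fun b => w b * (Nat.card {a // p a = b} : ℤ)) =
      Function.support w := by
    ext b
    simp only [Function.mem_support, ne_eq, mul_eq_zero, not_or]
    exact ⟨fun h => h.1, fun h => ⟨h, hpos b⟩⟩
  have hsupp' : Function.support (fun a => w (p a)) = p ⁻¹' (Function.support w) := by
    ext a; simp
  by_cases hw : (Function.support w).Finite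
  · have h1 : (Function.support (fun a => w (p a))).Finite := by
      rw [hsupp']
      refine hw.preimage' fun b _ => ?_
      exact Set.finite_coe_iff.mp (hfin b)
    rw [finsum_eq_sum_of_support_subset (s := h1.toFinset) _ (by simp),
      finsum_eq_sum_of_support_subset (s := hw.toFinset) _ (by simp [hsupp])]
    rw [← Finset.sum_fiberwise_of_maps_to (s := h1.toFinset) (t := hw.toFinset) (g := p)]
    · refine Finset.sum_congr rfl fun b hb => ?_
      have hb' : w b ≠ 0 := by simpa using hb
      have h2 : ∀ a ∈ h1.toFinset.filter (fun a => p a = b), w (p a) = w b := by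
        intro a ha
        rw [(Finset.mem_filter.mp ha).2]
      rw [Finset.sum_congr rfl h2, Finset.sum_const, nsmul_eq_mul, mul_comm]
      congr 2
      have hset : {a | p a = b} = ((h1.toFinset.filter (fun a => p a = b) : Finset α) : Set α) := by
        ext a
        simp only [Set.mem_ofPred_eq, Finset.coe_filter, Set.Finite.mem_toFinset,
          Function.mem_support]
        exact ⟨fun h => ⟨h ▸ hb', h⟩, fun h => h.2⟩
      have h3 : Nat.card {a // p a = b} = Set.ncard {a | p a = b} := rfl
      rw [h3, hset, Set.ncard_coe_finset]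
    · intro a ha
      simpa using ha
  · rw [finsum_of_infinite_support, finsum_of_infinite_support]
    · rw [hsupp]; exact hw
    · rw [hsupp']
      intro hf
      apply hw
      refine (hf.image p).subset ?_
      intro b hb
      obtain ⟨a, rfl⟩ := hne b
      exact ⟨a, hb, rfl⟩

/-- The residue field extension at a point of a locally quasi-finite morphism is finite. -/
lemma finite_residueFieldMap {X Y : Scheme.{u}} (f : X ⟶ Y) [LocallyQuasiFinite f] (x : X) :
    (f.residueFieldMap x).hom.Finite := by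
  have h1 : LocallyQuasiFinite (Spec.map (f.residueFieldMap x) ≫ Y.fromSpecResidueField (f x)) := by
    rw [Scheme.Hom.SpecMap_residueFieldMap_fromSpecResidueField]
    infer_instance
  have h2 : LocallyQuasiFinite (Spec.map (f.residueFieldMap x)) := .of_comp _ (Y.fromSpecResidueField (f x))
  rw [HasRingHomProperty.Spec_iff (P := @LocallyQuasiFinite)] at h2
  let := (f.residueFieldMap x).hom.toAlgebra
  have h3 : Algebra.QuasiFinite (Y.residueField (f x)) (X.residueField x) := h2
  exact (Module.Finite.of_quasiFinite : Module.Finite (Y.residueField (f x)) (X.residueField x))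

/-- The point of `Spec K`. -/
noncomputable def pt (K : Type u) [Field K] : ↥(Spec (CommRingCat.of K)) :=
  IsLocalRing.closedPoint K

lemma exists_ptMap {Y : Scheme.{u}} {K : Type u} [Field K] (ω : Spec (.of K) ⟶ Y) :
    ∃ φ : Y.residueField (ω (pt K)) ⟶ .of K, Spec.map φ ≫ Y.fromSpecResidueField (ω (pt K)) = ω :=
  ⟨(Scheme.SpecToEquivOfField K Y ω).2, (Scheme.SpecToEquivOfField K Y).left_inv ω⟩

/-- The residue field map of a `K`-valued point. -/
noncomputable def ptMap {Y : Scheme.{u}} {K : Type u} [Field K] (ω : Spec (.of K) ⟶ Y) :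
    Y.residueField (ω (pt K)) ⟶ .of K := (exists_ptMap ω).choose

lemma ptMap_fromSpec {Y : Scheme.{u}} {K : Type u} [Field K] (ω : Spec (.of K) ⟶ Y) :
    Spec.map (ptMap ω) ≫ Y.fromSpecResidueField (ω (pt K)) = ω :=
  (exists_ptMap ω).choose_spec

/-- Points of `X` with values in a field `K` lying over a given `K`-valued point of `Y` and
supported at a given point. -/
noncomputable def liftEquiv {X Y : Scheme.{u}} (f : X ⟶ Y) (K : Type u) [Field K]
    (ω : Spec (.of K) ⟶ Y) (x : X) (hx : f x = ω (pt K)) :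
    {s : Spec (.of K) ⟶ X // s ≫ f = ω ∧ s (pt K) = x} ≃
      {ψ : X.residueField x ⟶ .of K // f.residueFieldMap x ≫ ψ =
        (Y.residueFieldCongr hx).hom ≫ ptMap ω} where
  toFun s := ⟨(X.residueFieldCongr s.2.2).inv ≫ ptMap s.1, by
    obtain ⟨s, rfl, rfl⟩ := s
    rw [← Spec.map_inj, ← cancel_mono (Y.fromSpecResidueField _)]
    simp only [Spec.map_comp, Category.assoc, Scheme.residueFieldCongr_refl, Iso.refl_inv,
      Scheme.Hom.SpecMap_residueFieldMap_fromSpecResidueField,
      Scheme.residueFieldCongr_fromSpecResidueField, ptMap_fromSpec]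
    rw [Spec.map_id, Category.id_comp]
    exact congr($(ptMap_fromSpec s) ≫ f)⟩
  invFun ψ := ⟨Spec.map ψ.1 ≫ X.fromSpecResidueField x, by
    rw [Category.assoc, ← Scheme.Hom.SpecMap_residueFieldMap_fromSpecResidueField,
      ← Spec.map_comp_assoc, ψ.2]
    simp [ptMap_fromSpec], by
    rw [Scheme.Hom.comp_apply, Scheme.fromSpecResidueField_apply]⟩
  left_inv s := by
    obtain ⟨s, rfl, rfl⟩ := s
    simp [ptMap_fromSpec]
  right_inv ψ := by
    obtain ⟨ψ, hψ⟩ := ψ
    ext1
    rw [← Spec.map_inj, ← cancel_mono (X.fromSpecResidueField _), Spec.map_comp]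
    simp only [Category.assoc,
      Scheme.residueFieldCongr_inv, Scheme.residueFieldCongr_fromSpecResidueField, ptMap_fromSpec]

lemma card_lift {X Y : Scheme.{u}} (f : X ⟶ Y) [LocallyQuasiFinite f] (K : Type u) [Field K]
    [IsAlgClosed K] (ω : Spec (.of K) ⟶ Y) (x : X) (hx : f x = ω (pt K)) :
    Finite {s : Spec (.of K) ⟶ X // s ≫ f = ω ∧ s (pt K) = x} ∧
    Nonempty {s : Spec (.of K) ⟶ X // s ≫ f = ω ∧ s (pt K) = x} ∧
    Nat.card {s : Spec (.of K) ⟶ X // s ≫ f = ω ∧ s (pt K) = x} =
      (letI := (f.residueFieldMap x).hom.toAlgebra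
      Field.finSepDegree (Y.residueField (f x)) (X.residueField x)) := by
  let := (f.residueFieldMap x).hom.toAlgebra
  let φ := (Y.residueFieldCongr hx).hom ≫ ptMap ω
  let : Algebra (Y.residueField (f x)) K := φ.hom.toAlgebra
  have hfin : Module.Finite (Y.residueField (f x)) (X.residueField x) := finite_residueFieldMap f x
  let e : {ψ : X.residueField x ⟶ .of K // f.residueFieldMap x ≫ ψ = φ} ≃
      (X.residueField x →ₐ[Y.residueField (f x)] K) :=
    { toFun := fun ψ => { ψ.1.hom with
        commutes' := fun r => by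
          have := congr(($(ψ.2)).hom r)
          exact this }
      invFun := fun ψ => ⟨CommRingCat.ofHom ψ.toRingHom, by
        ext r
        exact ψ.commutes r⟩
      left_inv := fun _ => rfl
      right_inv := fun _ => rfl }
  let E := (liftEquiv f K ω x hx).trans e
  refine ⟨E.finite_iff.mpr inferInstance, E.nonempty_congr.mpr ?_, ?_⟩
  · exact ⟨IsAlgClosed.lift⟩
  · rw [Nat.card_congr E, Field.finSepDegree_eq_of_isAlgClosed _ _ K]

/-- The fibre integral computed with geometric points. -/
theorem fibreIntegral_eq {X Y : Scheme.{u}} (f : X ⟶ Y) [LocallyQuasiFinite f] (w : X → ℤ)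
    (K : Type u) [Field K] [IsAlgClosed K] (ω : Spec (.of K) ⟶ Y) :
    MoreMor.fibreIntegral f w (ω (pt K)) =
      ∑ᶠ s : {s : Spec (.of K) ⟶ X // s ≫ f = ω}, w (s.1 (pt K)) := by
  let p : {s : Spec (.of K) ⟶ X // s ≫ f = ω} → {x : X // f x = ω (pt K)} :=
    fun s => ⟨s.1 (pt K), by rw [← Scheme.Hom.comp_apply]; exact congr(($(s.2)) (pt K))⟩
  have e : ∀ x : {x : X // f x = ω (pt K)}, {s // p s = x} ≃
      {s : Spec (.of K) ⟶ X // s ≫ f = ω ∧ s (pt K) = x.1} := fun x =>
    { toFun := fun s => ⟨s.1.1, s.1.2, congr(($(s.2)).1)⟩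
      invFun := fun s => ⟨⟨s.1, s.2.1⟩, Subtype.ext s.2.2⟩
      left_inv := fun _ => rfl
      right_inv := fun _ => rfl }
  have := finsum_comp_card p (fun x => w x.1)
    (fun x => (e x).finite_iff.mpr (card_lift f K ω x.1 x.2).1)
    (fun x => (e x).nonempty_congr.mpr (card_lift f K ω x.1 x.2).2.1)
  refine Eq.trans ?_ this.symm
  unfold MoreMor.fibreIntegral
  refine finsum_congr fun x => ?_
  rw [Nat.card_congr (e x), (card_lift f K ω x.1 x.2).2.2]

/-- A geometric point above every point. -/
lemma exists_geometric_point (Y : Scheme.{u}) (y : Y) :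
    ∃ (K : Type u) (_ : Field K) (_ : IsAlgClosed K) (ω : Spec (.of K) ⟶ Y),
      ω (pt K) = y := by
  refine ⟨AlgebraicClosure (Y.residueField y), inferInstance, inferInstance,
    Spec.map (CommRingCat.ofHom (algebraMap (Y.residueField y) _)) ≫ Y.fromSpecResidueField y, ?_⟩
  rw [Scheme.Hom.comp_apply, Scheme.fromSpecResidueField_apply]

/-- Lifts of a `K`-point along a base change. -/
noncomputable def liftBaseChangeEquiv {U V U' V' : Scheme.{u}} {π : U ⟶ V}
    {π' : U' ⟶ V'} {h : U' ⟶ U} {g : V' ⟶ V} (hc : IsPullback h π' π g) {K : Type u} [Field K]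
    (ω : Spec (.of K) ⟶ V') :
    {s : Spec (.of K) ⟶ U' // s ≫ π' = ω} ≃ {s : Spec (.of K) ⟶ U // s ≫ π = ω ≫ g} where
  toFun s := ⟨s.1 ≫ h, by rw [Category.assoc, hc.w, reassoc_of% s.2]⟩
  invFun s := ⟨hc.lift s.1 ω s.2, by simp⟩
  left_inv s := by
    ext1
    refine hc.hom_ext ?_ ?_
    · simp
    · simp [s.2]
  right_inv s := by
    ext1
    simp

/-- Stacks 0F39. -/
theorem fibreIntegral_baseChange {U V U' V' : Scheme.{u}} (π : U ⟶ V) [LocallyQuasiFinite π]
    (π' : U' ⟶ V') (h : U' ⟶ U) (g : V' ⟶ V) (hc : IsPullback h π' π g) (w : U → ℤ) (v' : V') :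
    MoreMor.fibreIntegral π' (w ∘ h) v' = MoreMor.fibreIntegral π w (g v') := by
  obtain ⟨K, _, _, ω, rfl⟩ := exists_geometric_point V' v'
  have : LocallyQuasiFinite π' := MorphismProperty.of_isPullback hc ‹_›
  rw [fibreIntegral_eq, ← Scheme.Hom.comp_apply, fibreIntegral_eq]
  refine finsum_eq_of_bijective (liftBaseChangeEquiv hc ω) (liftBaseChangeEquiv hc ω).bijective
    fun s => ?_
  simp [liftBaseChangeEquiv]

end Groth.Agent.Flat2F.FibreIntegral
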