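import Groth.Agent.Flat2F.WeightLoc
import Groth.Agent.Flat2F.Comb

/-!
Fibre powers of a morphism universally closed over an open of the base, and the closed subset of
tuples with multiplicities bounded by a weighting.
-/

set_option autoImplicit false
universe u

namespace Groth.Agent.Flat2F.FibrePow

open AlgebraicGeometry CategoryTheory Limits FibreIntegral GeomPts ResSplit Split WeightLoc Topology

variable {X Y P Q : Scheme.{u}}

/-- `p` is universally closed over the open `W`. -/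
def UCW (W : Y.Opens) (p : P ⟶ Y) : Prop :=
  ∀ (P' T : Scheme.{u}) (a : P' ⟶ P) (b : P' ⟶ T) (t : T ⟶ Y), IsPullback a b p t →
    Set.range t ⊆ W → UniversallyClosed b

lemma UCW.of_restrict {W : Y.Opens} {p : P ⟶ Y} (h : UniversallyClosed (p ∣_ W)) : UCW W p := by
  intro P' T a b t hc ht
  let t' : T ⟶ W := IsOpenImmersion.lift W.ι t (by simpa using ht)
  have ht' : t' ≫ W.ι = t := IsOpenImmersion.lift_fac _ _ _
  have h1 := (isPullback_morphismRestrict p W).flip
  let a' : P' ⟶ p ⁻¹ᵁ W := h1.lift a (b ≫ t') (by rw [Category.assoc, ht', hc.w])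
  have h2 : IsPullback a' b (p ∣_ W) t' := by
    refine IsPullback.of_right ?_ (h1.lift_snd _ _ _) h1
    rw [h1.lift_fst, ht']
    exact hc
  exact MorphismProperty.of_isPullback h2 h

lemma UCW.of_isClosedImmersion (W : Y.Opens) (p : P ⟶ Y) [UniversallyClosed p] : UCW W p := by
  intro P' T a b t hc ht
  exact MorphismProperty.of_isPullback hc ‹_›

lemma UCW.baseChange {W : Y.Opens} {f : X ⟶ Y} (hf : UCW W f) {p : P ⟶ Y} {a : Q ⟶ X} {q : Q ⟶ P}
    (hc : IsPullback a q f p) : UCW (p ⁻¹ᵁ W) q := by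
  intro P' T a' b t hc' ht
  refine hf P' T (a' ≫ a) b (t ≫ p) (hc'.paste_horiz hc) ?_
  rintro _ ⟨z, rfl⟩
  rw [Scheme.Hom.comp_apply]
  exact ht ⟨z, rfl⟩

lemma UCW.comp {W : Y.Opens} {p : P ⟶ Y} {q : Q ⟶ P} (hq : UCW (p ⁻¹ᵁ W) q) (hp : UCW W p) :
    UCW W (q ≫ p) := by
  intro P' T a b t hc ht
  have h1 : UniversallyClosed (pullback.snd p t) := hp _ _ _ _ _ (IsPullback.of_hasPullback p t) ht
  let c : P' ⟶ pullback p t := pullback.lift (a ≫ q) b (by rw [Category.assoc, hc.w])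
  have h3 : c ≫ pullback.snd p t = b := pullback.lift_snd _ _ _
  have hc2 : IsPullback a c q (pullback.fst p t) := by
    refine IsPullback.of_bot (v₂₁ := pullback.snd p t) (h₃₁ := t) (v₂₂ := p) ?_ ?_ ?_
    · rw [h3]
      exact hc
    · exact (pullback.lift_fst _ _ _).symm
    · exact IsPullback.of_hasPullback p t
  have h2 : UniversallyClosed c := by
    refine hq _ _ _ _ _ hc2 ?_
    rintro _ ⟨z, rfl⟩
    change p (pullback.fst p t z) ∈ W
    rw [← Scheme.Hom.comp_apply, pullback.condition, Scheme.Hom.comp_apply]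
    exact ht ⟨_, rfl⟩
  rw [← h3]
  infer_instance

/-- Fibre powers of `f : X ⟶ Y` between affine schemes. -/
theorem exists_pow (f : X ⟶ Y) [IsAffine X] [IsAffine Y] (W : Y.Opens) (hW : UCW W f) (n : ℕ) :
    ∃ (P : Scheme.{u}) (p : P ⟶ Y) (pr : Fin n → (P ⟶ X)), IsAffine P ∧ UCW W p ∧
      (∀ j, pr j ≫ f = p) ∧ ∀ (Z : Scheme.{u}) (q : Z ⟶ Y) (t : Fin n → (Z ⟶ X)),
        (∀ j, t j ≫ f = q) → ∃ m : Z ⟶ P, m ≫ p = q ∧ ∀ j, m ≫ pr j = t j := by
  induction n with
  | zero =>
    exact ⟨Y, 𝟙 Y, Fin.elim0, inferInstance, UCW.of_isClosedImmersion W (𝟙 Y), fun j => j.elim0,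
      fun Z q t _ => ⟨q, Category.comp_id _, fun j => j.elim0⟩⟩
  | succ n ih =>
    obtain ⟨P, p, pr, hP, hpW, hpr, hu⟩ := ih
    refine ⟨pullback f p, pullback.snd f p ≫ p, Fin.cons (pullback.fst f p)
      (fun j => pullback.snd f p ≫ pr j), inferInstance, ?_, ?_, ?_⟩
    · exact UCW.comp (UCW.baseChange hW (IsPullback.of_hasPullback f p)) hpW
    · intro j
      refine Fin.cases ?_ (fun j => ?_) j
      · simp [pullback.condition]
      · simp [hpr j]
    · intro Z q t ht
      obtain ⟨m, hm, hm'⟩ := hu Z q (fun j => t j.succ) (fun j => ht j.succ)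
      refine ⟨pullback.lift (t 0) m (by rw [ht, hm]), ?_, ?_⟩
      · rw [pullback.lift_snd_assoc, hm]
      · intro j
        refine Fin.cases ?_ (fun j => ?_) j
        · rw [Fin.cons_zero, pullback.lift_fst]
        · rw [Fin.cons_succ, pullback.lift_snd_assoc, hm']

lemma eq_iff_of_point {K : Type u} [Field K] (τ : Spec (.of K) ⟶ P) (t : P) (ht : τ (pt K) = t)
    (a b : P ⟶ X) :
    τ ≫ a = τ ≫ b ↔ P.fromSpecResidueField t ≫ a = P.fromSpecResidueField t ≫ b := by
  obtain ⟨φ, hφ⟩ := exists_map τ t ht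
  rw [← hφ, Category.assoc, Category.assoc]
  refine ⟨fun h => ?_, fun h => by rw [h]⟩
  have h1 : a t = b t := by
    have := congr(($h) (pt K))
    simpa [Scheme.Hom.comp_apply] using this
  obtain ⟨α, hα⟩ := exists_residueMap a t (a t) rfl
  obtain ⟨β, hβ⟩ := exists_residueMap b t (a t) h1.symm
  rw [← hα, ← hβ] at h ⊢
  rw [← Category.assoc, ← Category.assoc, cancel_mono, ← Spec.map_comp, ← Spec.map_comp,
    Spec.map_inj] at h
  have h2 : α = β := by
    ext x
    exact φ.hom.injective congr(($h).hom x)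
  rw [h2]

/-- Tuples with multiplicities bounded by `w`. -/
def T {n : ℕ} (w : X → ℤ) (pr : Fin n → (P ⟶ X)) : Set P :=
  {t | ∀ j, (Nat.card {k // P.fromSpecResidueField t ≫ pr k = P.fromSpecResidueField t ≫ pr j} : ℤ) ≤
    w (pr j t)}

lemma mem_T_iff {n : ℕ} (w : X → ℤ) (pr : Fin n → (P ⟶ X)) {K : Type u} [Field K]
    (τ : Spec (.of K) ⟶ P) :
    τ (pt K) ∈ T w pr ↔ ∀ j, (Nat.card {k // τ ≫ pr k = τ ≫ pr j} : ℤ) ≤ w ((τ ≫ pr j) (pt K)) := by
  refine forall_congr' fun j => ?_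
  rw [Scheme.Hom.comp_apply]
  have : ∀ k, (τ ≫ pr k = τ ≫ pr j) = (P.fromSpecResidueField (τ (pt K)) ≫ pr k =
    P.fromSpecResidueField (τ (pt K)) ≫ pr j) := fun k => propext (eq_iff_of_point τ _ rfl _ _)
  simp only [this]

/-- The set of tuples with multiplicities bounded by a nonnegative weighting is closed. -/
theorem isClosed_T (f : X ⟶ Y) [LocallyOfFiniteType f] [LocallyQuasiFinite f] {w : X → ℤ}
    (hw : MoreMor.IsWeighting f w) (hpos : ∀ x, 0 ≤ w x) {n : ℕ} (p : P ⟶ Y)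
    (pr : Fin n → (P ⟶ X)) (hpr : ∀ j, pr j ≫ f = p) : IsClosed (T w pr) := by
  rw [← closure_subset_iff_isClosed]
  intro t₀ ht₀
  have hfp : ∀ j, f (pr j t₀) = p t₀ := fun j => by rw [← Scheme.Hom.comp_apply, hpr]
  obtain ⟨V, g, v, hg, hv, H⟩ := exists_splitOver f (p t₀) (Set.range fun j => pr j t₀)
    (Set.finite_range _) (by rintro _ ⟨j, rfl⟩; exact hfp j)
  obtain ⟨t₁, ht₁, ht₁v⟩ := Scheme.Pullback.exists_preimage_pullback (f := p) (g := g) t₀ v hv.symm
  have hcX := IsPullback.of_hasPullback f g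
  let prV : Fin n → (pullback p g ⟶ pullback f g) := fun j =>
    pullback.lift (pullback.fst p g ≫ pr j) (pullback.snd p g) (by
      rw [Category.assoc, hpr, pullback.condition])
  have hprV1 : ∀ j, prV j ≫ pullback.fst f g = pullback.fst p g ≫ pr j :=
    fun j => pullback.lift_fst _ _ _
  have hprV2 : ∀ j, prV j ≫ pullback.snd f g = pullback.snd p g := fun j => pullback.lift_snd _ _ _
  -- the opens
  have hz1 : ∀ j, pullback.fst f g (prV j t₁) = pr j t₀ := fun j => by
    rw [← Scheme.Hom.comp_apply, hprV1, Scheme.Hom.comp_apply, ht₁]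
  have hz2 : ∀ j, pullback.snd f g (prV j t₁) = v := fun j => by
    rw [← Scheme.Hom.comp_apply, hprV2, ht₁v]
  let S := {z : ↥(pullback f g) // (∃ j, pullback.fst f g z = pr j t₀) ∧ pullback.snd f g z = v}
  have hS : ∀ z : S, Split (pullback.snd f g) z.1 := fun z => H z.1 (by
    obtain ⟨j, hj⟩ := z.2.1
    exact ⟨j, hj.symm⟩) z.2.2
  choose U hU hUf hUu using hS
  let ζ : Fin n → S := fun j => ⟨prV j t₁, ⟨j, hz1 j⟩, hz2 j⟩
  -- local constancy
  have hloc : ∀ z : S, IsLocallyConstant (MoreMor.fibreIntegral ((U z).ι ≫ pullback.snd f g)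
      (fun u => w (pullback.fst f g ((U z).ι u)))) := fun z => isLocallyConstant_of_isPullback hcX hw (U z)
  have hval : ∀ z : S, MoreMor.fibreIntegral ((U z).ι ≫ pullback.snd f g)
      (fun u => w (pullback.fst f g ((U z).ι u))) v = w (pullback.fst f g z.1) := fun z => by
    have h1 := hUu z
    rw [z.2.2] at h1
    exact h1.fibreIntegral (fun x => w (pullback.fst f g x)) (hU z) z.2.2
  let N₁ : Fin n → Set ↥(pullback p g) := fun j => pullback.snd p g ⁻¹' {v' | MoreMor.fibreIntegral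
    ((U (ζ j)).ι ≫ pullback.snd f g) (fun u => w (pullback.fst f g ((U (ζ j)).ι u))) v' =
      w (pullback.fst f g (ζ j).1)}
  let N₂ : Fin n → Set ↥(pullback p g) := fun j => prV j ⁻¹' (U (ζ j))
  have hN₁ : ∀ j, IsOpen (N₁ j) := fun j =>
    ((hloc (ζ j)).isOpen_fiber _).preimage (pullback.snd p g).continuous
  have hN₂ : ∀ j, IsOpen (N₂ j) := fun j => (U (ζ j)).2.preimage (prV j).continuous
  let N : Set ↥(pullback p g) := ⋂ j, N₁ j ∩ N₂ j
  have hN : IsOpen N := isOpen_iInter_of_finite fun j => (hN₁ j).inter (hN₂ j)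
  have htN : t₁ ∈ N := by
    refine Set.mem_iInter.mpr fun j => ⟨?_, hU (ζ j)⟩
    change MoreMor.fibreIntegral _ _ (pullback.snd p g t₁) = _
    rw [ht₁v]
    exact hval (ζ j)
  have hopen : IsOpen (pullback.fst p g '' N) := (pullback.fst p g).isOpenMap N hN
  obtain ⟨_, ⟨t, htN', rfl⟩, htT⟩ := mem_closure_iff.mp ht₀ _ hopen ⟨t₁, htN, ht₁⟩
  obtain ⟨K, _, _, τ, rfl⟩ := exists_geometric_point (pullback p g) t
  rw [← Scheme.Hom.comp_apply, mem_T_iff] at htT
  intro j
  -- the left-hand side counts indices with the same point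
  have step1 : Nat.card {k // P.fromSpecResidueField t₀ ≫ pr k = P.fromSpecResidueField t₀ ≫ pr j} ≤
      Nat.card {k // ζ k = ζ j} := by
    refine Nat.card_le_card_of_injective (fun k => ⟨k.1, ?_⟩) ?_
    · obtain ⟨K', _, _, τ', hτ'⟩ := exists_geometric_point (pullback p g) t₁
      have h1 : (τ' ≫ pullback.fst p g) ≫ pr k.1 = (τ' ≫ pullback.fst p g) ≫ pr j :=
        (eq_iff_of_point _ t₀ (by rw [Scheme.Hom.comp_apply, hτ', ht₁]) _ _).mpr k.2
      have h2 : τ' ≫ prV k.1 = τ' ≫ prV j := by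
        refine pullback.hom_ext ?_ ?_
        · simpa [hprV1] using h1
        · simp [hprV2]
      refine Subtype.ext ?_
      change prV k.1 t₁ = prV j t₁
      rw [← hτ', ← Scheme.Hom.comp_apply, ← Scheme.Hom.comp_apply, h2]
    · intro k k' hkk
      exact Subtype.ext congr(($hkk).1)
  have step2 : (Nat.card {k // ζ k = ζ j} : ℤ) ≤ w (pr j t₀) := by
    have hint := Set.mem_iInter.mp htN' j
    have h1 : MoreMor.fibreIntegral ((U (ζ j)).ι ≫ pullback.snd f g)
      (fun u => w (pullback.fst f g ((U (ζ j)).ι u))) (pullback.snd p g (τ (pt K))) =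
      w (pullback.fst f g (ζ j).1) := hint.1
    rw [← Scheme.Hom.comp_apply] at h1
    have h2 := fibreIntegral_ι (pullback.snd f g) (U (ζ j)) (fun x => w (pullback.fst f g x))
      (τ ≫ pullback.snd p g)
    have h3 : w (pullback.fst f g (ζ j).1) = w (pr j t₀) := by
      change w (pullback.fst f g (prV j t₁)) = _
      rw [hz1]
    rw [← h3, ← h1]
    refine le_trans ?_ h2.ge
    refine Comb.card_le_finsum (fun k : {k // ζ k = ζ j} => τ ≫ prV k.1) _ (finite_L _ _ _) ?_
      (fun s => w (pullback.fst f g (s (pt K)))) (fun s => hpos _) ?_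
    · rintro ⟨k, hk⟩
      refine ⟨?_, ?_⟩
      · rw [Category.assoc, hprV2]
      · have := (Set.mem_iInter.mp htN' k).2
        rw [Scheme.Hom.comp_apply]
        change prV k (τ (pt K)) ∈ U (ζ k) at this
        rwa [hk] at this
    · rintro ⟨k, hk⟩
      have h4 := htT k
      have h5 : w (((τ ≫ pullback.fst p g) ≫ pr k) (pt K)) = w (pullback.fst f g ((τ ≫ prV k) (pt K))) := by
        rw [← Scheme.Hom.comp_apply, Category.assoc, Category.assoc, hprV1]
      rw [h5] at h4
      refine le_trans ?_ h4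
      refine Int.ofNat_le.mpr (Nat.card_le_card_of_injective (fun b => ⟨b.1.1, ?_⟩) ?_)
      · have := b.2
        have h6 := congr($this ≫ pullback.fst f g)
        simpa [hprV1] using h6
      · intro b b' hb
        exact Subtype.ext (Subtype.ext congr(($hb).1))
  exact (Int.ofNat_le.mpr step1).trans step2

lemma finite_L_top (f : X ⟶ Y) [LocallyQuasiFinite f] [QuasiCompact f] {K : Type u} [Field K]
    [IsAlgClosed K] (ω : Spec (.of K) ⟶ Y) : (L f ω ⊤).Finite := by
  have h0 : (⊤ : X.Opens).ι = X.topIso.hom := rfl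
  have : QuasiCompact ((⊤ : X.Opens).ι ≫ f) := by rw [h0]; infer_instance
  exact finite_L f ⊤ ω

/-- The image of `T` is the locus where the fibre integral is the maximal value. -/
theorem image_T (f : X ⟶ Y) [LocallyQuasiFinite f] [QuasiCompact f] {w : X → ℤ}
    (hpos : ∀ x, 0 < w x) {n : ℕ} (hmax : ∀ y, MoreMor.fibreIntegral f w y ≤ n) (p : P ⟶ Y)
    (pr : Fin n → (P ⟶ X)) (hpr : ∀ j, pr j ≫ f = p)
    (hu : ∀ (Z : Scheme.{u}) (q : Z ⟶ Y) (t : Fin n → (Z ⟶ X)),
        (∀ j, t j ≫ f = q) → ∃ m : Z ⟶ P, m ≫ p = q ∧ ∀ j, m ≫ pr j = t j) :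
    p '' T w pr = {y | MoreMor.fibreIntegral f w y = n} := by
  ext y
  constructor
  · rintro ⟨t, ht, rfl⟩
    obtain ⟨K, _, _, τ, rfl⟩ := exists_geometric_point P t
    rw [mem_T_iff] at ht
    refine le_antisymm (hmax _) ?_
    rw [← Scheme.Hom.comp_apply, fibreIntegral_top]
    have := Comb.card_le_finsum (fun k : Fin n => τ ≫ pr k) (L f (τ ≫ p) ⊤) (finite_L_top f _)
      (fun k => ⟨by rw [Category.assoc, hpr], trivial⟩) (fun s => w (s (pt K)))
      (fun s => (hpos _).le) ht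
    simpa using this
  · intro hy
    obtain ⟨K, _, _, ω, rfl⟩ := exists_geometric_point Y y
    have hy' : MoreMor.fibreIntegral f w (ω (pt K)) = n := hy
    rw [fibreIntegral_top] at hy'
    obtain ⟨τ, hτ, hτ'⟩ := Comb.exists_tuple (L f ω ⊤) (finite_L_top f _) (fun s => w (s (pt K)))
      (fun s => hpos _) n hy'
    obtain ⟨m, hm, hm'⟩ := hu _ ω τ (fun j => (hτ j).1)
    refine ⟨m (pt K), ?_, ?_⟩
    · rw [mem_T_iff]
      intro j
      simp only [hm']
      exact hτ' j
    · rw [← Scheme.Hom.comp_apply, hm]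

end Groth.Agent.Flat2F.FibrePow
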