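import Groth.Agent.Flat2F.LocalZMT
import Mathlib.RingTheory.Ideal.KrullsHeightTheorem
import Mathlib.RingTheory.KrullDimension.NonZeroDivisors
import Mathlib.RingTheory.AlgebraicIndependent.TranscendenceBasis
import Mathlib.FieldTheory.FinTrdeg

/-!
# Parameters of essentially finite type local algebras

Systems of parameters and transcendence bases of residue fields for a local homomorphism
`A → B` essentially of finite type, and the consequences of Zariski's main theorem.
-/

set_option autoImplicit false

universe u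

namespace Groth.Agent.Flat2F.LocalParams

open IsLocalRing Polynomial Cardinal

variable {A B : Type u} [CommRing A] [CommRing B] [IsLocalRing A] [IsLocalRing B] [Algebra A B]

omit [IsLocalRing B] in
theorem isNoetherianRing_quotient [Algebra.EssFiniteType A B] (I : Ideal B)
    (hI : (maximalIdeal A).map (algebraMap A B) ≤ I) : IsNoetherianRing (B ⧸ I) := by
  have h1 : IsNoetherianRing (A ⧸ maximalIdeal A) :=
    inferInstanceAs (IsNoetherianRing (ResidueField A))
  have h2 : IsNoetherianRing (B ⧸ (maximalIdeal A).map (algebraMap A B)) :=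
    Algebra.EssFiniteType.isNoetherianRing (A ⧸ maximalIdeal A) _
  exact isNoetherianRing_of_surjective _ _ (Ideal.Quotient.factor hI)
    (Ideal.Quotient.factor_surjective hI)

/-- Systems of parameters. -/
theorem exists_params (I : Ideal B) [IsNoetherianRing (B ⧸ I)] (hI : I ≤ maximalIdeal B) :
    ∃ s : Finset B, (s : Set B) ⊆ maximalIdeal B ∧ (s.card : WithBot ℕ∞) = ringKrullDim (B ⧸ I) ∧
      ∀ x ∈ maximalIdeal B, ∃ k : ℕ, x ^ k ∈ I ⊔ Ideal.span (s : Set B) := by
  classical
  have : Nontrivial (B ⧸ I) :=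
    Ideal.Quotient.nontrivial_iff.mpr (ne_top_of_le_ne_top Ideal.IsPrime.ne_top' hI)
  have : IsLocalRing (B ⧸ I) := IsLocalRing.of_surjective' _ Ideal.Quotient.mk_surjective
  obtain ⟨s, hs, hcard⟩ :=
    (maximalIdeal (B ⧸ I)).exists_finset_card_eq_height_of_isNoetherianRing
  have hmap : ∀ x, Ideal.Quotient.mk I x ∈ maximalIdeal (B ⧸ I) ↔ x ∈ maximalIdeal B := by
    intro x
    rw [mem_maximalIdeal, mem_maximalIdeal, mem_nonunits_iff, mem_nonunits_iff, not_iff_not]
    constructor
    · intro h
      have : IsLocalHom (Ideal.Quotient.mk I) := .of_surjective _ Ideal.Quotient.mk_surjective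
      exact isUnit_of_map_unit _ _ h
    · exact fun h => h.map _
  let σ : B ⧸ I → B := Function.surjInv Ideal.Quotient.mk_surjective
  have hσ : ∀ x, Ideal.Quotient.mk I (σ x) = x := Function.surjInv_eq Ideal.Quotient.mk_surjective
  have hσinj : Function.Injective σ := Function.injective_surjInv _
  refine ⟨s.image σ, ?_, ?_, ?_⟩
  · intro x hx
    rw [Finset.coe_image] at hx
    obtain ⟨y, hy, rfl⟩ := hx
    show σ y ∈ maximalIdeal B
    rw [← hmap, hσ]
    exact hs.1.2 (Ideal.subset_span hy)
  · rw [Finset.card_image_of_injective _ hσinj, ← maximalIdeal_height_eq_ringKrullDim, ← hcard]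
    rfl
  · intro x hx
    have hrad : maximalIdeal (B ⧸ I) ≤ (Ideal.span (s : Set (B ⧸ I))).radical := by
      rw [Ideal.radical_eq_sInf]
      refine le_sInf fun P hP => ?_
      exact hs.2 ⟨hP.2, hP.1⟩ (le_maximalIdeal hP.2.ne_top)
    obtain ⟨k, hk⟩ := hrad ((hmap x).mpr hx)
    refine ⟨k, ?_⟩
    have hspan : Ideal.span (s : Set (B ⧸ I)) =
        (Ideal.span ((s.image σ : Finset B) : Set B)).map (Ideal.Quotient.mk I) := by
      rw [Ideal.map_span, Finset.coe_image, Set.image_image]
      simp [hσ]
    rw [hspan, ← map_pow] at hk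
    have h3 : x ^ k ∈ ((Ideal.span ((s.image σ : Finset B) : Set B)).map
      (Ideal.Quotient.mk I)).comap (Ideal.Quotient.mk I) := hk
    rw [Ideal.comap_map_of_surjective _ Ideal.Quotient.mk_surjective, ← RingHom.ker_eq_comap_bot,
      Ideal.mk_ker, sup_comm] at h3
    exact h3

/-- Cutting by an element which is in no minimal prime decreases the dimension. -/
theorem add_one_le_of_notMem_minimalPrimes {R : Type*} [CommRing R] (I J : Ideal R) (hIJ : I ≤ J)
    (g : R) (hg : g ∈ J) (hmin : ∀ q ∈ I.minimalPrimes, g ∉ q) (n d : ℕ)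
    (hJ : (n : WithBot ℕ∞) ≤ ringKrullDim (R ⧸ J)) (hI : ringKrullDim (R ⧸ I) ≤ d) :
    n + 1 ≤ d := by
  rw [ringKrullDim_quotient] at hJ hI
  obtain ⟨l, hl⟩ := Order.le_krullDim_iff.mp hJ
  have hsub : PrimeSpectrum.zeroLocus (J : Set R) ⊆ PrimeSpectrum.zeroLocus (I : Set R) :=
    PrimeSpectrum.zeroLocus_anti_mono hIJ
  let l' : LTSeries (PrimeSpectrum.zeroLocus (I : Set R)) :=
    l.map (Set.inclusion hsub) (fun _ _ h => h)
  have hJhead : J ≤ l.head.1.asIdeal := l.head.2
  obtain ⟨p, hp, hple⟩ := Ideal.exists_minimalPrimes_le (J := l.head.1.asIdeal)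
    (hIJ.trans hJhead)
  have hlt : (⟨⟨p, hp.1.1⟩, hp.1.2⟩ : PrimeSpectrum.zeroLocus (I : Set R)) < l'.head := by
    refine lt_of_le_of_ne hple ?_
    intro h
    have h2 : p = l.head.1.asIdeal := congrArg (fun x => x.1.asIdeal) h
    exact hmin p hp (h2 ▸ hJhead hg)
  have h3 : ((n + 1 : ℕ) : WithBot ℕ∞) ≤ Order.krullDim (PrimeSpectrum.zeroLocus (I : Set R)) := by
    rw [Order.le_krullDim_iff]
    exact ⟨l'.cons _ hlt, by simp [l', hl]⟩
  exact_mod_cast h3.trans hI

variable [IsLocalHom (algebraMap A B)]

/-- Lifts of a transcendence basis of the residue field extension. -/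
theorem exists_trans [Algebra.EssFiniteType A B] :
    ∃ T : Finset B, (T.card : Cardinal.{u}) = Algebra.trdeg (ResidueField A) (ResidueField B) ∧
      Algebra.IsAlgebraic (Algebra.adjoin (ResidueField A) (residue B '' (T : Set B)))
        (ResidueField B) := by
  classical
  have : Algebra.EssFiniteType A (ResidueField B) := Algebra.EssFiniteType.comp A B _
  have : Algebra.EssFiniteType (ResidueField A) (ResidueField B) :=
    Algebra.EssFiniteType.of_comp A (ResidueField A) (ResidueField B)
  have hfin := trdeg_lt_aleph0 (ResidueField A) (ResidueField B)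
  obtain ⟨S, hS⟩ := exists_isTranscendenceBasis (ResidueField A) (ResidueField B)
  have hSfin : S.Finite := by
    rw [← Cardinal.lt_aleph0_iff_set_finite, hS.cardinalMk_eq_trdeg]
    exact hfin
  let σ : ResidueField B → B := Function.surjInv residue_surjective
  have hσ : ∀ x, residue B (σ x) = x := Function.surjInv_eq residue_surjective
  have hσinj : Function.Injective σ := Function.injective_surjInv _
  refine ⟨hSfin.toFinset.image σ, ?_, ?_⟩
  · rw [Finset.card_image_of_injective _ hσinj, ← hS.cardinalMk_eq_trdeg,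
      ← Set.ncard_eq_toFinset_card _ hSfin, Set.cast_ncard hSfin]
  · have : residue B '' ((hSfin.toFinset.image σ : Finset B) : Set B) = S := by
      rw [Finset.coe_image, Set.image_image]
      simp [hσ]
    rw [this]
    have h1 := hS.isAlgebraic
    rwa [Subtype.range_coe] at h1

theorem exists_polynomial {D : Type*} [CommRing D] [Algebra D B] (T : Set B)
    (hA : Set.range (algebraMap A B) ⊆ Set.range (algebraMap D B))
    (hT : T ⊆ Set.range (algebraMap D B))
    (halg : Algebra.IsAlgebraic (Algebra.adjoin (ResidueField A) (residue B '' T))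
      (ResidueField B)) (x : ResidueField B) :
    ∃ p : D[X], p.map ((residue B).comp (algebraMap D B)) ≠ 0 ∧
        p.eval₂ ((residue B).comp (algebraMap D B)) x = 0 := by
  set ρ := (residue B).comp (algebraMap D B) with hρ
  have hrange : ∀ y : Algebra.adjoin (ResidueField A) (residue B '' T),
      (y : ResidueField B) ∈ ρ.range := by
    rintro ⟨y, hy⟩
    induction hy using Algebra.adjoin_induction with
    | mem y hy =>
      obtain ⟨t, ht, rfl⟩ := hy
      obtain ⟨d, hd⟩ := hT ht
      exact ⟨d, by rw [hρ, RingHom.comp_apply, hd]⟩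
    | algebraMap r =>
      obtain ⟨r, rfl⟩ := residue_surjective r
      obtain ⟨d, hd⟩ := hA ⟨r, rfl⟩
      exact ⟨d, by rw [hρ, RingHom.comp_apply, hd]; rfl⟩
    | add y z _ _ hy hz => exact add_mem hy hz
    | mul y z _ _ hy hz => exact mul_mem hy hz
  obtain ⟨p, hp0, hp⟩ := halg.isAlgebraic x
  have hlift : p.map (algebraMap _ (ResidueField B)) ∈ Polynomial.lifts ρ := by
    rw [Polynomial.lifts_iff_coeff_lifts]
    intro n
    rw [coeff_map]
    exact hrange _
  rw [Polynomial.mem_lifts] at hlift
  obtain ⟨p', hp'⟩ := hlift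
  refine ⟨p', ?_, ?_⟩
  · rw [hp']
    intro h
    apply hp0
    have hinj : Function.Injective (algebraMap
      (Algebra.adjoin (ResidueField A) (residue B '' T)) (ResidueField B)) :=
      Subtype.val_injective
    exact Polynomial.map_injective _ hinj (by rw [Polynomial.map_zero]; exact h)
  · rw [← eval_map, hp', eval_map]
    exact hp

/-- The nilpotence hypothesis of Zariski's main theorem from a system of parameters. -/
theorem exists_pow_mem {D : Type*} [CommRing D] [Algebra D B] (s : Set B)
    (hA : Set.range (algebraMap A B) ⊆ Set.range (algebraMap D B))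
    (hs : s ⊆ Set.range (algebraMap D B)) (hsm : s ⊆ maximalIdeal B)
    (h : ∀ x ∈ maximalIdeal B, ∃ k : ℕ,
      x ^ k ∈ (maximalIdeal A).map (algebraMap A B) ⊔ Ideal.span s) :
    ∀ x ∈ maximalIdeal B, ∃ n : ℕ,
      x ^ n ∈ ((maximalIdeal B).under D).map (algebraMap D B) := by
  intro x hx
  obtain ⟨k, hk⟩ := h x hx
  refine ⟨k, ?_⟩
  have hle : (maximalIdeal A).map (algebraMap A B) ⊔ Ideal.span s ≤
      ((maximalIdeal B).under D).map (algebraMap D B) := by
    refine sup_le ?_ ?_
    · rw [Ideal.map_le_iff_le_comap]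
      intro a ha
      obtain ⟨d, hd⟩ := hA ⟨a, rfl⟩
      rw [Ideal.mem_comap, ← hd]
      refine Ideal.mem_map_of_mem _ ?_
      show algebraMap D B d ∈ maximalIdeal B
      rw [hd]
      have hmn : ∀ x : A, x ∈ maximalIdeal A → algebraMap A B x ∈ maximalIdeal B := by
        intro x hx'
        rw [mem_maximalIdeal, mem_nonunits_iff]
        intro hu
        exact (mem_maximalIdeal _).mp hx' (isUnit_of_map_unit (algebraMap A B) x hu)
      exact hmn a ha
    · rw [Ideal.span_le]
      intro y hy
      obtain ⟨d, hd⟩ := hs hy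
      rw [SetLike.mem_coe, ← hd]
      refine Ideal.mem_map_of_mem _ ?_
      show algebraMap D B d ∈ maximalIdeal B
      rw [hd]
      exact hsm hy
  exact hle hk

end Groth.Agent.Flat2F.LocalParams
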