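import Mathlib.RingTheory.AlgebraicIndependent.AlgebraicClosure
import Mathlib.RingTheory.AlgebraicIndependent.TranscendenceBasis
import Mathlib.RingTheory.Ideal.GoingUp
import Mathlib.RingTheory.NoetherNormalization
import Mathlib.RingTheory.KrullDimension.Polynomial
import Mathlib.RingTheory.KrullDimension.Field
import Mathlib.RingTheory.LocalRing.ResidueField.Fiber
import Mathlib.RingTheory.FiniteStability
import Mathlib.RingTheory.FiniteType

/-!
# Dimension of fibres and transcendence degrees

For an algebra of finite type `A → S`, all fibre rings have dimension `≤ d` iff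
`trdeg (A ⧸ q ∩ A) (S ⧸ q) ≤ d` for all primes `q` of `S`.
-/

set_option autoImplicit false

universe u

namespace Groth.Agent.Flat2F.TrdegDim

open Cardinal

/-! ### Integral extensions -/

/-- Chains of primes lift along integral ring maps, starting from a given prime. -/
theorem exists_ltSeries_of_isIntegral {R S : Type*} [CommRing R] [CommRing S] [Algebra R S]
    [Algebra.IsIntegral R S] (n : ℕ) : ∀ (l : LTSeries (PrimeSpectrum R)) (_ : l.length = n)
    (Q : PrimeSpectrum S) (_ : Q.comap (algebraMap R S) = l.head),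
    ∃ L : LTSeries (PrimeSpectrum S), L.length = n ∧ L.head = Q := by
  induction n with
  | zero =>
    intro l hl Q hQ
    exact ⟨RelSeries.singleton _ Q, rfl, rfl⟩
  | succ n IH =>
    intro l hl Q hQ
    have hl0 : l.length ≠ 0 := by omega
    have hlt : l.head < (l.tail hl0).head := by
      rw [RelSeries.head_tail]
      refine l.strictMono ?_
      rw [Fin.lt_def]
      simp only [Fin.coe_ofNat_eq_mod, Nat.zero_mod]
      rw [Nat.mod_eq_of_lt (by omega)]
      exact Nat.one_pos
    have hle : Q.asIdeal.comap (algebraMap R S) ≤ (l.tail hl0).head.asIdeal := by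
      have : (Q.comap (algebraMap R S)).asIdeal ≤ (l.tail hl0).head.asIdeal := by
        rw [hQ]; exact hlt.le
      exact this
    obtain ⟨Q', hQ', hQ'prime, hQ'comap⟩ :=
      Ideal.exists_ideal_over_prime_of_isIntegral (l.tail hl0).head.asIdeal Q.asIdeal hle
    have hcomap : (⟨Q', hQ'prime⟩ : PrimeSpectrum S).comap (algebraMap R S) = (l.tail hl0).head :=
      PrimeSpectrum.ext hQ'comap
    obtain ⟨L, hL, hLhead⟩ := IH (l.tail hl0) (by simp [hl]) ⟨Q', hQ'prime⟩ hcomap
    have hQlt : Q < L.head := by
      rw [hLhead]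
      refine lt_of_le_of_ne hQ' ?_
      rintro rfl
      rw [hQ] at hcomap
      exact hlt.ne hcomap
    exact ⟨L.cons Q hQlt, by simp [hL], by simp⟩

/-- The dimension does not drop along injective integral ring maps. -/
theorem ringKrullDim_le_of_isIntegral {R S : Type*} [CommRing R] [CommRing S] [Algebra R S]
    [Algebra.IsIntegral R S] [FaithfulSMul R S] : ringKrullDim R ≤ ringKrullDim S := by
  refine iSup_le fun l => ?_
  obtain ⟨Q, hQ⟩ := Ideal.nonempty_primesOver (S := S) l.head.asIdeal
  obtain ⟨L, hL, -⟩ := exists_ltSeries_of_isIntegral (S := S) l.length l rfl ⟨Q, hQ.1⟩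
    (PrimeSpectrum.ext hQ.2.over.symm)
  rw [← hL]
  exact le_iSup (fun p : LTSeries (PrimeSpectrum S) => (p.length : WithBot ℕ∞)) L

/-! ### Transcendence degree and strict inclusions of primes -/

theorem trdeg_add_one_le {A : Type*} {D D' : Type u} [CommRing A] [IsDomain A] [CommRing D]
    [IsDomain D] [CommRing D'] [IsDomain D'] [Algebra A D] [Algebra A D'] [FaithfulSMul A D']
    (f : D →ₐ[A] D') (hf : Function.Surjective f) (b : D) (hb : b ≠ 0) (hfb : f b = 0) :
    Algebra.trdeg A D' + 1 ≤ Algebra.trdeg A D := by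
  obtain ⟨s, hs⟩ := exists_isTranscendenceBasis A D'
  choose y hy using fun x : s => hf x
  have hcomp : f ∘ y = Subtype.val := funext hy
  have hyind : AlgebraicIndependent A y := by
    apply AlgebraicIndependent.of_comp f
    rw [hcomp]
    exact hs.1
  have hopt : AlgebraicIndependent A (fun o : Option s => o.elim b y) := by
    rw [hyind.option_iff_transcendental]
    intro halg
    obtain ⟨r, hr0, hr⟩ := halg.exists_nonzero_dvd (mem_nonZeroDivisors_of_ne_zero hb)
    apply hr0
    have hfr : f (algebraMap (Algebra.adjoin A (Set.range y)) D r) = 0 := by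
      obtain ⟨c, hc⟩ := hr
      rw [hc, map_mul, hfb, zero_mul]
    obtain ⟨F, hF⟩ := hyind.aevalEquiv.surjective r
    have hr' : (r : D) = MvPolynomial.aeval y F := by
      rw [← hF]
      exact hyind.algebraMap_aevalEquiv F
    have h0 : MvPolynomial.aeval (Subtype.val : s → D') F = 0 := by
      rw [← hcomp, ← hfr]
      show _ = f (r : D)
      rw [hr']
      exact (MvPolynomial.comp_aeval_apply (f := y) f F).symm
    rw [← hF, hs.1.eq_zero_of_aeval_eq_zero F h0, map_zero]
  have h1 := hopt.cardinalMk_le_trdeg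
  rwa [Cardinal.mk_option, hs.cardinalMk_eq_trdeg] at h1

theorem length_le_of_forall_lt {α : Type*} [Preorder α] (g : α → Cardinal.{u})
    (h : ∀ a b, a < b → g b + 1 ≤ g a) (l : LTSeries α) : (l.length : Cardinal.{u}) ≤ g l.head := by
  have key : ∀ i : Fin (l.length + 1), g (l i) + (i : ℕ) ≤ g l.head := by
    intro i
    induction i using Fin.induction with
    | zero => simp [RelSeries.head]
    | succ i IH =>
      refine le_trans ?_ IH
      have h1 := h _ _ (l.step i)
      rw [Fin.val_succ, Fin.val_castSucc]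
      push_cast
      rw [add_comm ((i : ℕ) : Cardinal) 1, ← add_assoc]
      exact add_le_add_left h1 _
  refine le_trans ?_ (key (Fin.last _))
  simp

/-! ### Finite type algebras -/

/-- Over a field: the transcendence degree of a quotient domain is at most the dimension. -/
theorem trdeg_quotient_le {K F : Type u} [Field K] [CommRing F] [Algebra K F]
    [Algebra.FiniteType K F] (Q : Ideal F) [Q.IsPrime] (d : ℕ) (h : ringKrullDim F ≤ d) :
    Algebra.trdeg K (F ⧸ Q) ≤ d := by
  obtain ⟨s, g, hg, hint⟩ := exists_integral_inj_algHom_of_fg K (F ⧸ Q)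
  let _ : Algebra (MvPolynomial (Fin s) K) (F ⧸ Q) := g.toRingHom.toAlgebra
  have : IsScalarTower K (MvPolynomial (Fin s) K) (F ⧸ Q) :=
    IsScalarTower.of_algebraMap_eq (fun r => (g.commutes r).symm)
  have : Algebra.IsIntegral (MvPolynomial (Fin s) K) (F ⧸ Q) := ⟨hint⟩
  have : FaithfulSMul (MvPolynomial (Fin s) K) (F ⧸ Q) :=
    (faithfulSMul_iff_algebraMap_injective _ _).mpr hg
  have h1 : Algebra.trdeg K (F ⧸ Q) = s := by
    rw [← trdeg_add_eq (R := K) (S := MvPolynomial (Fin s) K) (A := F ⧸ Q),
      trdeg_eq_zero (R := MvPolynomial (Fin s) K), add_zero, MvPolynomial.trdeg_of_isDomain]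
    simp
  rw [h1]
  have h2 : ringKrullDim (MvPolynomial (Fin s) K) ≤ d :=
    (ringKrullDim_le_of_isIntegral (S := F ⧸ Q)).trans ((ringKrullDim_quotient_le Q).trans h)
  rw [MvPolynomial.ringKrullDim_of_isNoetherianRing, ringKrullDim_eq_zero_of_field, zero_add,
    Nat.card_fin] at h2
  exact_mod_cast h2

theorem trdeg_le_of_fractionRing {A K D D' : Type u} [CommRing A] [IsDomain A] [Field K]
    [Algebra A K] [IsFractionRing A K] [CommRing D] [IsDomain D] [Algebra A D] [CommRing D']
    [IsDomain D'] [Algebra K D'] (f : D →+* D') (hf : Function.Injective f)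
    (hcomm : ∀ a, f (algebraMap A D a) = algebraMap K D' (algebraMap A K a)) :
    Algebra.trdeg A D ≤ Algebra.trdeg K D' := by
  let _ : Algebra A D' := ((algebraMap K D').comp (algebraMap A K)).toAlgebra
  have : IsScalarTower A K D' := IsScalarTower.of_algebraMap_eq fun _ => rfl
  have hAK : Function.Injective (algebraMap A K) := IsFractionRing.injective A K
  have : FaithfulSMul A K := (faithfulSMul_iff_algebraMap_injective _ _).mpr hAK
  have : FaithfulSMul K D' :=
    (faithfulSMul_iff_algebraMap_injective _ _).mpr (algebraMap K D').injective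
  have halg : Algebra.IsAlgebraic A K := IsLocalization.isAlgebraic K (nonZeroDivisors A)
  have h2 := trdeg_add_eq (R := A) (S := K) (A := D')
  rw [trdeg_eq_zero (R := A) (A := K), zero_add] at h2
  rw [h2]
  let φ : D →ₐ[A] D' := { f with commutes' := hcomm }
  exact trdeg_le_of_injective φ hf

variable {A S : Type u} [CommRing A] [CommRing S] [Algebra A S]

/-- If the fibre over `p` has dimension `≤ d` then `trdeg (A ⧸ p) (S ⧸ q) ≤ d` for all primes
`q` over `p`. -/
theorem trdeg_le_of_ringKrullDim_fiber_le [Algebra.FiniteType A S] (p : Ideal A) [p.IsPrime]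
    (q : Ideal S) [q.IsPrime] [q.LiesOver p] (d : ℕ) (h : ringKrullDim (p.Fiber S) ≤ d) :
    Algebra.trdeg (A ⧸ p) (S ⧸ q) ≤ d := by
  obtain ⟨Q, hQ⟩ := (PrimeSpectrum.primesOverOrderIsoFiber A S p).symm.surjective
    (⟨q, inferInstance, inferInstance⟩ : p.primesOver S)
  have hQ' : q = Q.asIdeal.comap (Algebra.TensorProduct.includeRight : S →ₐ[A] p.Fiber S) := by
    rw [← PrimeSpectrum.coe_primesOverOrderIsoFiber_symm_apply, hQ]
  have h1 := trdeg_quotient_le (K := p.ResidueField) Q.asIdeal d h
  refine le_trans ?_ h1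
  let f : S ⧸ q →+* p.Fiber S ⧸ Q.asIdeal := Ideal.quotientMap Q.asIdeal
    (Algebra.TensorProduct.includeRight : S →ₐ[A] p.Fiber S).toRingHom hQ'.le
  have hf : Function.Injective f := Ideal.quotientMap_injective' hQ'.ge
  refine trdeg_le_of_fractionRing f hf ?_
  intro x
  obtain ⟨x, rfl⟩ := Ideal.Quotient.mk_surjective x
  show Ideal.Quotient.mk _ ((Algebra.TensorProduct.includeRight : S →ₐ[A] p.Fiber S)
    (algebraMap A S x)) = Ideal.Quotient.mk _ (algebraMap A (p.Fiber S) x)
  rw [AlgHom.commutes]

/-- If `trdeg (A ⧸ p) (S ⧸ q) ≤ d` for all primes `q` over `p`, then the fibre over `p` has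
dimension `≤ d`. -/
theorem ringKrullDim_fiber_le_of_trdeg_le (p : Ideal A) [p.IsPrime] (d : ℕ)
    (h : ∀ (q : Ideal S) [q.IsPrime] [q.LiesOver p], Algebra.trdeg (A ⧸ p) (S ⧸ q) ≤ d) :
    ringKrullDim (p.Fiber S) ≤ d := by
  unfold ringKrullDim
  rw [← Order.krullDim_eq_of_orderIso (PrimeSpectrum.primesOverOrderIsoFiber A S p)]
  refine iSup_le fun l => ?_
  have := length_le_of_forall_lt (fun q : p.primesOver S => Algebra.trdeg (A ⧸ p) (S ⧸ q.1))
    (fun q₁ q₂ hlt => by
      have hle : q₁.1 ≤ q₂.1 := hlt.le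
      obtain ⟨b, hb2, hb1⟩ := SetLike.exists_of_lt (show q₁.1 < q₂.1 from hlt)
      let f : S ⧸ q₁.1 →ₐ[A ⧸ p] S ⧸ q₂.1 :=
        { Ideal.Quotient.factor hle with
          commutes' := by
            intro x
            obtain ⟨x, rfl⟩ := Ideal.Quotient.mk_surjective x
            rfl }
      refine trdeg_add_one_le f (Ideal.Quotient.factor_surjective hle) (Ideal.Quotient.mk _ b) ?_ ?_
      · rwa [Ne, Ideal.Quotient.eq_zero_iff_mem]
      · show Ideal.Quotient.factor hle (Ideal.Quotient.mk _ b) = 0
        rwa [Ideal.Quotient.factor_mk, Ideal.Quotient.eq_zero_iff_mem]) l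
  have h2 : (l.length : Cardinal.{u}) ≤ d := this.trans (h l.head.1)
  exact_mod_cast h2

/-- For a finite type algebra, all fibre rings have dimension `≤ d` iff all relative residual
transcendence degrees are `≤ d`. -/
theorem forall_ringKrullDim_fiber_le_iff [Algebra.FiniteType A S] (d : ℕ) :
    (∀ P : PrimeSpectrum A, ringKrullDim (P.asIdeal.Fiber S) ≤ d) ↔
      ∀ (q : Ideal S) [q.IsPrime], Algebra.trdeg (A ⧸ q.under A) (S ⧸ q) ≤ d := by
  constructor
  · intro h q hq
    exact trdeg_le_of_ringKrullDim_fiber_le (q.under A) q d (h ⟨q.under A, inferInstance⟩)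
  · intro h P
    refine ringKrullDim_fiber_le_of_trdeg_le P.asIdeal d fun q hq hqP => ?_
    obtain ⟨p, hp⟩ := P
    have : p = q.under A := hqP.over
    subst this
    exact h q

end Groth.Agent.Flat2F.TrdegDim
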