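import Mathlib.RingTheory.AlgebraicIndependent.TranscendenceBasis
import Mathlib.RingTheory.LocalRing.Module
import Mathlib.RingTheory.LocalRing.ResidueField.Fiber
import Groth.Agent.Flat2F.TrdegDim
import Groth.Agent.Flat2F.LocalParams

set_option autoImplicit false
universe u
namespace Groth.Agent.Flat2F.FlatIndep
open MvPolynomial TensorProduct IsLocalRing Cardinal

/-- Along a chain of primes of an algebra over a field the transcendence degree drops. -/
theorem length_add_le {K F : Type u} [Field K] [CommRing F] [Algebra K F]
    (l : LTSeries (PrimeSpectrum F)) (e : Cardinal.{u})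
    (he : ∀ P : PrimeSpectrum F, e ≤ Algebra.trdeg K (F ⧸ P.asIdeal)) :
    (l.length : Cardinal.{u}) + e ≤ Algebra.trdeg K (F ⧸ l.head.asIdeal) := by
  have key : ∀ i : Fin (l.length + 1), ((l.length - i : ℕ) : Cardinal.{u}) + e ≤
      Algebra.trdeg K (F ⧸ (l i).asIdeal) := by
    intro i
    induction i using Fin.reverseInduction with
    | last => simpa using he _
    | cast i IH =>
      have hlt := l.step i
      have hle : (l i.castSucc).asIdeal ≤ (l i.succ).asIdeal := hlt.le
      obtain ⟨b, hb2, hb1⟩ := SetLike.exists_of_lt
        (show (l i.castSucc).asIdeal < (l i.succ).asIdeal from hlt)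
      have h1 := Groth.Agent.Flat2F.TrdegDim.trdeg_add_one_le (A := K)
        (Ideal.Quotient.factorₐ K hle) (Ideal.Quotient.factor_surjective hle)
        (Ideal.Quotient.mk _ b) (by rwa [Ne, Ideal.Quotient.eq_zero_iff_mem]) (by
          show Ideal.Quotient.factor hle (Ideal.Quotient.mk _ b) = 0
          rwa [Ideal.Quotient.factor_mk, Ideal.Quotient.eq_zero_iff_mem])
      refine le_trans ?_ h1
      have h2 : l.length - (i.castSucc : ℕ) = (l.length - (i.succ : ℕ)) + 1 := by
        rw [Fin.val_succ, Fin.val_castSucc]
        have := i.2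
        omega
      rw [h2]
      push_cast
      rw [add_assoc, add_comm 1 e, ← add_assoc]
      gcongr
  have h0 := key 0
  rw [Fin.val_zero, Nat.sub_zero] at h0
  exact h0

theorem aeval_eq_sum {R S ι : Type*} [CommRing R] [CommRing S] [Algebra R S] (x : ι → S)
    (P : MvPolynomial ι R) :
    aeval x P = ∑ m ∈ P.support, P.coeff m • aeval x (monomial m (1 : R)) := by
  conv_lhs => rw [P.as_sum, map_sum]
  refine Finset.sum_congr rfl fun m _ => ?_
  rw [← map_smul, smul_monomial, smul_eq_mul, mul_one]

/-- Algebraic independence is linear independence of the monomials. -/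
theorem algebraicIndependent_iff_linearIndependent {R S ι : Type*} [CommRing R] [CommRing S]
    [Algebra R S] (x : ι → S) :
    AlgebraicIndependent R x ↔
      LinearIndependent R (fun m : ι →₀ ℕ => aeval x (monomial m (1 : R))) := by
  constructor
  · intro h
    have h1 := (basisMonomials ι R).linearIndependent.map' (aeval x).toLinearMap
      (LinearMap.ker_eq_bot.mpr h)
    have h2 : (fun m : ι →₀ ℕ => aeval x (monomial m (1 : R))) =
        (aeval x).toLinearMap ∘ basisMonomials ι R := by
      funext m
      simp
    rw [h2]
    exact h1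
  · intro h
    rw [algebraicIndependent_iff]
    intro P hP
    rw [aeval_eq_sum] at hP
    have h1 := linearIndependent_iff'.mp h P.support (fun m => P.coeff m) hP
    ext m
    by_cases hm : m ∈ P.support
    · rw [h1 m hm, coeff_zero]
    · rw [notMem_support_iff.mp hm, coeff_zero]

/-- Over a local ring, elements of a flat algebra which are algebraically independent modulo the
maximal ideal are algebraically independent. -/
theorem algebraicIndependent_of_flat {A B ι : Type u} [CommRing A] [IsLocalRing A] [CommRing B]
    [Algebra A B] [Module.Flat A B] (b : ι → B)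
    (h : AlgebraicIndependent (ResidueField A)
      (fun i => (1 : ResidueField A) ⊗ₜ[A] b i : ι → ResidueField A ⊗[A] B)) :
    AlgebraicIndependent A b := by
  rw [algebraicIndependent_iff_linearIndependent] at h ⊢
  apply Module.IsLocalRing.linearIndependent_of_flat
  have h2 : (TensorProduct.mk A (ResidueField A) B 1 ∘ fun m : ι →₀ ℕ =>
      aeval b (monomial m (1 : A))) = fun m : ι →₀ ℕ =>
      aeval (fun i => (1 : ResidueField A) ⊗ₜ[A] b i : ι → ResidueField A ⊗[A] B)
        (monomial m (1 : ResidueField A)) := by
    funext m
    show (Algebra.TensorProduct.includeRight : B →ₐ[A] ResidueField A ⊗[A] B)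
      (aeval b (monomial m (1 : A))) = _
    rw [aeval_monomial, aeval_monomial, map_one, map_one, one_mul, one_mul, Finsupp.prod, map_prod,
      Finsupp.prod]
    refine Finset.prod_congr rfl fun i _ => ?_
    rw [map_pow]
    rfl
  rw [h2]
  exact h

/-- The lower bound for the transcendence degree of a flat algebra over a local domain. -/
theorem le_trdeg_of_flat {A B : Type u} [CommRing A] [IsDomain A] [IsLocalRing A] [CommRing B]
    [IsDomain B] [IsLocalRing B] [Algebra A B] [IsLocalHom (algebraMap A B)] [FaithfulSMul A B]
    [Module.Flat A B] (d : ℕ)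
    (hd : (d : WithBot ℕ∞) ≤ ringKrullDim (B ⧸ (maximalIdeal A).map (algebraMap A B))) :
    (d : Cardinal.{u}) + Algebra.trdeg (ResidueField A) (ResidueField B) ≤ Algebra.trdeg A B := by
  let F := ResidueField A ⊗[A] B
  let i : B →ₐ[A] F := Algebra.TensorProduct.includeRight
  have hisurj : Function.Surjective i := TensorProduct.mk_surjective _ _ _ residue_surjective
  have hF : ringKrullDim F = ringKrullDim (B ⧸ (maximalIdeal A).map (algebraMap A B)) := by
    refine ringKrullDim_eq_of_ringEquiv ?_
    exact ((Algebra.TensorProduct.comm A (A ⧸ maximalIdeal A) B).trans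
      ((Algebra.TensorProduct.quotIdealMapEquivTensorQuot B (maximalIdeal A)).symm.restrictScalars
        A)).toRingEquiv
  have hFloc : IsLocalRing F := inferInstance
  rw [← hF] at hd
  obtain ⟨l, hl⟩ := Order.le_krullDim_iff.mp hd
  -- the residue field
  let f : F →ₐ[ResidueField A] ResidueField B :=
    Algebra.TensorProduct.lift (Algebra.ofId _ _) (IsScalarTower.toAlgHom A B (ResidueField B))
      fun _ _ => .all _ _
  have hfi : ∀ b, f (i b) = residue B b := by
    intro b
    show f (1 ⊗ₜ b) = _
    rw [Algebra.TensorProduct.lift_tmul, map_one, one_mul]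
    rfl
  have hf : Function.Surjective f := by
    intro x
    obtain ⟨x, rfl⟩ := residue_surjective x
    exact ⟨i x, hfi x⟩
  have hker : ∀ P : Ideal F, P.IsPrime → P ≤ RingHom.ker f := by
    intro P hP
    have hmax : (RingHom.ker f).IsMaximal := RingHom.ker_isMaximal_of_surjective _ hf
    rw [eq_maximalIdeal hmax]
    exact le_maximalIdeal hP.ne_top
  have key := length_add_le (K := ResidueField A) l
    (Algebra.trdeg (ResidueField A) (ResidueField B)) (by
      intro P
      refine trdeg_le_of_surjective (Ideal.Quotient.liftₐ P.asIdeal f fun a ha => hker _ P.2 ha) ?_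
      intro x
      obtain ⟨y, rfl⟩ := hf x
      exact ⟨Ideal.Quotient.mk _ y, rfl⟩)
  rw [hl] at key
  refine key.trans ?_
  obtain ⟨S, hS⟩ := exists_isTranscendenceBasis (ResidueField A) (F ⧸ l.head.asIdeal)
  rw [← hS.cardinalMk_eq_trdeg]
  have hsurj : Function.Surjective (fun b => Ideal.Quotient.mk l.head.asIdeal (i b)) :=
    Ideal.Quotient.mk_surjective.comp hisurj
  choose b hb using fun x : S => hsurj x
  have hind : AlgebraicIndependent (ResidueField A)
      (fun x => (1 : ResidueField A) ⊗ₜ[A] b x : S → ResidueField A ⊗[A] B) := by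
    apply AlgebraicIndependent.of_comp (Ideal.Quotient.mkₐ (ResidueField A) l.head.asIdeal)
    have : (Ideal.Quotient.mkₐ (ResidueField A) l.head.asIdeal) ∘
      (fun x => (1 : ResidueField A) ⊗ₜ[A] b x : S → ResidueField A ⊗[A] B) = Subtype.val :=
      funext hb
    rw [this]
    exact hS.1
  exact (algebraicIndependent_of_flat b hind).cardinalMk_le_trdeg

end Groth.Agent.Flat2F.FlatIndep
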