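import Mathlib.RingTheory.LocalRing.Module
import Mathlib.RingTheory.AlgebraicIndependent.Basic
import Mathlib.RingTheory.MvPolynomial.Ideal
import Mathlib.RingTheory.Support
import Mathlib.RingTheory.Polynomial.Quotient
import Mathlib.RingTheory.Flat.Stability
import Mathlib.RingTheory.LocalRing.ResidueField.Ideal

/-!
# Primes of large transcendence degree in the support of a module flat over the base

Let `A → O` be a local homomorphism of local rings, `M` a nonzero finite `O`-module which is flat
over `A`, and `y : ι → O` elements whose residue classes are algebraically independent over the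
residue field of `A`. Then for each prime `P` of `A` there is a prime `Q` of `O` in the support of
`M` such that no polynomial over `A` with a coefficient outside `P` maps into `Q` under
`Y ↦ y` (in particular `Q` lies over `P` and the classes of `y` in `O/Q` are algebraically
independent over `A/P`).
-/

set_option autoImplicit false
universe u v w

namespace Groth.Agent.Flat2F.FlatTrdeg

open IsLocalRing TensorProduct

section

variable {A : Type u} {O : Type v} {M : Type w} [CommRing A] [CommRing O] [IsLocalRing A]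
  [IsLocalRing O] [Algebra A O] [IsLocalHom (algebraMap A O)]

theorem isUnit_aeval {ι : Type*} (y : ι → O)
    (hy : AlgebraicIndependent (ResidueField A) (fun i ↦ residue O (y i)))
    (G : MvPolynomial ι A) (hG : MvPolynomial.map (residue A) G ≠ 0) :
    IsUnit (MvPolynomial.aeval y G) := by
  have h1 : MvPolynomial.aeval (fun i ↦ residue O (y i)) (MvPolynomial.map (residue A) G) =
      residue O (MvPolynomial.aeval y G) := by
    rw [MvPolynomial.aeval_def, MvPolynomial.eval₂_map, MvPolynomial.aeval_def,
      ← MvPolynomial.coe_eval₂Hom, ← MvPolynomial.coe_eval₂Hom, ← RingHom.comp_apply]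
    congr 1
    ext a
    · simp only [MvPolynomial.coe_eval₂Hom, RingHom.coe_comp, Function.comp_apply,
        MvPolynomial.eval₂_C]
      rfl
    · simp
  rw [← notMem_maximalIdeal, ← residue_eq_zero_iff, ← h1]
  intro h
  exact hG ((algebraicIndependent_iff.mp hy) _ h)

variable [AddCommGroup M] [Module O M] [Module A M] [IsScalarTower A O M]

omit [IsLocalRing O] [IsLocalHom (algebraMap A O)] [Module O M] [IsScalarTower A O M] [CommRing O]
  [Algebra A O] in
theorem residue_smul_one_tmul (a : A) (m : M) :
    residue A a • ((1 : ResidueField A) ⊗ₜ[A] m) = 1 ⊗ₜ (a • m) := by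
  rw [TensorProduct.smul_tmul', ← TensorProduct.smul_tmul, smul_eq_mul, Algebra.smul_def]
  rfl

omit [IsLocalRing A] [IsLocalRing O] [IsLocalHom (algebraMap A O)] [Module O M] [IsScalarTower A O M] [CommRing O]
  [Algebra A O] in
/-- for `A → K` surjective, `1 ⊗ m = 0` in `K ⊗ M` only if `m ∈ ker • M` -/
theorem mem_of_one_tmul_eq_zero {K : Type*} [CommRing K] [Algebra A K]
    (hs : Function.Surjective (algebraMap A K)) (m : M)
    (h : (1 : K) ⊗ₜ[A] m = 0) : m ∈ (RingHom.ker (algebraMap A K)) • (⊤ : Submodule A M) := by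
  let e : (A ⧸ RingHom.ker (Algebra.ofId A K)) ≃ₐ[A] K :=
    Ideal.quotientKerAlgEquivOfSurjective (f := Algebra.ofId A K) hs
  have h1 : (1 : A ⧸ RingHom.ker (Algebra.ofId A K)) ⊗ₜ[A] m = 0 := by
    have := congrArg (LinearMap.rTensor M e.symm.toLinearMap) h
    simpa using this
  have h2 := congrArg (TensorProduct.quotTensorEquivQuotSMul M (RingHom.ker (Algebra.ofId A K))) h1
  rwa [map_zero, show (1 : A ⧸ RingHom.ker (Algebra.ofId A K)) = Ideal.Quotient.mk _ 1 from rfl,
    TensorProduct.quotTensorEquivQuotSMul_mk_tmul, one_smul, Submodule.Quotient.mk_eq_zero] at h2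

/-- monomials times an element `e` nonzero modulo the maximal ideal are linearly independent, after
base change to any quotient ring of the base -/
theorem linearIndependent_monomials [Module.Flat A M] {ι : Type u} (y : ι → O)
    (hy : AlgebraicIndependent (ResidueField A) (fun i ↦ residue O (y i))) (e : M)
    (he : e ∉ maximalIdeal A • (⊤ : Submodule A M))
    (B : Type u) [CommRing B] [IsLocalRing B] [Algebra A B]
    (hB : Function.Surjective (algebraMap A B)) :
    LinearIndependent B (fun I : ι →₀ ℕ ↦
      (1 : B) ⊗ₜ[A] ((MvPolynomial.aeval y (MvPolynomial.monomial I (1 : A))) • e)) := by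
  apply Module.IsLocalRing.linearIndependent_of_flat
  rw [linearIndependent_iff']
  intro s g hg
  by_contra! hcon
  obtain ⟨j, hj, hgj⟩ := hcon
  have hB' : Function.Surjective (algebraMap A (ResidueField B)) := by
    rw [IsScalarTower.algebraMap_eq A B (ResidueField B)]
    exact residue_surjective.comp hB
  have hker : RingHom.ker (algebraMap A (ResidueField B)) = maximalIdeal A :=
    IsLocalRing.eq_maximalIdeal (RingHom.ker_isMaximal_of_surjective _ hB')
  choose t ht using fun i ↦ hB' (g i)
  let G : MvPolynomial ι A := ∑ i ∈ s, MvPolynomial.monomial i (t i)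
  have hsm (a : A) (m : M) : algebraMap A (ResidueField B) a •
      ((1 : ResidueField B) ⊗ₜ[B] ((1 : B) ⊗ₜ[A] m)) = 1 ⊗ₜ (1 ⊗ₜ (a • m)) := by
    rw [← TensorProduct.smul_tmul (R := A) a (1 : B) m, Algebra.smul_def, mul_one,
      ← mul_one (algebraMap A B a), ← smul_eq_mul, ← TensorProduct.smul_tmul',
      TensorProduct.tmul_smul, ← algebraMap_smul (ResidueField B) (algebraMap A B a),
      ← IsScalarTower.algebraMap_apply]
  have h1 : ∑ i ∈ s, g i • (TensorProduct.mk B (ResidueField B) (B ⊗[A] M) 1 ∘
      fun I : ι →₀ ℕ ↦ (1 : B) ⊗ₜ[A]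
        ((MvPolynomial.aeval y (MvPolynomial.monomial I (1 : A))) • e)) i =
      (1 : ResidueField B) ⊗ₜ[B] ((1 : B) ⊗ₜ[A] (MvPolynomial.aeval y G • e)) := by
    simp only [G, map_sum, Finset.sum_smul, TensorProduct.tmul_sum, Function.comp_apply,
      TensorProduct.mk_apply]
    refine Finset.sum_congr rfl fun i _ ↦ ?_
    have h2 : MvPolynomial.monomial i (t i) = (t i) • MvPolynomial.monomial i (1 : A) := by
      rw [MvPolynomial.smul_monomial, smul_eq_mul, mul_one]
    rw [h2, map_smul, smul_assoc, ← ht, hsm]
  have h3 : IsUnit (MvPolynomial.aeval y G) := by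
    refine isUnit_aeval y hy G fun h0 ↦ hgj ?_
    have h4 := congrArg (MvPolynomial.coeff j) h0
    classical
    rw [MvPolynomial.coeff_map, MvPolynomial.coeff_zero, MvPolynomial.coeff_sum] at h4
    have h5 : residue A (t j) = 0 := by
      simpa [MvPolynomial.coeff_monomial, hj] using h4
    rw [residue_eq_zero_iff, ← hker, RingHom.mem_ker] at h5
    rw [← ht, h5]
  rw [h1] at hg
  obtain ⟨u, hu⟩ := h3
  apply he
  rw [← hker]
  apply mem_of_one_tmul_eq_zero hB'
  have h5 := congrArg (LinearMap.lTensor (ResidueField B) (LinearMap.baseChange B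
    ((LinearMap.lsmul O M (↑u⁻¹ : O)).restrictScalars A))) hg
  rw [map_zero, LinearMap.lTensor_tmul, LinearMap.baseChange_tmul] at h5
  have h6 : (LinearMap.lsmul O M (↑u⁻¹ : O)).restrictScalars A (MvPolynomial.aeval y G • e) = e := by
    change (↑u⁻¹ : O) • (MvPolynomial.aeval y G • e) = e
    rw [← hu, smul_smul, Units.inv_mul, one_smul]
  rw [h6] at h5
  have h7 := congrArg (TensorProduct.AlgebraTensorModule.cancelBaseChange A B (ResidueField B)
    (ResidueField B) M) h5
  rw [map_zero, TensorProduct.AlgebraTensorModule.cancelBaseChange_tmul, one_smul] at h7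
  exact h7

theorem exists_prime [Module.Flat A M] [Module.Finite O M] [Nontrivial M] {ι : Type u} (y : ι → O)
    (hy : AlgebraicIndependent (ResidueField A) (fun i ↦ residue O (y i))) (P : Ideal A)
    [P.IsPrime] :
    ∃ Q : PrimeSpectrum O, Q ∈ Module.support O M ∧ Q.asIdeal.comap (algebraMap A O) = P ∧
      ∀ G : MvPolynomial ι A, MvPolynomial.aeval y G ∈ Q.asIdeal → ∀ I, G.coeff I ∈ P := by
  obtain ⟨e, he⟩ : ∃ e : M, e ∉ maximalIdeal A • (⊤ : Submodule A M) := by
    by_contra! hcon
    have h1 : (⊤ : Submodule O M) ≤ maximalIdeal O • (⊤ : Submodule O M) := by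
      intro m _
      refine Submodule.smul_induction_on (hcon m) ?_ fun _ _ h h' ↦ add_mem h h'
      intro a ha n _
      rw [← algebraMap_smul O a n]
      refine Submodule.smul_mem_smul ?_ trivial
      exact (mem_maximalIdeal _).mpr fun h ↦ (mem_maximalIdeal _).mp ha
        (isUnit_of_map_unit (algebraMap A O) a h)
    have h2 := Submodule.eq_bot_of_le_smul_of_le_jacobson_bot (maximalIdeal O) ⊤
      Module.Finite.fg_top h1 (maximalIdeal_le_jacobson (⊥ : Ideal O))
    exact (not_subsingleton M) ((Submodule.subsingleton_iff O).mp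
      (subsingleton_of_bot_eq_top h2.symm))
  have : IsLocalRing (A ⧸ P) :=
    IsLocalRing.of_surjective' (Ideal.Quotient.mk P) Ideal.Quotient.mk_surjective
  have hli := linearIndependent_monomials y hy e he (A ⧸ P) Ideal.Quotient.mk_surjective
  let J : Ideal O := Submodule.comap (LinearMap.toSpanSingleton O M e)
    (P.map (algebraMap A O) • (⊤ : Submodule O M))
  let T : Submonoid O := ((nonZeroDivisors (MvPolynomial ι (A ⧸ P))).comap
    (MvPolynomial.map (Ideal.Quotient.mk P))).map (MvPolynomial.aeval y : MvPolynomial ι A →ₐ[A] O)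
  have hT (G : MvPolynomial ι A) (hG : ∃ I, G.coeff I ∉ P) : MvPolynomial.aeval y G ∈ T := by
    refine ⟨G, ?_, rfl⟩
    obtain ⟨I, hI⟩ := hG
    change MvPolynomial.map (Ideal.Quotient.mk P) G ∈ nonZeroDivisors _
    rw [mem_nonZeroDivisors_iff_ne_zero]
    intro h0
    have := congrArg (MvPolynomial.coeff I) h0
    rw [MvPolynomial.coeff_map, MvPolynomial.coeff_zero, Ideal.Quotient.eq_zero_iff_mem] at this
    exact hI this
  have hJT : Disjoint (J : Set O) T := by
    rw [Set.disjoint_left]
    rintro _ hoJ ⟨G, hG, rfl⟩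
    have hG' : MvPolynomial.map (Ideal.Quotient.mk P) G ≠ 0 :=
      mem_nonZeroDivisors_iff_ne_zero.mp hG
    apply hG'
    have h1 : MvPolynomial.aeval y G • e ∈ P.map (algebraMap A O) • (⊤ : Submodule O M) := hoJ
    have h2 : ∀ m ∈ P.map (algebraMap A O) • (⊤ : Submodule O M),
        (1 : A ⧸ P) ⊗ₜ[A] m = 0 := by
      have key : ∀ r ∈ P.map (algebraMap A O), ∀ n : M, (1 : A ⧸ P) ⊗ₜ[A] (r • n) = 0 := by
        intro r hr
        refine Submodule.span_induction ?_ ?_ ?_ ?_ hr
        · rintro _ ⟨p, hp, rfl⟩ n
          rw [algebraMap_smul, ← TensorProduct.smul_tmul, Algebra.smul_def, mul_one,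
            Ideal.Quotient.algebraMap_eq, Ideal.Quotient.eq_zero_iff_mem.mpr hp,
            TensorProduct.zero_tmul]
        · intro n
          rw [zero_smul, TensorProduct.tmul_zero]
        · intro a b _ _ ha hb n
          rw [add_smul, TensorProduct.tmul_add, ha, hb, add_zero]
        · intro a b _ hb n
          rw [smul_eq_mul, mul_comm, mul_smul, hb]
      intro m hm
      refine Submodule.smul_induction_on hm (fun r hr n _ ↦ key r hr n) fun a b ha hb ↦ by
        rw [TensorProduct.tmul_add, ha, hb, add_zero]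
    have h3 := h2 _ h1
    have h4 : ∑ I ∈ G.support, (Ideal.Quotient.mk P (G.coeff I)) • ((1 : A ⧸ P) ⊗ₜ[A]
        ((MvPolynomial.aeval y (MvPolynomial.monomial I (1 : A))) • e)) = 0 := by
      rw [← h3]
      conv_rhs => rw [G.as_sum]
      simp only [map_sum, Finset.sum_smul, TensorProduct.tmul_sum]
      refine Finset.sum_congr rfl fun I _ ↦ ?_
      have h5 : MvPolynomial.monomial I (G.coeff I) =
          (G.coeff I) • MvPolynomial.monomial I (1 : A) := by
        rw [MvPolynomial.smul_monomial, smul_eq_mul, mul_one]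
      rw [h5, map_smul, smul_assoc, TensorProduct.smul_tmul',
        ← TensorProduct.smul_tmul (R := A) (G.coeff I) (1 : A ⧸ P),
        Algebra.smul_def (G.coeff I) (1 : A ⧸ P), smul_eq_mul]
      rfl
    have h6 := (linearIndependent_iff'.mp hli) G.support _ h4
    ext I
    rw [MvPolynomial.coeff_map, MvPolynomial.coeff_zero]
    by_cases hI : I ∈ G.support
    · exact h6 I hI
    · rw [MvPolynomial.notMem_support_iff.mp hI, map_zero]
  obtain ⟨Q, hQ, hJQ, hQT⟩ := Ideal.exists_le_prime_disjoint J T hJT
  refine ⟨⟨Q, hQ⟩, ?_, ?_, ?_⟩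
  · rw [Module.mem_support_iff']
    refine ⟨e, fun r hr h0 ↦ hr (hJQ ?_)⟩
    change r • e ∈ P.map (algebraMap A O) • (⊤ : Submodule O M)
    rw [h0]
    exact zero_mem _
  · ext a
    rw [Ideal.mem_comap]
    constructor
    · intro ha
      by_contra haP
      have h1 := hT (MvPolynomial.C a) ⟨0, by simpa using haP⟩
      rw [MvPolynomial.aeval_C] at h1
      exact Set.disjoint_left.mp hQT ha h1
    · intro ha
      apply hJQ
      exact Submodule.smul_mem_smul (Ideal.mem_map_of_mem _ ha) trivial
  · intro G hG I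
    by_contra hI
    exact Set.disjoint_left.mp hQT hG (hT G ⟨I, hI⟩)

end

end Groth.Agent.Flat2F.FlatTrdeg
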