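import Groth.Agent.Flat2F.FibreIntegral
import Mathlib.RingTheory.LocalRing.Length
import Mathlib.RingTheory.RamificationInertia.Basic
import Mathlib.FieldTheory.PurelyInseparable.Tower
import Mathlib.AlgebraicGeometry.Morphisms.FormallyUnramified
import Mathlib.AlgebraicGeometry.Morphisms.Etale
import Mathlib.AlgebraicGeometry.Morphisms.Flat

/-!
The weighting attached to a flat, locally quasi-finite morphism locally of finite presentation (Stacks 0F3D).
-/

set_option autoImplicit false
universe u

namespace Groth.Agent.Flat2F.FlatWeight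

open AlgebraicGeometry CategoryTheory Limits IsLocalRing

section ring

variable {A B C : Type u} [CommRing A] [CommRing B] [CommRing C]
  [IsLocalRing A] [IsLocalRing B] [IsLocalRing C]

/-- length of the closed fibre -/
noncomputable def len (φ : A →+* B) : ℕ :=
  (Module.length B (B ⧸ (maximalIdeal A).map φ)).toNat

/-- inseparable degree of the residue field extension -/
noncomputable def insep (φ : A →+* B) [IsLocalHom φ] : ℕ :=
  letI := (ResidueField.map φ).toAlgebra
  Field.finInsepDegree (ResidueField A) (ResidueField B)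

/-- separable degree of the residue field extension -/
noncomputable def fsep (φ : A →+* B) [IsLocalHom φ] : ℕ :=
  letI := (ResidueField.map φ).toAlgebra
  Field.finSepDegree (ResidueField A) (ResidueField B)

/-- degree of the residue field extension -/
noncomputable def rdeg (φ : A →+* B) [IsLocalHom φ] : ℕ :=
  letI := (ResidueField.map φ).toAlgebra
  Module.finrank (ResidueField A) (ResidueField B)

lemma fsep_mul_insep (φ : A →+* B) [IsLocalHom φ] : fsep φ * insep φ = rdeg φ := by
  let := (ResidueField.map φ).toAlgebra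
  exact Field.finSepDegree_mul_finInsepDegree _ _

open TensorProduct in
lemma len_comp_of_flat (φ : A →+* B) (ψ : B →+* C) [IsLocalHom φ] [IsLocalHom ψ]
    (hflat : ψ.Flat) (hm : (maximalIdeal B).map ψ = maximalIdeal C) :
    len (ψ.comp φ) = len φ := by
  algebraize [ψ]
  have : IsLocalHom (algebraMap B C) := ‹IsLocalHom ψ›
  have h1 := IsLocalRing.length_baseChange B C (B ⧸ (maximalIdeal A).map φ)
  have h2 : Module.length C (C ⧸ (maximalIdeal B).map (algebraMap B C)) = 1 := by
    rw [Module.length_eq_one_iff, isSimpleModule_iff_isCoatom, ← Ideal.isMaximal_def,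
      IsLocalRing.isMaximal_iff]
    exact hm
  rw [h2, mul_one] at h1
  have h3 := (Algebra.TensorProduct.quotIdealMapEquivTensorQuot C
    ((maximalIdeal A).map φ)).toLinearEquiv.length_eq
  unfold len
  rw [← h1, ← Ideal.map_map, ← h3]
  rfl

omit [IsLocalRing C] in
lemma len_comp_of_map (φ : A →+* B) (ψ : B →+* C)
    (hm : (maximalIdeal A).map φ = maximalIdeal B) :
    len (ψ.comp φ) = len ψ := by
  unfold len
  rw [← Ideal.map_map, hm]

lemma insep_comp_left (φ : A →+* B) (ψ : B →+* C) [IsLocalHom φ] [IsLocalHom ψ]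
    (h1 : (ResidueField.map φ).IsIntegral) (h2 : letI := (ResidueField.map ψ).toAlgebra;
      Algebra.IsSeparable (ResidueField B) (ResidueField C)) :
    insep (ψ.comp φ) = insep φ := by
  let := (ResidueField.map φ).toAlgebra
  let := (ResidueField.map ψ).toAlgebra
  let := (ResidueField.map (ψ.comp φ)).toAlgebra
  have : IsScalarTower (ResidueField A) (ResidueField B) (ResidueField C) :=
    .of_algebraMap_eq' (ResidueField.map_comp φ ψ)
  have : Algebra.IsAlgebraic (ResidueField A) (ResidueField B) := by
    have : Algebra.IsIntegral (ResidueField A) (ResidueField B) := ⟨h1⟩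
    infer_instance
  have h3 := Field.finInsepDegree_mul_finInsepDegree_of_isAlgebraic (ResidueField A)
    (ResidueField B) (ResidueField C)
  rw [Algebra.IsSeparable.finInsepDegree_eq (ResidueField B) (ResidueField C), mul_one] at h3
  exact h3.symm

lemma insep_comp_right (φ : A →+* B) (ψ : B →+* C) [IsLocalHom φ] [IsLocalHom ψ]
    (h2 : letI := (ResidueField.map φ).toAlgebra;
      Algebra.IsSeparable (ResidueField A) (ResidueField B)) :
    insep (ψ.comp φ) = insep ψ := by
  let := (ResidueField.map φ).toAlgebra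
  let := (ResidueField.map ψ).toAlgebra
  let := (ResidueField.map (ψ.comp φ)).toAlgebra
  have : IsScalarTower (ResidueField A) (ResidueField B) (ResidueField C) :=
    .of_algebraMap_eq' (ResidueField.map_comp φ ψ)
  have h3 := Field.finInsepDegree_mul_finInsepDegree_of_isAlgebraic (ResidueField A)
    (ResidueField B) (ResidueField C)
  rw [Algebra.IsSeparable.finInsepDegree_eq (ResidueField A) (ResidueField B), one_mul] at h3
  exact h3.symm

omit [IsLocalRing C] in
lemma insep_congr {φ φ' : A →+* B} (h : φ = φ') [IsLocalHom φ] [IsLocalHom φ'] :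
    insep φ = insep φ' := by
  subst h; rfl

end ring

section scheme

variable {X Y Z : Scheme.{u}}

/-- The weight function of Stacks 0F3D. -/
noncomputable def wt (f : X ⟶ Y) (x : X) : ℤ :=
  (len (f.stalkMap x).hom : ℤ) * (insep (f.stalkMap x).hom : ℤ)

lemma stalkMap_comp_hom (f : X ⟶ Y) (g : Y ⟶ Z) (x : X) :
    ((f ≫ g).stalkMap x).hom = (f.stalkMap x).hom.comp (g.stalkMap (f x)).hom := by
  rw [Scheme.Hom.stalkMap_comp]; rfl

lemma map_maximalIdeal_of_etale (f : X ⟶ Y) [Etale f] (x : X) :
    (maximalIdeal (Y.presheaf.stalk (f x))).map (f.stalkMap x).hom =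
      maximalIdeal (X.presheaf.stalk x) := by
  algebraize [(f.stalkMap x).hom]
  have : IsLocalHom (algebraMap (Y.presheaf.stalk (f x)) (X.presheaf.stalk x)) :=
    inferInstanceAs <| IsLocalHom (f.stalkMap x).hom
  have : Algebra.EssFiniteType (Y.presheaf.stalk (f x)) (X.presheaf.stalk x) := by
    rw [← RingHom.essFiniteType_algebraMap, RingHom.algebraMap_toAlgebra]
    exact LocallyOfFiniteType.stalkMap f x
  have : Algebra.FormallyUnramified (Y.presheaf.stalk (f x)) (X.presheaf.stalk x) := by
    rw [← RingHom.formallyUnramified_algebraMap, RingHom.algebraMap_toAlgebra]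
    exact FormallyUnramified.stalkMap f x
  exact Algebra.FormallyUnramified.map_maximalIdeal

lemma isSeparable_of_etale (f : X ⟶ Y) [Etale f] (x : X) :
    letI := (ResidueField.map (f.stalkMap x).hom).toAlgebra
    Algebra.IsSeparable (ResidueField (Y.presheaf.stalk (f x)))
      (ResidueField (X.presheaf.stalk x)) := by
  have : letI : Algebra (Y.residueField (f.base x)) (X.residueField x) :=
      (f.residueFieldMap x).hom.toAlgebra
    Algebra.IsSeparable (Y.residueField (f.base x)) (X.residueField x) := inferInstance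
  exact this

lemma isIntegral_residueFieldMap (f : X ⟶ Y) [LocallyQuasiFinite f] (x : X) :
    (ResidueField.map (f.stalkMap x).hom).IsIntegral :=
  (FibreIntegral.finite_residueFieldMap f x).to_isIntegral

set_option backward.isDefEq.respectTransparency false in
lemma wt_comp_left (f : X ⟶ Y) (g : Y ⟶ Z) [Etale f] [LocallyQuasiFinite g] (x : X) :
    wt (f ≫ g) x = wt g (f x) := by
  have hs := stalkMap_comp_hom f g x
  have h1 : len ((f ≫ g).stalkMap x).hom = len (g.stalkMap (f x)).hom := by
    rw [hs]
    exact len_comp_of_flat _ _ (Flat.stalkMap f x) (map_maximalIdeal_of_etale f x)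
  have h2 : insep ((f ≫ g).stalkMap x).hom = insep (g.stalkMap (f x)).hom := by
    rw [insep_congr hs]
    exact insep_comp_left _ _ (isIntegral_residueFieldMap g (f x)) (isSeparable_of_etale f x)
  unfold wt
  rw [h1, h2]

set_option backward.isDefEq.respectTransparency false in
lemma wt_comp_right (f : X ⟶ Y) (g : Y ⟶ Z) [Etale g] (x : X) :
    wt (f ≫ g) x = wt f x := by
  have hs := stalkMap_comp_hom f g x
  have h1 : len ((f ≫ g).stalkMap x).hom = len (f.stalkMap x).hom := by
    rw [hs]
    exact len_comp_of_map _ _ (map_maximalIdeal_of_etale g (f x))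
  have h2 : insep ((f ≫ g).stalkMap x).hom = insep (f.stalkMap x).hom := by
    rw [insep_congr hs]
    exact insep_comp_right _ _ (isSeparable_of_etale g (f x))
  unfold wt
  rw [h1, h2]

/-- Invariance of `len` and `rdeg` under isomorphisms of ring maps. -/
lemma len_eq_of_equiv {A B A' B' : Type u} [CommRing A] [CommRing B] [CommRing A'] [CommRing B']
    [IsLocalRing A] [IsLocalRing B] [IsLocalRing A'] [IsLocalRing B']
    (φ : A →+* B) (φ' : A' →+* B') [IsLocalHom φ] (e₁ : A ≃+* A') (e₂ : B ≃+* B')
    (h : φ'.comp e₁.toRingHom = e₂.toRingHom.comp φ) : len φ = len φ' := by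
  have : IsLocalHom e₂.toRingHom := ⟨fun a ha => by simpa using! ha.map e₂.symm⟩
  have hm1 : (maximalIdeal A).map e₁.toRingHom = maximalIdeal A' := by
    apply IsLocalRing.eq_maximalIdeal
    exact Ideal.map_isMaximal_of_equiv e₁
  have hm2 : (maximalIdeal B).map e₂.toRingHom = maximalIdeal B' := by
    apply IsLocalRing.eq_maximalIdeal
    exact Ideal.map_isMaximal_of_equiv e₂
  rw [← len_comp_of_map e₁.toRingHom φ' hm1, h, len_comp_of_flat φ e₂.toRingHom _ hm2]
  exact RingHom.Flat.of_bijective e₂.bijective

lemma rdeg_eq_of_equiv {A B A' B' : Type u} [CommRing A] [CommRing B] [CommRing A'] [CommRing B']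
    [IsLocalRing A] [IsLocalRing B] [IsLocalRing A'] [IsLocalRing B']
    (φ : A →+* B) (φ' : A' →+* B') [IsLocalHom φ] [IsLocalHom φ'] (e₁ : A ≃+* A') (e₂ : B ≃+* B')
    (h : φ'.comp e₁.toRingHom = e₂.toRingHom.comp φ) : rdeg φ = rdeg φ' := by
  unfold rdeg
  let := (ResidueField.map φ).toAlgebra
  let := (ResidueField.map φ').toAlgebra
  refine Algebra.finrank_eq_of_equiv_equiv (ResidueField.mapEquiv e₁) (ResidueField.mapEquiv e₂) ?_
  ext x
  obtain ⟨x, rfl⟩ := residue_surjective x
  exact congr(residue _ ($h x))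

set_option backward.isDefEq.respectTransparency false in
lemma len_rdeg_stalkMap_Spec (R S : Type u) [CommRing R] [CommRing S] [Algebra R S]
    (q : PrimeSpectrum S) :
    len ((Spec.map (CommRingCat.ofHom (algebraMap R S))).stalkMap q).hom =
      Ideal.ramificationIdx q.asIdeal R ∧
    rdeg ((Spec.map (CommRingCat.ofHom (algebraMap R S))).stalkMap q).hom =
      Ideal.inertiaDeg q.asIdeal R := by
  let p := q.asIdeal.under R
  let := Localization.AtPrime.algebraOfLiesOver p q.asIdeal
  let g := Localization.localRingHom p q.asIdeal (algebraMap R S) rfl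
  have hg : IsLocalHom g := Localization.isLocalHom_localRingHom _ _ _ _
  let e₁ := (Spec.stalkIso (CommRingCat.of R) (q.comap (algebraMap R S))).commRingCatIsoToRingEquiv
  let e₂ := (Spec.stalkIso (CommRingCat.of S) q).commRingCatIsoToRingEquiv
  let ψ := (Spec.map (CommRingCat.ofHom (algebraMap R S))).stalkMap q
  have hψ : IsLocalHom ψ.hom := inferInstance
  have hcomm : g.comp e₁.toRingHom = e₂.toRingHom.comp ψ.hom := by
    have := Scheme.localRingHom_comp_stalkIso (CommRingCat.ofHom (algebraMap R S)) q
    have h2 := congr($this ≫ (Spec.stalkIso (CommRingCat.of S) q).hom)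
    simp only [Category.assoc, Iso.inv_hom_id, Category.comp_id] at h2
    exact congr(($h2).hom)
  constructor
  · refine (len_eq_of_equiv ψ.hom g e₁ e₂ hcomm).trans ?_
    rw [Ideal.ramificationIdx_def]
    have h3 : (maximalIdeal (Localization.AtPrime p)).map g =
        (q.asIdeal.under R).map (algebraMap R (Localization.AtPrime q.asIdeal)) := by
      rw [← Localization.AtPrime.map_eq_maximalIdeal, Ideal.map_map]
      congr 1
      ext x
      simp [g, Localization.localRingHom_to_map, ← IsScalarTower.algebraMap_apply]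
    unfold len
    rw [h3]
  · refine (rdeg_eq_of_equiv ψ.hom g e₁ e₂ hcomm).trans ?_
    rw [Ideal.inertiaDeg_eq p q.asIdeal]
    unfold rdeg
    let := (ResidueField.map g).toAlgebra
    congr 1
    refine Module.ext' _ _ fun r s => ?_
    obtain ⟨r, rfl⟩ := residue_surjective r
    obtain ⟨s, rfl⟩ := residue_surjective s
    rfl

lemma fibreIntegral_wt_Spec (R S : Type u) [CommRing R] [CommRing S] [Algebra R S]
    [Module.Finite R S] [Module.Flat R S] (p : PrimeSpectrum R) :
    MoreMor.fibreIntegral (Spec.map (CommRingCat.ofHom (algebraMap R S)))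
      (wt (Spec.map (CommRingCat.ofHom (algebraMap R S)))) p =
      Scheme.Hom.finrank (Spec.map (CommRingCat.ofHom (algebraMap R S))) p := by
  classical
  rw [Scheme.Hom.finrank_SpecMap_algebraMap, Module.rankAtStalk_eq]
  have : Finite (p.asIdeal.primesOver S) := (Algebra.QuasiFinite.finite_primesOver _).to_subtype
  have := Fintype.ofFinite (p.asIdeal.primesOver S)
  have h1 := Ideal.sum_ramification_inertia_eq_finrank_fiber p.asIdeal S
  have h2 : ((Module.finrank p.asIdeal.ResidueField (p.asIdeal.Fiber S) : ℕ) : ℤ) =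
    Module.finrank p.asIdeal.ResidueField (TensorProduct R p.asIdeal.ResidueField S) := rfl
  rw [← h2, ← h1]
  unfold MoreMor.fibreIntegral
  let E : {u : Spec (CommRingCat.of S) // (Spec.map (CommRingCat.ofHom (algebraMap R S))) u = p} ≃
      p.asIdeal.primesOver S :=
    { toFun := fun u => ⟨u.1.asIdeal, u.1.2, ⟨congr(PrimeSpectrum.asIdeal $(u.2)).symm⟩⟩
      invFun := fun q => ⟨⟨q.1, q.2.1⟩, PrimeSpectrum.ext q.2.2.1.symm⟩
      left_inv := fun _ => rfl
      right_inv := fun _ => rfl }
  refine (finsum_eq_of_bijective E E.bijective (g := fun q =>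
    ((q.1.ramificationIdx R : ℕ) : ℤ) * ((q.1.inertiaDeg R : ℕ) : ℤ)) ?_).trans ?_
  rotate_left
  · rw [finsum_eq_sum_of_fintype]
    push_cast
    rfl
  · intro u
    obtain ⟨h3, h4⟩ := len_rdeg_stalkMap_Spec R S u.1
    have h5 := fsep_mul_insep ((Spec.map (CommRingCat.ofHom (algebraMap R S))).stalkMap u.1).hom
    have h6 : ((E u).1.ramificationIdx R : ℤ) * ((E u).1.inertiaDeg R : ℤ) =
      (len ((Spec.map (CommRingCat.ofHom (algebraMap R S))).stalkMap u.1).hom : ℤ) *
      (rdeg ((Spec.map (CommRingCat.ofHom (algebraMap R S))).stalkMap u.1).hom : ℤ) := by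
      rw [h3, h4]; rfl
    rw [h6, ← h5]
    push_cast
    unfold wt
    rw [mul_assoc, mul_comm (insep _ : ℤ)]
    rfl

lemma fibreIntegral_wt_of_isPullback {U V U' V' : Scheme.{u}} (π : U ⟶ V) [LocallyQuasiFinite π]
    (π' : U' ⟶ V') (h : U' ⟶ U) (g : V' ⟶ V) [Etale g] (hc : IsPullback h π' π g) (v' : V') :
    MoreMor.fibreIntegral π' (wt π') v' = MoreMor.fibreIntegral π (wt π) (g v') := by
  have : Etale h := MorphismProperty.of_isPullback hc.flip ‹_›
  rw [← FibreIntegral.fibreIntegral_baseChange π π' h g hc]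
  congr 1
  ext u
  rw [Function.comp_apply, ← wt_comp_left h π, ← wt_comp_right π' g]
  exact congr(wt $(hc.w.symm) u)

theorem fibreIntegral_wt {U V : Scheme.{u}} (π : U ⟶ V) [IsFinite π] [Flat π] (v : V) :
    MoreMor.fibreIntegral π (wt π) v = π.finrank v := by
  obtain ⟨R, g, _, y, rfl⟩ := V.exists_Spec_apply_eq v
  have : IsAffine (pullback π g) := isAffine_of_isAffineHom (pullback.snd π g)
  let e := (pullback π g).isoSpec
  obtain ⟨φ, hφ⟩ := Spec.map_surjective (e.inv ≫ pullback.snd π g)
  have hc : IsPullback (e.inv ≫ pullback.fst π g) (Spec.map φ) π g := by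
    rw [hφ]
    exact IsPullback.of_iso (IsPullback.of_hasPullback π g) e (Iso.refl _) (Iso.refl _) (Iso.refl _)
      (by simp) (by simp) (by simp) (by simp)
  have h1 : IsFinite (Spec.map φ) := MorphismProperty.of_isPullback hc ‹_›
  have h2 : Flat (Spec.map φ) := MorphismProperty.of_isPullback hc ‹_›
  have h3 : (g.base y : V) = g y := rfl
  rw [h3, ← fibreIntegral_wt_of_isPullback π (Spec.map φ) _ g hc, 
    ← Scheme.Hom.finrank_of_isPullback _ _ _ _ hc]
  rw [IsFinite.SpecMap_iff] at h1
  rw [Flat.SpecMap_iff] at h2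
  algebraize [φ.hom]
  exact fibreIntegral_wt_Spec R _ y

lemma len_pos {A B : Type u} [CommRing A] [CommRing B] [IsLocalRing A] [IsLocalRing B]
    (φ : A →+* B) [IsLocalHom φ] (h : φ.QuasiFinite) : 0 < len φ := by
  algebraize [φ]
  have : IsLocalHom (algebraMap A B) := ‹IsLocalHom φ›
  have : Algebra.QuasiFinite A B := h
  have h1 : Module.Finite (A ⧸ maximalIdeal A)
      (TensorProduct A (A ⧸ maximalIdeal A) B) := by
    have : IsArtinianRing (A ⧸ maximalIdeal A) := by
      let : Field (A ⧸ maximalIdeal A) := Ideal.Quotient.field _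
      infer_instance
    exact Module.Finite.of_quasiFinite
  have h2 : Module.Finite A (TensorProduct A (A ⧸ maximalIdeal A) B) :=
    Module.Finite.trans (A ⧸ maximalIdeal A) _
  let e : (B ⧸ (maximalIdeal A).map (algebraMap A B)) ≃ₗ[A] TensorProduct A (A ⧸ maximalIdeal A) B :=
    ((Algebra.TensorProduct.quotIdealMapEquivTensorQuot B (maximalIdeal A)).toLinearEquiv.restrictScalars
      A).trans (TensorProduct.comm A _ _)
  have h3 : Module.Finite A (B ⧸ (maximalIdeal A).map (algebraMap A B)) := Module.Finite.equiv e.symm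
  have h4 : Module.Finite (A ⧸ maximalIdeal A) (B ⧸ (maximalIdeal A).map (algebraMap A B)) :=
    Module.Finite.of_restrictScalars_finite A _ _
  have h5 : IsArtinianRing (B ⧸ (maximalIdeal A).map (algebraMap A B)) := by
    have : IsArtinianRing (A ⧸ maximalIdeal A) := by
      let : Field (A ⧸ maximalIdeal A) := Ideal.Quotient.field _
      infer_instance
    exact IsArtinianRing.of_finite (A ⧸ maximalIdeal A) _
  unfold len
  apply ENat.toNat_pos
  · rw [← pos_iff_ne_zero, Module.length_pos_iff, Submodule.Quotient.nontrivial_iff]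
    exact ((local_hom_TFAE φ).out 0 2 rfl rfl |>.mp inferInstance).trans_lt
      (maximalIdeal.isMaximal B).lt_top |>.ne
  · rwa [Module.length_eq_of_surjective (R := B ⧸ (maximalIdeal A).map φ)
      Ideal.Quotient.mk_surjective, Module.length_ne_top_iff, ← isArtinianRing_iff_isFiniteLength]

lemma insep_pos {A B : Type u} [CommRing A] [CommRing B] [IsLocalRing A] [IsLocalRing B]
    (φ : A →+* B) [IsLocalHom φ] (h : (ResidueField.map φ).Finite) : 0 < insep φ := by
  unfold insep
  let := (ResidueField.map φ).toAlgebra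
  have : Module.Finite (ResidueField A) (ResidueField B) := h
  exact Module.finrank_pos

lemma wt_pos {X Y : Scheme.{u}} (f : X ⟶ Y) [LocallyQuasiFinite f] (x : X) : 0 < wt f x := by
  have h1 := len_pos (f.stalkMap x).hom (f.quasiFiniteAt x)
  have h2 := insep_pos (f.stalkMap x).hom (FibreIntegral.finite_residueFieldMap f x)
  unfold wt
  positivity

theorem isWeighting_wt {X Y : Scheme.{u}} (f : X ⟶ Y) [LocallyQuasiFinite f] [Flat f]
    [LocallyOfFinitePresentation f] : MoreMor.IsWeighting f (wt f) := by
  intro V g _ U hU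
  have h1 : wt f ∘ (U.ι ≫ pullback.fst f g) = wt (U.ι ≫ pullback.snd f g) := by
    ext u
    have h2 : (U.ι ≫ pullback.fst f g) ≫ f = (U.ι ≫ pullback.snd f g) ≫ g := by
      simp [pullback.condition]
    rw [← wt_comp_right (U.ι ≫ pullback.snd f g) g, ← h2, wt_comp_left]
    rfl
  have h3 : MoreMor.fibreIntegral (U.ι ≫ pullback.snd f g)
      (wt f ∘ (U.ι ≫ pullback.fst f g)) =
      (fun n : ℕ => (n : ℤ)) ∘ (U.ι ≫ pullback.snd f g).finrank := by
    ext v
    rw [h1, fibreIntegral_wt]
    rfl
  have h4 : IsLocallyConstant (MoreMor.fibreIntegral (U.ι ≫ pullback.snd f g)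
      (wt f ∘ (U.ι ≫ pullback.fst f g))) := by
    rw [h3]
    exact (Scheme.Hom.isLocallyConstant_finrank (U.ι ≫ pullback.snd f g)).comp _
  exact h4

end scheme

end Groth.Agent.Flat2F.FlatWeight
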