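import Groth.Agent.CohqB.DevSupport
import Groth.Agent.CohqB.HSeqMod
import Groth.Agent.CohtopA.ColimCohomology
import Groth.Agent.CohqA.HTop

/-!
# Cohomology of `O_X`-modules commutes with filtered colimits on qcqs schemes (elementwise form)
-/

set_option autoImplicit false
universe u

open CategoryTheory CategoryTheory.Limits AlgebraicGeometry Opposite TopologicalSpace

namespace Groth.Agent.Flat2F.HHColim

open Groth.Agent.CohqB.DevSupport (toAbF toAbF_preservesColimits toAbF_preservesColimitsOfShape)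

section Ab

variable {X : TopCat.{u}} [PrespectralSpace X] [QuasiSeparatedSpace X] [CompactSpace X]
  {I : Type u} [SmallCategory I] [IsFiltered I] {D : I ⥤ CohTop.Ab X} {c : Cocone D}

theorem exists_map_eq_ab (hc : IsColimit c) (p : ℕ)
    (x : Sheaf.H (J := Opens.grothendieckTopology X) c.pt p) :
    ∃ (i : I) (y : Sheaf.H (J := Opens.grothendieckTopology X) (D.obj i) p),
      Sheaf.H.map (c.ι.app i) p y = x := by
  have hP : PreservesColimitsOfShape I
      ((Sheaf.cohomologyPresheafFunctor (Opens.grothendieckTopology X) p).flip.obj (op ⊤) :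
        CohTop.Ab X ⥤ AddCommGrpCat.{u}) :=
    CohtopA.ColimCohomology.preservesColimitsOfShape_cohomology (U := ⊤) isCompact_univ p
  have hc' := isColimitOfPreserves
    ((Sheaf.cohomologyPresheafFunctor (Opens.grothendieckTopology X) p).flip.obj (op ⊤) :
        CohTop.Ab X ⥤ AddCommGrpCat.{u}) hc
  let T : IsTerminal (⊤ : Opens X) := isTerminalTop
  obtain ⟨i, y, hy⟩ := CohtopA.FiltColim.exists_rep hc' ((CohqA.HTop.equivH T c.pt p).symm x)
  refine ⟨i, CohqA.HTop.equivH T (D.obj i) p y, ?_⟩
  rw [← CohqA.HTop.equivH_naturality]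
  exact (congrArg _ hy).trans ((CohqA.HTop.equivH T c.pt p).apply_symm_apply x)

theorem exists_map_eq_zero_ab (hc : IsColimit c) (p : ℕ) (i : I)
    (y : Sheaf.H (J := Opens.grothendieckTopology X) (D.obj i) p)
    (hy : Sheaf.H.map (c.ι.app i) p y = 0) :
    ∃ (j : I) (f : i ⟶ j), Sheaf.H.map (D.map f) p y = 0 := by
  have hP : PreservesColimitsOfShape I
      ((Sheaf.cohomologyPresheafFunctor (Opens.grothendieckTopology X) p).flip.obj (op ⊤) :
        CohTop.Ab X ⥤ AddCommGrpCat.{u}) :=
    CohtopA.ColimCohomology.preservesColimitsOfShape_cohomology (U := ⊤) isCompact_univ p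
  have hc' := isColimitOfPreserves
    ((Sheaf.cohomologyPresheafFunctor (Opens.grothendieckTopology X) p).flip.obj (op ⊤) :
        CohTop.Ab X ⥤ AddCommGrpCat.{u}) hc
  let T : IsTerminal (⊤ : Opens X) := isTerminalTop
  obtain ⟨y', rfl⟩ := (CohqA.HTop.equivH T (D.obj i) p).surjective y
  rw [← CohqA.HTop.equivH_naturality] at hy
  obtain ⟨j, f, hf⟩ := CohtopA.FiltColim.exists_map_eq_zero hc' i y'
    ((CohqA.HTop.equivH T c.pt p).map_eq_zero_iff.mp hy)
  refine ⟨j, f, ?_⟩
  rw [← CohqA.HTop.equivH_naturality]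
  exact (congrArg _ hf).trans (map_zero _)

end Ab

variable {X : Scheme.{u}}

section

open Groth.Agent.CohqB.HSeqMod

variable [CompactSpace X] [QuasiSeparatedSpace X] {I : Type u} [SmallCategory I] [IsFiltered I]
  {D : I ⥤ X.Modules} {c : Cocone D}

/-- On a qcqs scheme, every cohomology class of a filtered colimit comes from a finite stage. -/
theorem exists_hmap_eq (hc : IsColimit c) (p : ℕ) (x : Coh.HH X c.pt p) :
    ∃ (i : I) (y : Coh.HH X (D.obj i) p), hmap (c.ι.app i) p y = x :=
  exists_map_eq_ab (X := TopCat.of X) (isColimitOfPreserves (toAbF X) hc) p x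

/-- On a qcqs scheme, a cohomology class dying in a filtered colimit dies at a finite stage. -/
theorem exists_hmap_eq_zero (hc : IsColimit c) (p : ℕ) (i : I) (y : Coh.HH X (D.obj i) p)
    (hy : hmap (c.ι.app i) p y = 0) : ∃ (j : I) (f : i ⟶ j), hmap (D.map f) p y = 0 :=
  exists_map_eq_zero_ab (X := TopCat.of X) (isColimitOfPreserves (toAbF X) hc) p i y hy

end

end Groth.Agent.Flat2F.HHColim
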