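import Groth.Agent.Ega1.SubExtMain
import Groth.Agent.CohqB.FiniteType2
import Groth.Agent.Sga67.CohBasic
import Groth.Agent.Flat2F.HHColim
import Mathlib.CategoryTheory.Abelian.GrothendieckCategory.Subobject
import Mathlib.Topology.Sheaves.LocallySurjective

/-!
# A quasi-coherent module on a qcqs scheme is the directed union of its finite type quasi-coherent
submodules; consequences for cohomology classes
-/

set_option autoImplicit false
universe u

open CategoryTheory CategoryTheory.Limits AlgebraicGeometry Opposite TopologicalSpace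
open Groth.Agent.Ega1.SubSheaf Groth.Agent.Ega1.SubExt Groth.Agent.Ega1.LocMod

namespace Groth.Agent.Flat2F.FtSub

variable {X : Scheme.{u}}

theorem isFT_biprod {M N : X.Modules} (hM : Coh.IsQCoh M) (hN : Coh.IsQCoh N)
    (hM' : CohB1.IsFT M) (hN' : CohB1.IsFT N) : CohB1.IsFT (M ⊞ N) := by
  have : Coh.IsQCoh (M ⊞ N) := Sga67.CohBasic.isQCoh_biprod hM hN
  refine (CohqB.FiniteType2.isFT_iff_finite_sections (M ⊞ N)).mpr ?_
  intro V hV
  have h1 := CohqB.FiniteType2.finite_sections_of_isFT M hM' hV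
  have h2 := CohqB.FiniteType2.finite_sections_of_isFT N hN' hV
  let a := CohqB.FiniteType2.appLinear (biprod.inl : M ⟶ M ⊞ N) V
  let b := CohqB.FiniteType2.appLinear (biprod.inr : N ⟶ M ⊞ N) V
  have hab : LinearMap.range a ⊔ LinearMap.range b = ⊤ := by
    rw [eq_top_iff]
    intro s _
    have h : (biprod.fst ≫ biprod.inl + biprod.snd ≫ biprod.inr : M ⊞ N ⟶ M ⊞ N) = 𝟙 _ :=
      biprod.total
    have h3 : s = a ((biprod.fst : M ⊞ N ⟶ M).app V s) + b ((biprod.snd : M ⊞ N ⟶ N).app V s) := by
      have := congr(($h).app V s)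
      exact this.symm
    rw [h3]
    exact Submodule.add_mem _ (Submodule.mem_sup_left ⟨_, rfl⟩) (Submodule.mem_sup_right ⟨_, rfl⟩)
  refine ⟨?_⟩
  rw [← hab]
  exact (Submodule.FG.sup (Module.Finite.iff_fg.mp (Module.Finite.range a))
    (Module.Finite.iff_fg.mp (Module.Finite.range b)))

/-- The range of a mono, as a local family of submodules. -/
noncomputable def rangeSub {G M : X.Modules} (i : G ⟶ M) [Mono i] : Sub M where
  obj U := LinearMap.range (CohqB.FiniteType2.appLinear i U)
  map_mem {U V} h s := by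
    rintro ⟨t, rfl⟩
    exact ⟨res G h t, app_res i h t⟩
  local_mem {U} s h := by
    have hi := (mono_iff_injective i).mp inferInstance
    choose V hV hxV t ht using fun x : U ↦ h x.1 x.2
    obtain ⟨t', ht'⟩ := exists_glue G (U := U) (fun x : U ↦ V x)
      (fun x ↦ hV x) (fun y hy ↦ ⟨⟨y, hy⟩, hxV ⟨y, hy⟩⟩) t (by
        intro x y
        apply hi
        rw [app_res, app_res]
        have h1 := ht x
        have h2 := ht y
        rw [CohqB.FiniteType2.appLinear_apply] at h1 h2
        rw [h1, h2, res_res, res_res])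
    refine ⟨t', ?_⟩
    refine section_ext _ _ _ fun y hy ↦ ⟨V ⟨y, hy⟩, hV ⟨y, hy⟩, hxV ⟨y, hy⟩, ?_⟩
    have h1 := ht ⟨y, hy⟩
    rw [CohqB.FiniteType2.appLinear_apply] at h1 ⊢
    rw [← app_res, ht', h1]

theorem mem_rangeSub {G M : X.Modules} (i : G ⟶ M) [Mono i] {U : X.Opens} (s : Γ(M, U)) :
    s ∈ (rangeSub i).obj U ↔ ∃ t, i.app U t = s := Iff.rfl

theorem goodOn_rangeSub {G M : X.Modules} (i : G ⟶ M) [Mono i] (hG : Coh.IsQCoh G)
    (hGf : CohB1.IsFT G) (hM : Coh.IsQCoh M) {W : X.Opens} (hW : IsAffineOpen W) :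
    GoodOn (rangeSub i) W := by
  refine ⟨hW, ?_, ?_⟩
  · intro f s hs
    obtain ⟨t, ht⟩ := (mem_rangeSub i _).mp hs
    obtain ⟨n, t', ht'⟩ := (loc_of_isQuasicoherent G hW).surj f t
    obtain ⟨m, hm⟩ := (loc_of_isQuasicoherent M hW).inj f (i.app W t' - f ^ n • s) (by
      rw [map_sub, ← app_res, ht', Groth.Agent.Ega1.QCohFinite.res_pow_smul, app_smul', ht, sub_self])
    refine ⟨m + n, f ^ m • t', ?_⟩
    rw [smul_sub, sub_eq_zero] at hm
    rw [CohqB.FiniteType2.appLinear_apply, app_smul', hm, pow_add, mul_smul]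
  · have := CohqB.FiniteType2.finite_sections_of_isFT G hGf hW
    exact Module.Finite.iff_fg.mp (Module.Finite.range (CohqB.FiniteType2.appLinear i W))

/-- Finite type quasi-coherent submodules. -/
structure GoodSub (M : X.Modules) where
  /-- the underlying family of submodules -/
  sub : Sub M
  good : ∀ x, GoodAt sub x

instance (M : X.Modules) : Preorder (GoodSub M) where
  le a b := ∀ U, a.sub.obj U ≤ b.sub.obj U
  le_refl a U := le_rfl
  le_trans a b c h h' U := (h U).trans (h' U)

variable {M : X.Modules}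

theorem GoodSub.le_iff (a b : GoodSub M) : a ≤ b ↔ ∀ U, a.sub.obj U ≤ b.sub.obj U := Iff.rfl

/-- A finite type quasi-coherent submodule given by a mono. -/
noncomputable def GoodSub.ofMono {G : X.Modules} (i : G ⟶ M) [Mono i] (hG : Coh.IsQCoh G)
    (hGf : CohB1.IsFT G) (hM : Coh.IsQCoh M) : GoodSub M where
  sub := rangeSub i
  good x := by
    obtain ⟨W, hW, hx, -⟩ := exists_isAffineOpen_mem_and_subset (x := x) (U := ⊤) trivial
    exact ⟨W, hx, goodOn_rangeSub i hG hGf hM hW⟩

theorem GoodSub.isQCoh (hM : Coh.IsQCoh M) (a : GoodSub M) : Coh.IsQCoh a.sub.toModules :=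
  have : M.IsQuasicoherent := hM
  (Groth.Agent.Ega1.SubExtMain.isQuasicoherent_of_good a.good).1

theorem GoodSub.isFT (hM : Coh.IsQCoh M) (a : GoodSub M) : CohB1.IsFT a.sub.toModules :=
  have : M.IsQuasicoherent := hM
  (Groth.Agent.Ega1.SubExtMain.isQuasicoherent_of_good a.good).2

theorem GoodSub.directed (hM : Coh.IsQCoh M) : IsDirected (GoodSub M) (· ≤ ·) where
  directed a b := by
    let φ := biprod.desc a.sub.ι b.sub.ι
    have h1 := Sga67.CohBasic.isQCoh_biprod (a.isQCoh hM) (b.isQCoh hM)
    have h2 := isFT_biprod (a.isQCoh hM) (b.isQCoh hM) (a.isFT hM) (b.isFT hM)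
    have h3 : Coh.IsQCoh (Abelian.image φ) := Sga67.CohBasic.isQCoh_image φ h1 hM
    have h4 : CohB1.IsFT (Abelian.image φ) :=
      CohqB.FiniteType.IsFT.of_epi h2 (Abelian.factorThruImage φ)
    refine ⟨GoodSub.ofMono (Abelian.image.ι φ) h3 h4 hM, fun U s hs => ?_, fun U s hs => ?_⟩
    · have : (biprod.inl ≫ Abelian.factorThruImage φ) ≫ Abelian.image.ι φ = a.sub.ι := by
        rw [Category.assoc, Abelian.image.fac, biprod.inl_desc]
      exact ⟨(biprod.inl ≫ Abelian.factorThruImage φ).app U (a.sub.sec s hs),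
        congr(($this).app U (a.sub.sec s hs))⟩
    · have : (biprod.inr ≫ Abelian.factorThruImage φ) ≫ Abelian.image.ι φ = b.sub.ι := by
        rw [Category.assoc, Abelian.image.fac, biprod.inr_desc]
      exact ⟨(biprod.inr ≫ Abelian.factorThruImage φ).app U (b.sub.sec s hs),
        congr(($this).app U (b.sub.sec s hs))⟩

/-- Every local section over an affine open lies in a finite type quasi-coherent submodule. -/
theorem GoodSub.exists_mem [CompactSpace X] [QuasiSeparatedSpace X] (hM : Coh.IsQCoh M)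
    {V : X.Opens} (hV : IsAffineOpen V) (s : Γ(M, V)) : ∃ a : GoodSub M, s ∈ a.sub.obj V := by
  have : M.IsQuasicoherent := hM
  obtain ⟨N', h1, h2⟩ := Groth.Agent.Ega1.SubExtMain.exists_extension_qcqs (M := M) (V := V)
    (N := gen (Submodule.span Γ(X, V) {s} : Set Γ(M, V))) hV.isCompact
    (fun x hx => ⟨V, hx, goodOn_gen hV _ (Submodule.fg_span_singleton s)⟩)
  refine ⟨⟨N', h2⟩, ?_⟩
  change s ∈ N'.obj V
  rw [h1 V le_rfl, gen_self hV]
  exact Submodule.mem_span_singleton_self s

theorem exists_incl {a b : GoodSub M} (h : a ≤ b) :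
    ∃ g : a.sub.toModules ⟶ b.sub.toModules, g ≫ b.sub.ι = a.sub.ι :=
  exists_lift a.sub.ι b.sub.ι fun U s =>
    (b.sub.mem_iff_exists _).mp (h U (a.sub.ι_app_mem s))

/-- The inclusion between two finite type quasi-coherent submodules. -/
noncomputable def incl {a b : GoodSub M} (h : a ≤ b) : a.sub.toModules ⟶ b.sub.toModules :=
  (exists_incl h).choose

theorem incl_ι {a b : GoodSub M} (h : a ≤ b) : incl h ≫ b.sub.ι = a.sub.ι :=
  (exists_incl h).choose_spec

/-- The diagram of finite type quasi-coherent submodules. -/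
noncomputable def diag (M : X.Modules) : GoodSub M ⥤ X.Modules where
  obj a := a.sub.toModules
  map f := incl (leOfHom f)
  map_id a := by rw [← cancel_mono a.sub.ι, incl_ι, Category.id_comp]
  map_comp {a b c} f g := by
    rw [← cancel_mono c.sub.ι, incl_ι, Category.assoc, incl_ι, incl_ι]

/-- The cocone of inclusions. -/
noncomputable def cone (M : X.Modules) : Cocone (diag M) where
  pt := M
  ι := { app := fun a => a.sub.ι
         naturality := fun a b f => by
           change incl (leOfHom f) ≫ b.sub.ι = a.sub.ι ≫ 𝟙 M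
           rw [incl_ι, Category.comp_id] }

open Groth.Agent.CohqB.DevSupport (toAbF toAbF_preservesColimits toAbF_preservesColimitsOfShape)

/-- A quasi-coherent module on a qcqs scheme is the directed union of its finite type
quasi-coherent submodules (as abelian sheaves). -/
theorem nonempty_isColimit [CompactSpace X] [QuasiSeparatedSpace X] (hM : Coh.IsQCoh M) :
    Nonempty (IsColimit ((toAbF X).mapCocone (cone M))) := by
  have := GoodSub.directed hM
  have : Nonempty (GoodSub M) := ⟨(GoodSub.exists_mem hM (isAffineOpen_bot X) 0).choose⟩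
  have hfil : IsFiltered (GoodSub M) := inferInstance
  have hconn : IsConnected (GoodSub M) := IsFiltered.isConnected _
  let D : GoodSub M ⥤ TopCat.Sheaf AddCommGrpCat.{u} X := diag M ⋙ toAbF X
  let c : Cocone D := (toAbF X).mapCocone (cone M)
  let f : colimit D ⟶ c.pt := colimit.desc D c
  have hmono : Mono f := by
    let α : D ⟶ (Functor.const _).obj c.pt := c.ι
    have : ∀ j, Mono (α.app j) := fun j => by
      change Mono ((toAbF X).map j.sub.ι)
      infer_instance
    have := NatTrans.mono_of_mono_app α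
    exact colim.map_mono' α (colimit.isColimit D) (isColimitConstCocone _ c.pt) f (by
      intro j
      exact (colimit.ι_desc c j).trans (Category.comp_id _).symm)
  have hepi : Epi f := by
    rw [← TopCat.Sheaf.isLocallySurjective_iff_epi, TopCat.Presheaf.isLocallySurjective_iff]
    intro U t x hx
    obtain ⟨V, hV, hxV, hVU⟩ := exists_isAffineOpen_mem_and_subset (x := x) (U := U) hx
    obtain ⟨a, ha⟩ := GoodSub.exists_mem hM hV (res M hVU t)
    refine ⟨V, hVU, ⟨(colimit.ι D a).hom.app (op V) (a.sub.sec _ ha), ?_⟩, hxV⟩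
    have h1 : colimit.ι D a ≫ f = c.ι.app a := colimit.ι_desc _ _
    exact congr(($h1).hom.app (op V) (a.sub.sec _ ha))
  have hiso : IsIso f := isIso_of_mono_of_epi f
  have hf : IsIso ((colimit.isColimit D).desc c) := hiso
  exact ⟨IsColimit.ofPointIso (colimit.isColimit D)⟩

/-- On a qcqs scheme every cohomology class of a quasi-coherent module comes from a finite type
quasi-coherent submodule. -/
theorem exists_ft_sub [CompactSpace X] [QuasiSeparatedSpace X] (hM : Coh.IsQCoh M)
    (p : ℕ) (x : Coh.HH X M p) :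
    ∃ (G : X.Modules) (i : G ⟶ M) (y : Coh.HH X G p), Mono i ∧ Coh.IsQCoh G ∧ CohB1.IsFT G ∧
      CohqB.HSeqMod.hmap i p y = x := by
  have := GoodSub.directed hM
  have : Nonempty (GoodSub M) := ⟨(GoodSub.exists_mem hM (isAffineOpen_bot X) 0).choose⟩
  obtain ⟨hc⟩ := nonempty_isColimit hM
  obtain ⟨a, y, hy⟩ := HHColim.exists_map_eq_ab (X := TopCat.of X) hc p x
  exact ⟨a.sub.toModules, a.sub.ι, y, inferInstance, a.isQCoh hM, a.isFT hM, hy⟩

end Groth.Agent.Flat2F.FtSub
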