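import Groth.Agent.Flat2F.FibreIntegral

/-!
Sets of geometric points of opens over a geometric point; fibre integrals over opens.
-/

set_option autoImplicit false
universe u

namespace Groth.Agent.Flat2F.GeomPts

open AlgebraicGeometry CategoryTheory Limits FibreIntegral

variable {X Y : Scheme.{u}}

lemma range_eq_pt {K : Type u} [Field K] (s : Spec (.of K) ⟶ X) : Set.range s = {s (pt K)} := by
  ext x
  simp only [Set.mem_range, Set.mem_singleton_iff]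
  constructor
  · rintro ⟨p, rfl⟩
    exact congr(s $(Subsingleton.elim (α := PrimeSpectrum K) p (pt K)))
  · rintro rfl
    exact ⟨_, rfl⟩

/-- Lifts of a `K`-point of `Y` to an open `U` of `X`. -/
def L (f : X ⟶ Y) {K : Type u} [Field K] (ω : Spec (.of K) ⟶ Y) (U : X.Opens) :
    Set (Spec (.of K) ⟶ X) := {s | s ≫ f = ω ∧ s (pt K) ∈ U}

/-- Lifting `K`-points along an open immersion. -/
noncomputable def liftOpen {K : Type u} [Field K] (U : X.Opens) (s : Spec (.of K) ⟶ X)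
    (h : s (pt K) ∈ U) : Spec (.of K) ⟶ (U : Scheme.{u}) :=
  IsOpenImmersion.lift U.ι s (by
    rw [range_eq_pt, Set.singleton_subset_iff]
    simpa using h)

lemma liftOpen_ι {K : Type u} [Field K] (U : X.Opens) (s : Spec (.of K) ⟶ X)
    (h : s (pt K) ∈ U) : liftOpen U s h ≫ U.ι = s := IsOpenImmersion.lift_fac _ _ _

lemma ι_apply_mem (U : X.Opens) (x : (U : Scheme.{u})) : U.ι x ∈ U := by
  have : U.ι x ∈ Set.range U.ι := ⟨x, rfl⟩
  simpa using this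

/-- The equivalence of lifts. -/
noncomputable def liftOpenEquiv (f : X ⟶ Y) {K : Type u} [Field K] (ω : Spec (.of K) ⟶ Y)
    (U : X.Opens) : {s : Spec (.of K) ⟶ (U : Scheme.{u}) // s ≫ U.ι ≫ f = ω} ≃ L f ω U where
  toFun s := ⟨s.1 ≫ U.ι, by rw [Category.assoc]; exact s.2, by
    rw [Scheme.Hom.comp_apply]
    exact ι_apply_mem U _⟩
  invFun s := ⟨liftOpen U s.1 s.2.2, by rw [← Category.assoc, liftOpen_ι]; exact s.2.1⟩
  left_inv s := by
    ext1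
    rw [← cancel_mono U.ι, liftOpen_ι]
  right_inv s := by
    ext1
    simp [liftOpen_ι]

/-- Fibre integral over an open. -/
theorem fibreIntegral_ι (f : X ⟶ Y) (U : X.Opens) [LocallyQuasiFinite (U.ι ≫ f)] (w : X → ℤ)
    {K : Type u} [Field K] [IsAlgClosed K] (ω : Spec (.of K) ⟶ Y) :
    MoreMor.fibreIntegral (U.ι ≫ f) (w ∘ U.ι) (ω (pt K)) = ∑ᶠ s ∈ L f ω U, w (s (pt K)) := by
  rw [fibreIntegral_eq, ← finsum_set_coe_eq_finsum_mem]
  refine finsum_eq_of_bijective (liftOpenEquiv f ω U) (liftOpenEquiv f ω U).bijective fun s => ?_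
  simp [liftOpenEquiv]

/-- The set of lifts is finite when `f` is locally quasi-finite and quasi-compact on `U`. -/
lemma finite_L (f : X ⟶ Y) (U : X.Opens) [LocallyQuasiFinite (U.ι ≫ f)] [QuasiCompact (U.ι ≫ f)]
    {K : Type u} [Field K] [IsAlgClosed K] (ω : Spec (.of K) ⟶ Y) : (L f ω U).Finite := by
  rw [← Set.finite_coe_iff, ← (liftOpenEquiv f ω U).finite_iff]
  have h1 : ((U.ι ≫ f) ⁻¹' {ω (pt K)}).Finite := (U.ι ≫ f).finite_preimage_singleton _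
  let p : {s : Spec (.of K) ⟶ (U : Scheme.{u}) // s ≫ U.ι ≫ f = ω} → (U.ι ≫ f) ⁻¹' {ω (pt K)} :=
    fun s => ⟨s.1 (pt K), by
      simp only [Set.mem_preimage, Set.mem_singleton_iff, ← Scheme.Hom.comp_apply]
      exact congr(($(s.2)) (pt K))⟩
  have : Finite ((U.ι ≫ f) ⁻¹' {ω (pt K)}) := h1
  rw [← Set.finite_univ_iff, ← Set.preimage_univ (f := p)]
  refine Set.finite_univ.preimage' fun x _ => ?_
  have h2 := (card_lift (U.ι ≫ f) K ω x.1 x.2).1
  refine Set.Finite.subset (s := Set.range fun s : {s : Spec (.of K) ⟶ (U : Scheme.{u}) //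
    s ≫ U.ι ≫ f = ω ∧ s (pt K) = x.1} => (⟨s.1, s.2.1⟩ : {s : Spec (.of K) ⟶ (U : Scheme.{u}) // s ≫ U.ι ≫ f = ω}))
    (Set.finite_range _) ?_
  rintro s hs
  exact ⟨⟨s.1, s.2, congr(($hs).1)⟩, rfl⟩

/-- Existence of a geometric lift at a given point. -/
lemma exists_lift (f : X ⟶ Y) [LocallyQuasiFinite f] {K : Type u} [Field K] [IsAlgClosed K]
    (ω : Spec (.of K) ⟶ Y) (x : X) (hx : f x = ω (pt K)) :
    ∃ s : Spec (.of K) ⟶ X, s ≫ f = ω ∧ s (pt K) = x := by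
  obtain ⟨s⟩ := (card_lift f K ω x hx).2.1
  exact ⟨s.1, s.2⟩

/-- Base change of sets of lifts. -/
lemma L_baseChange {X' Y' : Scheme.{u}} {f : X ⟶ Y} {f' : X' ⟶ Y'} {h : X' ⟶ X} {g : Y' ⟶ Y}
    (hc : IsPullback h f' f g) {K : Type u} [Field K] (ω : Spec (.of K) ⟶ Y') (U : X.Opens) :
    Set.BijOn (· ≫ h) (L f' ω (h ⁻¹ᵁ U)) (L f (ω ≫ g) U) := by
  refine ⟨?_, ?_, ?_⟩
  · rintro s ⟨hs, hs'⟩
    refine ⟨?_, ?_⟩
    · rw [Category.assoc, hc.w, reassoc_of% hs]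
    · rw [Scheme.Hom.comp_apply]; exact hs'
  · rintro s ⟨hs, hs'⟩ t ⟨ht, ht'⟩ hst
    exact hc.hom_ext hst (by rw [hs, ht])
  · rintro s ⟨hs, hs'⟩
    refine ⟨hc.lift s ω hs, ⟨hc.lift_snd _ _ _, ?_⟩, hc.lift_fst _ _ _⟩
    change h (hc.lift s ω hs (pt K)) ∈ U
    rw [← Scheme.Hom.comp_apply, hc.lift_fst]
    exact hs'

/-- The open `U` has exactly one geometric point over every geometric point supported at `y`. -/
def Uniq (f : X ⟶ Y) (y : Y) (U : X.Opens) : Prop :=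
  ∀ (K : Type u) [Field K] [IsAlgClosed K] (ω : Spec (.of K) ⟶ Y), ω (pt K) = y →
    ∃! s, s ∈ L f ω U

lemma Uniq.baseChange {X' Y' : Scheme.{u}} {f : X ⟶ Y} {f' : X' ⟶ Y'} {h : X' ⟶ X} {g : Y' ⟶ Y}
    (hc : IsPullback h f' f g) {y' : Y'} {U : X.Opens} (hU : Uniq f (g y') U) :
    Uniq f' y' (h ⁻¹ᵁ U) := by
  intro K _ _ ω hω
  obtain ⟨s, hs, hs'⟩ := hU K (ω ≫ g) (by rw [Scheme.Hom.comp_apply, hω])
  obtain ⟨t, ht, hts⟩ := (L_baseChange hc ω U).surjOn hs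
  refine ⟨t, ht, fun t' ht' => ?_⟩
  exact (L_baseChange hc ω U).injOn ht' ht ((hs' _ ((L_baseChange hc ω U).mapsTo ht')).trans hts.symm)

/-- Two points of `U` over `y` coincide. -/
lemma Uniq.eq {f : X ⟶ Y} [LocallyQuasiFinite f] {y : Y} {U : X.Opens} (hU : Uniq f y U)
    {x x' : X} (hx : x ∈ U) (hx' : x' ∈ U) (hxy : f x = y) (hxy' : f x' = y) : x = x' := by
  obtain ⟨K, _, _, ω, hω⟩ := exists_geometric_point Y y
  obtain ⟨s, hs, hsx⟩ := exists_lift f ω x (hxy.trans hω.symm)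
  obtain ⟨s', hs', hsx'⟩ := exists_lift f ω x' (hxy'.trans hω.symm)
  have := (hU K ω hω).unique (y₁ := s) (y₂ := s') ⟨hs, hsx ▸ hx⟩ ⟨hs', hsx' ▸ hx'⟩
  rw [← hsx, ← hsx', this]

lemma Uniq.exists {f : X ⟶ Y} {y : Y} {U : X.Opens} (hU : Uniq f y U) : ∃ x ∈ U, f x = y := by
  obtain ⟨K, _, _, ω, hω⟩ := exists_geometric_point Y y
  obtain ⟨s, hs, -⟩ := hU K ω hω
  refine ⟨s (pt K), hs.2, ?_⟩
  rw [← Scheme.Hom.comp_apply, hs.1, hω]

/-- The fibre integral at a point with a unique geometric point. -/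
lemma Uniq.fibreIntegral {f : X ⟶ Y} {y : Y} {U : X.Opens} [LocallyQuasiFinite (U.ι ≫ f)]
    (hU : Uniq f y U) (w : X → ℤ) {x : X} (hx : x ∈ U) (hxy : f x = y) [LocallyQuasiFinite f] :
    MoreMor.fibreIntegral (U.ι ≫ f) (w ∘ U.ι) y = w x := by
  obtain ⟨K, _, _, ω, hω⟩ := exists_geometric_point Y y
  subst hω
  rw [fibreIntegral_ι]
  obtain ⟨s, hs, hs'⟩ := hU K ω rfl
  have : L f ω U = {s} := by
    ext t
    exact ⟨fun ht => hs' t ht, fun ht => by rw [Set.mem_singleton_iff] at ht; rw [ht]; exact hs⟩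
  rw [this, finsum_mem_singleton]
  congr 1
  refine hU.eq hs.2 hx ?_ hxy
  rw [← Scheme.Hom.comp_apply, hs.1]

end Groth.Agent.Flat2F.GeomPts
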