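import Mathlib.RingTheory.IntegralClosure.GoingDown
import Mathlib.RingTheory.Polynomial.IsIntegral
import Mathlib.RingTheory.Algebraic.Integral
import Mathlib.RingTheory.Ideal.GoingUp
import Mathlib.RingTheory.LocalRing.ResidueField.Basic
import Mathlib.RingTheory.Localization.FractionRing

set_option autoImplicit false

namespace Groth.Agent.Flat2F.GoingDownAux

open IsLocalRing Polynomial

universe u

/-- Let `A ⊆ A[g] ⊆ B` with `g` transcendental over `A`, `B` a local domain, `g ∈ 𝔪_B`, and
suppose every element of `B` is a quotient `u / v` of elements integral over `A[g]` with `v` a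
unit of `B`.  Then `g` divides no nonzero element of `A` in `B`. -/
theorem eq_zero_of_dvd (A B : Type u) [CommRing A] [IsDomain A] [CommRing B] [IsDomain B]
    [IsLocalRing B] [Algebra A B] [Algebra A[X] B] [IsScalarTower A A[X] B] [FaithfulSMul A[X] B]
    (hg : algebraMap A[X] B X ∈ maximalIdeal B)
    (hD : ∀ b : B, ∃ v : B, IsUnit v ∧ IsIntegral A[X] v ∧ IsIntegral A[X] (v * b))
    (a : A) (h : algebraMap A[X] B X ∣ algebraMap A[X] B (C a)) : a = 0 := by
  let L := FractionRing B
  have hAXL : Function.Injective (algebraMap A[X] L) := by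
    rw [IsScalarTower.algebraMap_eq A[X] B L]
    exact (IsFractionRing.injective B L).comp (FaithfulSMul.algebraMap_injective A[X] B)
  have hAL : Function.Injective (algebraMap A L) := by
    rw [IsScalarTower.algebraMap_eq A A[X] L]
    exact hAXL.comp C_injective
  let A' := integralClosure A L
  let D' := integralClosure A[X] L
  let B' := integralClosure A[X] B
  have : IsIntegrallyClosed A' := .of_isIntegrallyClosed_of_isIntegrallyClosedIn _ L
  let gD : D' := algebraMap A[X] D' X
  let j : A' →+* D' :=
    { toFun := fun x => ⟨x.1, x.2.tower_top⟩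
      map_one' := rfl
      map_mul' := fun _ _ => rfl
      map_zero' := rfl
      map_add' := fun _ _ => rfl }
  let φ : A'[X] →+* D' := Polynomial.eval₂RingHom j gD
  let _ : Algebra A'[X] D' := φ.toAlgebra
  -- `g` is transcendental over `A'`
  have htr : Transcendental A (algebraMap A[X] L X) := by
    rw [transcendental_iff]
    intro p hp
    have h1 : algebraMap A[X] L p = 0 := by
      rw [← hp]
      conv_lhs => rw [← Polynomial.aeval_X_left_apply p]
      rw [← Polynomial.aeval_algebraMap_apply]
    exact hAXL (by rw [h1, map_zero])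
  have htr' : Transcendental A' (algebraMap A[X] L X) := htr.extendScalars A'
  have hφval : ∀ p : A'[X], (φ p : L) = aeval (algebraMap A[X] L X) p := by
    intro p
    have : (D'.val.toRingHom.comp φ) = (aeval (R := A') (algebraMap A[X] L X)).toRingHom := by
      apply Polynomial.ringHom_ext
      · intro x
        simp [φ, j]
      · simp [φ, gD]
    exact congrArg (fun f => f p) this
  have hφinj : Function.Injective φ := by
    rw [injective_iff_map_eq_zero]
    intro p hp
    have h1 := hφval p
    rw [hp] at h1
    exact transcendental_iff.mp htr' p h1.symm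
  have : FaithfulSMul A'[X] D' := (faithfulSMul_iff_algebraMap_injective _ _).mpr hφinj
  have hcomp : φ.comp (Polynomial.mapRingHom (algebraMap A A')) = algebraMap A[X] D' := by
    apply Polynomial.ringHom_ext
    · intro x
      apply Subtype.ext
      rw [RingHom.comp_apply, hφval]
      simp only [coe_mapRingHom, map_C, aeval_C]
      show algebraMap A L x = algebraMap A[X] L (C x)
      rw [← Polynomial.algebraMap_eq, ← IsScalarTower.algebraMap_apply]
    · apply Subtype.ext
      rw [RingHom.comp_apply, hφval]
      simp only [coe_mapRingHom, map_X, aeval_X]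
      rfl
  have hintX : ∀ x : D', IsIntegral A[X] x := fun x =>
    (isIntegral_algebraMap_iff (A := D') (B := L) Subtype.val_injective).mp x.2
  have hint : Algebra.IsIntegral A'[X] D' := by
    constructor
    intro x
    have hx : (algebraMap A[X] D').IsIntegralElem x := hintX x
    rw [← hcomp] at hx
    exact RingHom.IsIntegralElem.of_comp hx
  have hgd : Algebra.HasGoingDown A'[X] D' := inferInstance
  -- compare with `B'`
  let jB : B' →+* D' :=
    { toFun := fun x => ⟨algebraMap B L x.1, x.2.algebraMap⟩
      map_one' := Subtype.ext (map_one _)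
      map_mul' := fun _ _ => Subtype.ext (map_mul _ _ _)
      map_zero' := Subtype.ext (map_zero _)
      map_add' := fun _ _ => Subtype.ext (map_add _ _ _) }
  let _ : Algebra B' D' := jB.toAlgebra
  have hjBinj : Function.Injective jB := by
    intro x y hxy
    exact Subtype.ext (IsFractionRing.injective B L (congrArg Subtype.val hxy))
  have : IsScalarTower A[X] B' D' := IsScalarTower.of_algebraMap_eq fun x => Subtype.ext (by
    show algebraMap A[X] L x = algebraMap B L (algebraMap A[X] B x)
    rw [← IsScalarTower.algebraMap_apply])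
  have : Algebra.IsIntegral B' D' := ⟨fun x => (hintX x).tower_top⟩
  let q' : Ideal B' := (maximalIdeal B).comap (algebraMap B' B)
  obtain ⟨Q, hQ, hQc⟩ := Ideal.exists_ideal_over_prime_of_isIntegral_of_isDomain (S := D') q' (by
    have : RingHom.ker (algebraMap B' D') = ⊥ := (RingHom.injective_iff_ker_eq_bot _).mp hjBinj
    rw [this]; exact bot_le)
  have hmem : ∀ x : B', jB x ∈ Q ↔ x.1 ∈ maximalIdeal B := by
    intro x
    have : jB x ∈ Q ↔ x ∈ q' := by rw [← hQc]; rfl
    rw [this]
    rfl
  let gB : B' := algebraMap A[X] B' X
  have hgB : jB gB = φ X := by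
    apply Subtype.ext
    rw [hφval, aeval_X]
    show algebraMap B L (algebraMap A[X] B X) = _
    rw [← IsScalarTower.algebraMap_apply]
  have hXQ : Ideal.span {(X : A'[X])} ≤ Q.under A'[X] := by
    rw [Ideal.span_singleton_le_iff_mem]
    show φ X ∈ Q
    rw [← hgB, hmem]
    exact hg
  have hXprime : (Ideal.span {(X : A'[X])}).IsPrime :=
    (Ideal.span_singleton_prime X_ne_zero).mpr prime_X
  have hPprime : (Q.under A'[X]).IsPrime := inferInstance
  obtain ⟨r, hrQ, hr, hrX⟩ := Ideal.exists_ideal_le_liesOver_of_le (R := A'[X]) (S := D')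
    (p := Ideal.span {(X : A'[X])}) (q := Q.under A'[X]) Q hXQ
  obtain ⟨b', hb'⟩ := h
  obtain ⟨v, hv, hv1, hv2⟩ := hD b'
  let vB : B' := ⟨v, hv1⟩
  let uB : B' := ⟨v * b', hv2⟩
  let aB : B' := algebraMap A[X] B' (C a)
  have hrel : vB * aB = gB * uB := by
    apply Subtype.ext
    show v * algebraMap A[X] B (C a) = algebraMap A[X] B X * (v * b')
    rw [hb']
    ring
  have hgr : jB gB ∈ r := by
    rw [hgB]
    have : (X : A'[X]) ∈ r.under A'[X] := by
      rw [← hrX.over]
      exact Ideal.mem_span_singleton_self _
    exact this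
  have hvr : jB vB ∉ r := by
    intro hvr
    have := (hmem vB).mp (hrQ hvr)
    exact (mem_maximalIdeal _).mp this hv
  have har : jB aB ∈ r := by
    have h1 : jB vB * jB aB ∈ r := by
      rw [← map_mul, hrel, map_mul]
      exact r.mul_mem_right _ hgr
    exact (hr.mem_or_mem h1).resolve_left hvr
  have haB : jB aB = φ (C (algebraMap A A' a)) := by
    apply Subtype.ext
    rw [hφval, aeval_C]
    show algebraMap B L (algebraMap A[X] B (C a)) = algebraMap A L a
    rw [← Polynomial.algebraMap_eq, ← IsScalarTower.algebraMap_apply,
      ← IsScalarTower.algebraMap_apply]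
  rw [haB] at har
  have h2 : C (algebraMap A A' a) ∈ r.under A'[X] := har
  rw [← hrX.over, Ideal.mem_span_singleton, X_dvd_iff, coeff_C_zero] at h2
  exact hAL (by rw [map_zero]; exact congrArg Subtype.val h2)

end Groth.Agent.Flat2F.GoingDownAux
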