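import Groth.Agent.Flat2F.DualBC
import Groth.Agent.LoccohB.RAdj
import Groth.Agent.LoccohB.LBC2
import Groth.Agent.LoccohB.Devissage

/-!
# Vanishing of `Hom_{D(C)}(X, L[i])` for modules over a quotient `F` of `C`
when `RHom_C(F, L)` has free cohomology.
-/

set_option autoImplicit false
universe u

open CategoryTheory CategoryTheory.Limits Opposite Pretriangulated
open scoped TensorProduct ChangeOfRings

attribute [local instance] HasDerivedCategory.standard

namespace Groth.Agent.Flat2F.GorFibA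

open DerivedCategory Groth.Agent.LoccohB.DBase Groth.Agent.LoccohB.FlatLBC
  Groth.Agent.LoccohB.HomBC

section Devissage

variable {F : Type u} [CommRing F]

lemma subsingleton_middle (T : Triangle (Dual.D F)) (hT : T ∈ distTriang (Dual.D F))
    (X : Dual.D F) (i : ℤ) (h1 : Subsingleton (X ⟶ T.obj₁⟦i⟧))
    (h3 : Subsingleton (X ⟶ T.obj₃⟦i⟧)) : Subsingleton (X ⟶ T.obj₂⟦i⟧) := by
  have key : ∀ f : X ⟶ T.obj₂⟦i⟧, f = 0 := by
    intro f
    let T' := (Triangle.shiftFunctor (Dual.D F) i).obj T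
    have hT' : T' ∈ distTriang (Dual.D F) := Triangle.shift_distinguished T hT i
    have h0 : f ≫ T'.mor₂ = 0 := @Subsingleton.elim _ h3 _ _
    obtain ⟨g, hg⟩ := T'.coyoneda_exact₂ hT' f h0
    have : g = 0 := @Subsingleton.elim _ h1 _ _
    rw [hg, this]
    exact Limits.zero_comp
  exact ⟨fun f g => by rw [key f, key g]⟩

lemma subsingleton_congr_right {X K K' : Dual.D F} (e : K ≅ K') (i : ℤ)
    (h : Subsingleton (X ⟶ K⟦i⟧)) : Subsingleton (X ⟶ K'⟦i⟧) :=
  (Linear.homCongr F (Iso.refl X) ((shiftFunctor _ i).mapIso e)).symm.toEquiv.subsingleton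

lemma subsingleton_congr_left {X X' K : Dual.D F} (e : X ≅ X')
    (h : Subsingleton (X ⟶ K)) : Subsingleton (X' ⟶ K) :=
  (Linear.homCongr F e (Iso.refl K)).symm.toEquiv.subsingleton

/-- free modules of finite rank -/
lemma subsingleton_free (X : Dual.D F) (i : ℤ) (r : ℕ)
    (h : Subsingleton (X ⟶ (Dual.inD F F)⟦i⟧)) :
    Subsingleton (X ⟶ (Dual.inD F (Fin r → F))⟦i⟧) := by
  have key : ∀ f : X ⟶ (Dual.inD F (Fin r → F))⟦i⟧, f = 0 := by
    intro f
    have h1 : 𝟙 ((Dual.inD F (Fin r → F))⟦i⟧) = ∑ j : Fin r,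
      ((singleFunctor (ModuleCat.{u} F) 0 ⋙ shiftFunctor (Dual.D F) i).map
        (ModuleCat.ofHom (LinearMap.proj j) : ModuleCat.of F (Fin r → F) ⟶ ModuleCat.of F F)) ≫
      ((singleFunctor (ModuleCat.{u} F) 0 ⋙ shiftFunctor (Dual.D F) i).map
        (ModuleCat.ofHom (LinearMap.single F (fun _ : Fin r => F) j))) := by
      simp only [← Functor.map_comp]
      rw [← Functor.map_sum, sum_single_proj, CategoryTheory.Functor.map_id]
      rfl
    rw [← Category.comp_id f, h1, Preadditive.comp_sum]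
    refine Finset.sum_eq_zero fun j _ => ?_
    rw [← Category.assoc]
    have : f ≫ ((singleFunctor (ModuleCat.{u} F) 0 ⋙ shiftFunctor (Dual.D F) i).map
        (ModuleCat.ofHom (LinearMap.proj j) : ModuleCat.of F (Fin r → F) ⟶ ModuleCat.of F F)) = 0 :=
      @Subsingleton.elim _ h _ _
    rw [this, Limits.zero_comp]
  exact ⟨fun f g => by rw [key f, key g]⟩

/-- If all cohomology modules of the bounded complex `L` are free of finite rank, sitting in
degrees `≤ b`, and `Ext^i(X, F) = 0` for `i > N` then `Hom(X, L[i]) = 0` for `i > b + N`. -/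
theorem subsingleton_of_free_cohomology (X : Dual.D F) (L : Dual.D F) (a b : ℤ) [L.IsGE a] [L.IsLE b]
    (hL : ∀ j, ∃ r : ℕ, Nonempty (Dual.HD F L j ≃ₗ[F] (Fin r → F))) (N : ℤ)
    (hX : ∀ i : ℤ, N < i → Subsingleton (X ⟶ (Dual.inD F F)⟦i⟧)) (i : ℤ) (hi : b + N < i) :
    Subsingleton (X ⟶ L⟦i⟧) := by
  let P : ObjectProperty (Dual.D F) := fun K => Subsingleton (X ⟶ K⟦i⟧)
  have hiso : P.IsClosedUnderIsomorphisms := ⟨fun e h => subsingleton_congr_right e i h⟩
  refine Groth.Agent.LoccohB.Devissage.devissage P ?_ ?_ L a b ?_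
  · intro Z hZ
    have : IsZero (Z⟦i⟧) := (shiftFunctor (Dual.D F) i).map_isZero hZ
    exact ⟨fun f g => this.eq_of_tgt f g⟩
  · intro T hT h1 h3
    exact subsingleton_middle T hT X i h1 h3
  · intro j
    by_cases hj : b < j
    · have hz : IsZero ((singleFunctor (ModuleCat.{u} F) j).obj
          ((homologyFunctor (ModuleCat.{u} F) j).obj L)) :=
        (singleFunctor (ModuleCat.{u} F) j).map_isZero (L.isZero_of_isLE b j hj)
      have : IsZero (((singleFunctor (ModuleCat.{u} F) j).obj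
          ((homologyFunctor (ModuleCat.{u} F) j).obj L))⟦i⟧) :=
        (shiftFunctor (Dual.D F) i).map_isZero hz
      exact ⟨fun f g => this.eq_of_tgt f g⟩
    · obtain ⟨r, ⟨e⟩⟩ := hL j
      have e1 : (singleFunctor (ModuleCat.{u} F) j).obj
          ((homologyFunctor (ModuleCat.{u} F) j).obj L) ≅
          (singleFunctor (ModuleCat.{u} F) j).obj (ModuleCat.of F (Fin r → F)) :=
        (singleFunctor (ModuleCat.{u} F) j).mapIso e.toModuleIso
      have e2 : (Dual.inD F (Fin r → F))⟦(-j : ℤ)⟧ ≅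
          (singleFunctor (ModuleCat.{u} F) j).obj (ModuleCat.of F (Fin r → F)) :=
        ((singleFunctors (ModuleCat.{u} F)).shiftIso (-j) j 0 (by simp)).app _
      refine subsingleton_congr_right (e2 ≪≫ e1.symm) i ?_
      have e3 : ((Dual.inD F (Fin r → F))⟦(-j : ℤ)⟧)⟦i⟧ ≅ (Dual.inD F (Fin r → F))⟦(-j + i : ℤ)⟧ :=
        ((shiftFunctorAdd (Dual.D F) (-j) i).app _).symm
      have h1 := subsingleton_free X (-j + i) r (hX (-j + i) (by lia))
      exact (Linear.homCongr F (Iso.refl X) e3).toEquiv.subsingleton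

end Devissage

section Adj

variable {C F : Type u} [CommRing C] [CommRing F] [Algebra C F]

/-- The `F`-module `X` seen as a `C`-module. -/
noncomputable def resLin (X : Type u) [AddCommGroup X] [Module F X] [Module C X]
    [IsScalarTower C F X] :
    ((ModuleCat.restrictScalars.{u} (algebraMap C F)).obj (ModuleCat.of F X)) ≃ₗ[C] X where
  toFun x := (show X from x)
  invFun x := (show X from x)
  left_inv _ := rfl
  right_inv _ := rfl
  map_add' _ _ := rfl
  map_smul' c x := by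
    change (algebraMap C F c) • (show X from x) = c • (show X from x)
    rw [algebraMap_smul]

/-- The `F`-module `X` seen as a `C`-module. -/
noncomputable def resIso (X : Type u) [AddCommGroup X] [Module F X] [Module C X]
    [IsScalarTower C F X] :
    (ModuleCat.restrictScalars.{u} (algebraMap C F)).obj (ModuleCat.of F X) ≅ ModuleCat.of C X :=
  (resLin X).toModuleIso

/-- Restriction of scalars on `D(-)` for a module in degree zero. -/
noncomputable def resD (X : Type u) [AddCommGroup X] [Module F X] [Module C X] [IsScalarTower C F X] :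
    (DRing.restrictD (algebraMap C F)).obj (Dual.inD F X) ≅ Dual.inD C X :=
  ((ModuleCat.restrictScalars.{u} (algebraMap C F)).mapDerivedCategorySingleFunctor 0).app
    (ModuleCat.of F X) ≪≫ (singleFunctor (ModuleCat.{u} C) 0).mapIso (resIso X)

/-- The value of `RHom_C(F, L)`. -/
noncomputable abbrev RC (F : Type u) [CommRing F] [Algebra C F] (L : Dual.D C) : Dual.D F :=
  (Groth.Agent.LoccohB.RAdj.RCoext (algebraMap C F)).obj L

/-- `Hom_{D(C)}(X, L[i]) = Hom_{D(F)}(X, RHom_C(F, L)[i])`. -/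
noncomputable def adjEquiv (X : Type u) [AddCommGroup X] [Module F X] [Module C X]
    [IsScalarTower C F X] (L : Dual.D C) (i : ℤ) :
    (Dual.inD C X ⟶ L⟦i⟧) ≃ (Dual.inD F X ⟶ (RC F L)⟦i⟧) :=
  ((resD (C := C) (F := F) X).homFromEquiv.symm.trans
    ((Groth.Agent.LoccohB.RAdj.coextAdj (algebraMap C F)).homEquiv (Dual.inD F X) (L⟦i⟧))).trans
    (Iso.homToEquiv (Groth.Agent.LoccohB.RAdj.shiftIso
      (Groth.Agent.LoccohB.RAdj.coextAdj (algebraMap C F)) L i))

lemma adjEquiv_apply (X : Type u) [AddCommGroup X] [Module F X] [Module C X]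
    [IsScalarTower C F X] (L : Dual.D C) (i : ℤ) (f : Dual.inD C X ⟶ L⟦i⟧) :
    adjEquiv X L i f = ((Groth.Agent.LoccohB.RAdj.coextAdj (algebraMap C F)).homEquiv _ _
      ((resD (C := C) (F := F) X).hom ≫ f)) ≫ (Groth.Agent.LoccohB.RAdj.shiftIso
      (Groth.Agent.LoccohB.RAdj.coextAdj (algebraMap C F)) L i).hom := rfl

lemma adjEquiv_smul (X : Type u) [AddCommGroup X] [Module F X] [Module C X]
    [IsScalarTower C F X] (L : Dual.D C) (i : ℤ) (c : C) (f : Dual.inD C X ⟶ L⟦i⟧) :
    adjEquiv (F := F) X L i (c • f) = (algebraMap C F c) • adjEquiv X L i f := by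
  rw [adjEquiv_apply, adjEquiv_apply, Linear.comp_smul,
    Groth.Agent.LoccohB.LBC.radj_homEquiv_smul, Linear.smul_comp]

lemma adjEquiv_add (X : Type u) [AddCommGroup X] [Module F X] [Module C X]
    [IsScalarTower C F X] (L : Dual.D C) (i : ℤ) (f g : Dual.inD C X ⟶ L⟦i⟧) :
    adjEquiv (F := F) X L i (f + g) = adjEquiv X L i f + adjEquiv X L i g := by
  have := (Groth.Agent.LoccohB.RAdj.coextAdj (algebraMap C F)).right_adjoint_additive
  rw [adjEquiv_apply, adjEquiv_apply, adjEquiv_apply, Preadditive.comp_add]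
  rw [Adjunction.homEquiv_unit, Adjunction.homEquiv_unit, Adjunction.homEquiv_unit,
    Functor.map_add, Preadditive.comp_add, Preadditive.add_comp]

/-- `H^j(RHom_C(F, L)) = Hom_{D(C)}(F, L[j])`, linearly when `C → F` is surjective. -/
lemma nonempty_HD_RC (hs : Function.Surjective (algebraMap C F)) (L : Dual.D C) (j : ℤ)
    (M : Type u) [AddCommGroup M] [Module F M] [Module C M] [IsScalarTower C F M]
    (e : (Dual.inD C F ⟶ L⟦j⟧) ≃ₗ[C] M) :
    Nonempty (Dual.HD F (RC F L) j ≃ₗ[F] M) := by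
  let e1 := homShiftEquivHD j (RC F L)
  let e2 : (Dual.inD F F ⟶ (RC F L)⟦j⟧) ≃ M := (adjEquiv F L j).symm.trans e.toEquiv
  have hadd : ∀ x y, e2.symm (x + y) = e2.symm x + e2.symm y := by
    intro x y
    change adjEquiv F L j (e.symm (x + y)) = _
    rw [map_add, adjEquiv_add]
    rfl
  have hsmul : ∀ (a : F) (x : M), e2.symm (a • x) = a • e2.symm x := by
    intro a x
    obtain ⟨c, rfl⟩ := hs a
    rw [algebraMap_smul]
    change adjEquiv F L j (e.symm (c • x)) = _
    rw [map_smul, adjEquiv_smul]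
    rfl
  let e3 : M ≃ₗ[F] (Dual.inD F F ⟶ (RC F L)⟦j⟧) :=
    { e2.symm with
      map_add' := hadd
      map_smul' := hsmul }
  exact ⟨e1.symm ≪≫ₗ e3.symm⟩

/-- Main vanishing statement. -/
theorem subsingleton_of_free (hs : Function.Surjective (algebraMap C F)) (L : Dual.D C) (a b : ℤ)
    (hL : ∀ j : ℤ, ∃ r : ℕ, Nonempty ((Dual.inD C F ⟶ L⟦j⟧) ≃ₗ[C] (Fin r → F)))
    (hL' : ∀ j : ℤ, (j < a ∨ b < j) → Subsingleton (Dual.inD C F ⟶ L⟦j⟧))
    (X : Type u) [AddCommGroup X] [Module F X] [Module C X] [IsScalarTower C F X] (N : ℤ)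
    (hX : ∀ i : ℤ, N < i → Subsingleton (Dual.inD F X ⟶ (Dual.inD F F)⟦i⟧)) (i : ℤ)
    (hi : b + N < i) : Subsingleton (Dual.inD C X ⟶ L⟦i⟧) := by
  have h1 : ∀ j : ℤ, (j < a ∨ b < j) → Subsingleton (Dual.inD F F ⟶ (RC F L)⟦j⟧) := by
    intro j hj
    have := hL' j hj
    exact (adjEquiv (F := F) F L j).symm.subsingleton
  have h2 : (RC F L).IsGE a := isGE_of_subsingleton _ _ fun j hj => h1 j (Or.inl hj)
  have h3 : (RC F L).IsLE b := isLE_of_subsingleton _ _ fun j hj => h1 j (Or.inr hj)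
  have h4 : Subsingleton (Dual.inD F X ⟶ (RC F L)⟦i⟧) := by
    refine subsingleton_of_free_cohomology (Dual.inD F X) (RC F L) a b ?_ N hX i hi
    intro j
    obtain ⟨r, ⟨e⟩⟩ := hL j
    exact ⟨r, nonempty_HD_RC hs L j (Fin r → F) e⟩
  exact (adjEquiv (F := F) X L i).subsingleton

end Adj

end Groth.Agent.Flat2F.GorFibA
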