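import Groth.Agent.Flat2F.GorFibA
import Groth.Agent.Localalg.GorExt
import Groth.Agent.Localalg.DGor
import Groth.Agent.Ega4B.FibLoc
import Groth.Agent.LoccohB.FlatDual
import Groth.Agent.LoccohB.GorBasic
import Mathlib.RingTheory.KrullDimension.Polynomial

/-!
# Dualizing complexes and flat maps with Gorenstein fibres
-/

set_option autoImplicit false
universe u v

open CategoryTheory CategoryTheory.Limits Opposite Pretriangulated
open scoped TensorProduct ChangeOfRings

attribute [local instance] HasDerivedCategory.standard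

namespace Groth.Agent.Flat2F.GorFibB

open DerivedCategory Groth.Agent.LoccohB.DBase Groth.Agent.LoccohB.FlatLBC
  Groth.Agent.LoccohB.HomBC Groth.Agent.Flat2F.GorFibA

section Module

/-- A finite module killed by a prime becomes free over `C/pC` after base change to an algebra `C`
over the localization at `p`. -/
theorem exists_free {A : Type u} [CommRing A] (p : Ideal A) [p.IsPrime] (C : Type u) [CommRing C]
    [Algebra A C] [Algebra (Localization.AtPrime p) C] [IsScalarTower A (Localization.AtPrime p) C]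
    (V : Type v) [AddCommGroup V] [Module A V] [Module.Finite A V]
    (hV : ∀ a ∈ p, ∀ v : V, a • v = 0) :
    ∃ r : ℕ, Nonempty (C ⊗[A] V ≃ₗ[C] (Fin r → C ⧸ p.map (algebraMap A C))) := by
  set Ap := Localization.AtPrime p with hAp
  set m := IsLocalRing.maximalIdeal Ap with hm
  let W := Ap ⊗[A] V
  have hmp : m = p.map (algebraMap A Ap) := (Localization.AtPrime.map_eq_maximalIdeal (I := p)).symm
  have htor : Module.IsTorsionBySet Ap W (m : Set Ap) := by
    rintro w ⟨x, hx⟩
    change x • w = 0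
    rw [hmp] at hx
    refine Submodule.span_induction (p := fun x _ => x • w = 0) ?_ ?_ ?_ ?_ hx
    · rintro _ ⟨a, ha, rfl⟩
      rw [algebraMap_smul]
      induction w using TensorProduct.induction_on with
      | zero => rw [smul_zero]
      | tmul t v => rw [← TensorProduct.tmul_smul, hV a ha v, TensorProduct.tmul_zero]
      | add x y hx hy => rw [smul_add, hx, hy, add_zero]
    · rw [zero_smul]
    · intro x y _ _ hx hy
      rw [add_smul, hx, hy, add_zero]
    · intro a x _ hx
      rw [smul_eq_mul, mul_smul, hx, smul_zero]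
  let _ : Field (Ap ⧸ m) := Ideal.Quotient.field m
  let _ : Module (Ap ⧸ m) W := htor.module
  have : IsScalarTower Ap (Ap ⧸ m) W := Module.IsTorsionBySet.isScalarTower htor
  have : Module.Finite (Ap ⧸ m) W := Module.Finite.of_restrictScalars_finite Ap _ _
  let bs := Module.finBasis (Ap ⧸ m) W
  let r := Module.finrank (Ap ⧸ m) W
  let e0 : W ≃ₗ[Ap] (Fin r → (Ap ⧸ m)) := bs.equivFun.restrictScalars Ap
  let e1 : C ⊗[A] V ≃ₗ[C] C ⊗[Ap] W :=
    (TensorProduct.AlgebraTensorModule.cancelBaseChange A Ap C C V).symm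
  let e2 : C ⊗[Ap] W ≃ₗ[C] C ⊗[Ap] (Fin r → (Ap ⧸ m)) :=
    TensorProduct.AlgebraTensorModule.congr (LinearEquiv.refl C C) e0
  let e3 : C ⊗[Ap] (Fin r → (Ap ⧸ m)) ≃ₗ[C] (Fin r → C ⊗[Ap] (Ap ⧸ m)) :=
    TensorProduct.piRight Ap C C _
  let e4 : C ⊗[Ap] (Ap ⧸ m) ≃ₗ[C] (C ⧸ m.map (algebraMap Ap C)) :=
    (Algebra.TensorProduct.quotIdealMapEquivTensorQuot C m).symm.toLinearEquiv
  have h5 : m.map (algebraMap Ap C) = p.map (algebraMap A C) := by
    rw [hmp, Ideal.map_map, ← IsScalarTower.algebraMap_eq]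
  let e5 : (C ⧸ m.map (algebraMap Ap C)) ≃ₗ[C] (C ⧸ p.map (algebraMap A C)) :=
    Submodule.quotEquivOfEq _ _ h5
  exact ⟨r, ⟨e1 ≪≫ₗ e2 ≪≫ₗ e3 ≪≫ₗ LinearEquiv.piCongrRight fun _ => e4 ≪≫ₗ e5⟩⟩

/-- A module killed by a maximal ideal `n` vanishes if its localization at `n` vanishes. -/
theorem subsingleton_of_localization {B : Type u} [CommRing B] (n : Ideal B) [n.IsMaximal]
    (H : Type*) [AddCommGroup H] [Module B H] (hn : ∀ b ∈ n, ∀ x : H, b • x = 0)
    (h : Subsingleton (Localization.AtPrime n ⊗[B] H)) : Subsingleton H := by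
  have key : ∀ x : H, x = 0 := by
    intro x
    have h1 : TensorProduct.mk B (Localization.AtPrime n) H 1 x = 0 := Subsingleton.elim _ _
    rw [IsLocalizedModule.eq_zero_iff n.primeCompl] at h1
    obtain ⟨⟨s, hs⟩, hsx⟩ := h1
    obtain ⟨y, z, hz, hyz⟩ := Ideal.IsMaximal.exists_inv (I := n) inferInstance hs
    have : (1 : B) • x = 0 := by
      rw [← hyz, add_smul, hn z hz, add_zero, mul_smul]
      change y • (s • x) = 0
      have : s • x = 0 := hsx
      rw [this, smul_zero]
    rwa [one_smul] at this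
  exact ⟨fun x y => by rw [key x, key y]⟩

end Module

section Comp

variable {A B C : Type u} [CommRing A] [CommRing B] [CommRing C] [Algebra A B] [Algebra B C]
  [Algebra A C] [IsScalarTower A B C]

/-- Flat base changes compose. -/
noncomputable def flatBCComp (h : (algebraMap A B).Flat) (h' : (algebraMap B C).Flat)
    (h'' : (algebraMap A C).Flat) :
    flatBC (algebraMap A B) h ⋙ flatBC (algebraMap B C) h' ≅ flatBC (algebraMap A C) h'' :=
  haveI := Groth.Agent.LoccohB.LBC.hasLBaseChange (algebraMap A B)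
  haveI := Groth.Agent.LoccohB.LBC.hasLBaseChange (algebraMap B C)
  haveI := Groth.Agent.LoccohB.LBC.hasLBaseChange (algebraMap A C)
  Functor.isoWhiskerRight (LBaseChangeIso (algebraMap A B) h).symm _ ≪≫
    Functor.isoWhiskerLeft _ (LBaseChangeIso (algebraMap B C) h').symm ≪≫
    Groth.Agent.LoccohB.LBC.lbcComp (algebraMap A B) (algebraMap B C) (algebraMap A C)
      (IsScalarTower.algebraMap_eq A B C) ≪≫ LBaseChangeIso (algebraMap A C) h''

end Comp

section Main

/-- The local computation. -/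
theorem subsingleton_residueField_fibre {A C : Type u} [CommRing A] [CommRing C] [Algebra A C]
    (h : (algebraMap A C).Flat) [IsNoetherianRing A] [IsNoetherianRing C] (p : Ideal A) [p.IsPrime]
    [Algebra (Localization.AtPrime p) C] [IsScalarTower A (Localization.AtPrime p) C]
    (K : Dual.D A) (a b : ℤ) [K.IsGE a] (hfin : ∀ i, Module.Finite A (Dual.HD A K i))
    (hb : ∀ i : ℤ, b < i → Subsingleton (Dual.inD A (A ⧸ p) ⟶ K⟦i⟧))
    [hG : LocCoh.IsGorensteinLocalRing (C ⧸ p.map (algebraMap A C))] (N : ℕ)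
    (hN : ringKrullDim (C ⧸ p.map (algebraMap A C)) ≤ N) (i : ℤ) (hi : b + N < i) :
    Subsingleton (Dual.inD C (IsLocalRing.ResidueField (C ⧸ p.map (algebraMap A C))) ⟶
      ((flatBC (algebraMap A C) h).obj K)⟦i⟧) := by
  set F := C ⧸ p.map (algebraMap A C) with hF
  have hge := isGE_flatBC C h K a
  have e : ∀ j : ℤ, Nonempty ((C ⊗[A] (Dual.inD A (A ⧸ p) ⟶ K⟦j⟧)) ≃ₗ[C]
      (Dual.inD C F ⟶ ((flatBC (algebraMap A C) h).obj K)⟦j⟧)) := by
    intro j
    refine ⟨homBCModuleEquiv C h (ModuleCat.of A (A ⧸ p)) K a j ≪≫ₗ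
      Linear.homCongr C ((singleFunctor (ModuleCat.{u} C) 0).mapIso
        (Groth.Agent.LoccohB.FlatDual.extQuot p)) (Iso.refl _)⟩
  have hL : ∀ j : ℤ, ∃ r : ℕ, Nonempty ((Dual.inD C F ⟶
      ((flatBC (algebraMap A C) h).obj K)⟦j⟧) ≃ₗ[C] (Fin r → F)) := by
    intro j
    have hV : IsNoetherian A (Dual.inD A (A ⧸ p) ⟶ K⟦j⟧) :=
      Groth.Agent.LoccohB.FinInj.isNoetherian_hom K a hfin (A ⧸ p) j
    obtain ⟨r, ⟨e1⟩⟩ := exists_free p C (Dual.inD A (A ⧸ p) ⟶ K⟦j⟧) (by
      intro x hx v
      have h1 : x • 𝟙 (Dual.inD A (A ⧸ p)) = 0 := by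
        have h2 : x • 𝟙 (ModuleCat.of A (A ⧸ p)) = 0 := by
          apply ModuleCat.hom_ext
          apply LinearMap.ext
          intro y
          obtain ⟨y, rfl⟩ := Ideal.Quotient.mk_surjective y
          change x • (Ideal.Quotient.mk p y) = 0
          rw [← Ideal.Quotient.mk_eq_mk, ← Submodule.Quotient.mk_smul, Ideal.Quotient.mk_eq_mk,
            Ideal.Quotient.eq_zero_iff_mem, smul_eq_mul]
          exact Ideal.mul_mem_right _ _ hx
        rw [← (singleFunctor (ModuleCat.{u} A) 0).map_id, ← Functor.map_smul, h2, Functor.map_zero]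
      rw [← Category.id_comp v, ← Linear.smul_comp, h1, Limits.zero_comp])
    obtain ⟨e2⟩ := e j
    exact ⟨r, ⟨e2.symm ≪≫ₗ e1⟩⟩
  have hL' : ∀ j : ℤ, (j < a ∨ b < j) → Subsingleton (Dual.inD C F ⟶
      ((flatBC (algebraMap A C) h).obj K)⟦j⟧) := by
    rintro j (hj | hj)
    · exact Groth.Agent.LoccohB.FinInj.subsingleton_of_isGE F _ a j hj
    · obtain ⟨e2⟩ := e j
      have := hb j hj
      have : Subsingleton (C ⊗[A] (Dual.inD A (A ⧸ p) ⟶ K⟦j⟧)) := inferInstance
      exact e2.symm.toEquiv.subsingleton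
  obtain ⟨d, hd, hdN⟩ : ∃ d : ℕ, ringKrullDim F = d ∧ d ≤ N := by
    have h0 : 0 ≤ ringKrullDim F := ringKrullDim_nonneg_of_nontrivial
    obtain ⟨x, hx⟩ := WithBot.ne_bot_iff_exists.1 (ne_bot_of_le_ne_bot (by simp) h0)
    rw [← hx] at hN ⊢
    have hxN : x ≤ (N : ℕ∞) := by exact_mod_cast hN
    obtain ⟨d, rfl⟩ := ENat.ne_top_iff_exists.1 (ne_top_of_le_ne_top (ENat.natCast_ne_top N) hxN)
    exact ⟨d, rfl, by exact_mod_cast hxN⟩
  have hext := (Groth.Agent.Localalg.GorExt.ext_residueField d F hd).1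
  have hs : Function.Surjective (algebraMap C F) := Ideal.Quotient.mk_surjective
  refine subsingleton_of_free (C := C) (F := F) hs _ a b hL hL'
    (IsLocalRing.ResidueField F) N ?_ i hi
  intro j hj
  obtain ⟨k, rfl⟩ : ∃ k : ℕ, (k : ℤ) = j := ⟨j.toNat, Int.toNat_of_nonneg (by lia)⟩
  rw [Groth.Agent.Localalg.DGor.subsingleton_hom_iff]
  exact hext k (by lia)

/-- Vanishing of `Hom(B/n, (K ⊗ B)[i])` in large degrees at a maximal ideal with Gorenstein fibre
local ring. -/
theorem subsingleton_hom_residue {A B : Type u} [CommRing A] [CommRing B] [Algebra A B]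
    (h : (algebraMap A B).Flat) [IsNoetherianRing A] [IsNoetherianRing B]
    (K : Dual.D A) (a b : ℤ) [K.IsGE a] (hfin : ∀ i, Module.Finite A (Dual.HD A K i))
    (hb : ∀ (p : Ideal A) (i : ℤ), b < i → Subsingleton (Dual.inD A (A ⧸ p) ⟶ K⟦i⟧))
    (n : Ideal B) [n.IsMaximal] (hG : LocCoh.IsGorensteinLocalRing (EGA4.FibLocRing A B n)) (N : ℕ)
    (hN : ringKrullDim (EGA4.FibLocRing A B n) ≤ N) (i : ℤ) (hi : b + N < i) :
    Subsingleton (Dual.inD B (B ⧸ n) ⟶ ((flatBC (algebraMap A B) h).obj K)⟦i⟧) := by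
  set p := n.comap (algebraMap A B) with hp
  let C := Localization.AtPrime n
  let _ : Algebra (Localization.AtPrime p) C :=
    (Localization.localRingHom p n (algebraMap A B) rfl).toAlgebra
  have : IsScalarTower A (Localization.AtPrime p) C := IsScalarTower.of_algebraMap_eq fun x => by
    rw [RingHom.algebraMap_toAlgebra, Localization.localRingHom_to_map]
    rfl
  have hBC : (algebraMap B C).Flat := RingHom.flat_algebraMap_iff.2 inferInstance
  have hAC : (algebraMap A C).Flat := by
    rw [IsScalarTower.algebraMap_eq A B C]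
    exact h.comp hBC
  have hge := isGE_flatBC B h K a
  let F := C ⧸ p.map (algebraMap A C)
  have hG' : LocCoh.IsGorensteinLocalRing F := hG
  have h1 := subsingleton_residueField_fibre (C := C) hAC p K a b hfin (hb p) N hN i hi
  -- compare the modules
  have hker : RingHom.ker (algebraMap C (IsLocalRing.ResidueField F)) =
      n.map (algebraMap B C) := by
    rw [Localization.AtPrime.map_eq_maximalIdeal]
    have hs : Function.Surjective (algebraMap C (IsLocalRing.ResidueField F)) := by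
      rw [IsScalarTower.algebraMap_eq C F (IsLocalRing.ResidueField F)]
      exact IsLocalRing.residue_surjective.comp Ideal.Quotient.mk_surjective
    exact IsLocalRing.eq_maximalIdeal (RingHom.ker_isMaximal_of_surjective _ hs)
  have hs : Function.Surjective (Algebra.linearMap C (IsLocalRing.ResidueField F)) := by
    change Function.Surjective (algebraMap C (IsLocalRing.ResidueField F))
    rw [IsScalarTower.algebraMap_eq C F (IsLocalRing.ResidueField F)]
    exact IsLocalRing.residue_surjective.comp Ideal.Quotient.mk_surjective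
  let e1 : (C ⧸ n.map (algebraMap B C)) ≃ₗ[C] IsLocalRing.ResidueField F :=
    (Submodule.quotEquivOfEq _ _ (by
      ext x
      rw [← hker]
      exact Iff.rfl)) ≪≫ₗ
      (LinearMap.quotKerEquivOfSurjective (Algebra.linearMap C (IsLocalRing.ResidueField F)) hs)
  have h2 : Subsingleton (Dual.inD C (C ⧸ n.map (algebraMap B C)) ⟶
      ((flatBC (algebraMap A C) hAC).obj K)⟦i⟧) :=
    subsingleton_congr_left ((singleFunctor (ModuleCat.{u} C) 0).mapIso e1.symm.toModuleIso) h1
  have h3 : Subsingleton (Dual.inD C (C ⧸ n.map (algebraMap B C)) ⟶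
      ((flatBC (algebraMap B C) hBC).obj ((flatBC (algebraMap A B) h).obj K))⟦i⟧) :=
    subsingleton_congr_right ((flatBCComp h hBC hAC).symm.app K) i h2
  have e2 : (C ⊗[B] (Dual.inD B (B ⧸ n) ⟶ ((flatBC (algebraMap A B) h).obj K)⟦i⟧)) ≃ₗ[C]
      (Dual.inD C (C ⧸ n.map (algebraMap B C)) ⟶
      ((flatBC (algebraMap B C) hBC).obj ((flatBC (algebraMap A B) h).obj K))⟦i⟧) :=
    homBCModuleEquiv C hBC (ModuleCat.of B (B ⧸ n)) _ a i ≪≫ₗ
      Linear.homCongr C ((singleFunctor (ModuleCat.{u} C) 0).mapIso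
        (Groth.Agent.LoccohB.FlatDual.extQuot n)) (Iso.refl _)
  have h4 : Subsingleton (C ⊗[B] (Dual.inD B (B ⧸ n) ⟶
      ((flatBC (algebraMap A B) h).obj K)⟦i⟧)) := e2.toEquiv.subsingleton
  refine subsingleton_of_localization n _ ?_ h4
  intro x hx v
  have h1 : x • 𝟙 (Dual.inD B (B ⧸ n)) = 0 := by
    have h2 : x • 𝟙 (ModuleCat.of B (B ⧸ n)) = 0 := by
      apply ModuleCat.hom_ext
      apply LinearMap.ext
      intro y
      obtain ⟨y, rfl⟩ := Ideal.Quotient.mk_surjective y
      change x • (Ideal.Quotient.mk n y) = 0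
      rw [← Ideal.Quotient.mk_eq_mk, ← Submodule.Quotient.mk_smul, Ideal.Quotient.mk_eq_mk,
        Ideal.Quotient.eq_zero_iff_mem, smul_eq_mul]
      exact Ideal.mul_mem_right _ _ hx
    rw [← (singleFunctor (ModuleCat.{u} B) 0).map_id, ← Functor.map_smul, h2, Functor.map_zero]
  rw [← Category.id_comp v, ← Linear.smul_comp, h1, Limits.zero_comp]

/-- **Base change of dualizing complexes along flat maps of finite type with Gorenstein fibres.** -/
theorem isDualizing_flatBC_of_gorenstein {A B : Type u} [CommRing A] [CommRing B] [Algebra A B]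
    (h : (algebraMap A B).Flat) [IsNoetherianRing B] [Algebra.FiniteType A B]
    (hG : ∀ p : PrimeSpectrum A, LocCoh.IsGorensteinRing (B ⊗[A] p.asIdeal.ResidueField))
    (K : Dual.D A) (hK : Dual.IsDualizing A K) :
    Dual.IsDualizing B ((flatBC (algebraMap A B) h).obj K) := by
  have := hK.isNoetherianRing
  obtain ⟨a, b, hge, hle, hab⟩ := exists_bounds_of_isDualizing hK
  obtain ⟨N, f, hf⟩ := Algebra.FiniteType.iff_quotient_mvPolynomial''.1
    (inferInstance : Algebra.FiniteType A B)
  refine Groth.Agent.Flat2F.DualBC.isDualizing_flatBC B h hK ⟨b + N, fun n _ i hi => ?_⟩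
  set p := n.comap (algebraMap A B) with hp
  obtain ⟨q', hq', -, ⟨e⟩⟩ := Groth.Agent.Ega4B.FibLoc.exists_fibLocRing_equiv A B n
  have hGf : LocCoh.IsGorensteinRing (p.Fiber B) :=
    Groth.Agent.LoccohB.GorBasic.isGorensteinRing_of_ringEquiv
      (Algebra.TensorProduct.comm A B p.ResidueField).toRingEquiv (hG ⟨p, inferInstance⟩)
  have hGl : LocCoh.IsGorensteinLocalRing (EGA4.FibLocRing A B n) :=
    Groth.Agent.LoccohB.GorBasic.isGorensteinLocalRing_of_ringEquiv e
      (hGf.isGorensteinLocalRing_localization q')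
  refine subsingleton_hom_residue h K a b hK.finite_cohomology
    (fun p i hi => hab _ i (Or.inr hi)) n hGl N ?_ i hi
  rw [← ringKrullDim_eq_of_ringEquiv e]
  rw [IsLocalization.AtPrime.ringKrullDim_eq_height q' (Localization.AtPrime q')]
  refine (Ideal.height_le_ringKrullDim_of_ne_top hq'.ne_top).trans ?_
  have hsurj : Function.Surjective (Algebra.TensorProduct.map (AlgHom.id p.ResidueField p.ResidueField) f) :=
    Algebra.TensorProduct.map_surjective _ _ Function.surjective_id hf
  refine (ringKrullDim_le_of_surjective _ hsurj).trans ?_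
  rw [ringKrullDim_eq_of_ringEquiv (MvPolynomial.algebraTensorAlgEquiv A p.ResidueField).toRingEquiv]
  rw [MvPolynomial.ringKrullDim_of_isNoetherianRing]
  simp

end Main

end Groth.Agent.Flat2F.GorFibB
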