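import Groth.Agent.CohqA.DirectSum
import Groth.Agent.CohqB.HSeqMod
import Groth.Agent.Dcoh.Restrict
import Groth.Agent.PerfB.ModExact
import Groth.Agent.PerfB.QCohLocal
import Groth.Agent.PerfA.QCohSerre

/-!
`H^1` on schemes where `H^2` of quasi-coherent modules vanishes: right exactness, generation by
direct sums, modules generated by global sections.
-/

set_option autoImplicit false
universe u
open CategoryTheory CategoryTheory.Limits AlgebraicGeometry Opposite TopologicalSpace

namespace Groth.Agent.Flat2F.H1Core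

open Groth.Agent.CohqB HSeqMod
open Groth.Agent.Dcoh.Restrict (unitHom unitHom_app_one unit_hom_ext one map_one)

variable {X : Scheme.{u}}

/-- `H²` of quasi-coherent modules vanishes. -/
def HVan (X : Scheme.{u}) : Prop :=
  ∀ F : X.Modules, Coh.IsQCoh F → ∀ x : Coh.HH X F 2, x = 0

theorem shortExact_kernel {F G : X.Modules} (e : F ⟶ G) [Epi e] :
    (ShortComplex.mk (kernel.ι e) e (kernel.condition e)).ShortExact where
  exact := ShortComplex.exact_kernel e
  mono_f := inferInstanceAs (Mono (kernel.ι e))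
  epi_g := inferInstanceAs (Epi e)

theorem hmap_surjective_of_epi (h : HVan X) {F G : X.Modules} (e : F ⟶ G) [Epi e]
    (hF : Coh.IsQCoh F) (hG : Coh.IsQCoh G) : Function.Surjective (hmap e 1) := by
  intro x
  obtain ⟨y, hy⟩ := exact₃ (shortExact_kernel e) 1 x
    (h _ (Groth.Agent.PerfA.QCohSerre.isQCoh_kernel e hF hG) _)
  exact ⟨y, hy⟩

theorem isQCoh_coproduct {ι : Type u} (F : ι → X.Modules) (hF : ∀ i, Coh.IsQCoh (F i)) :
    Coh.IsQCoh (∐ F) :=
  Groth.Agent.PerfB.QCohLocal.isQCoh_of_isColimit (Discrete.functor F) (fun i => hF i.as) _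
    (colimit.isColimit (Discrete.functor F))

theorem exists_sum (h : HVan X) [CompactSpace X] [QuasiSeparatedSpace X] {ι : Type u}
    {F : ι → X.Modules} (hF : ∀ i, Coh.IsQCoh (F i)) {G : X.Modules} (hG : Coh.IsQCoh G)
    (e : ∀ i, F i ⟶ G) (he : Epi (Sigma.desc e)) (x : Coh.HH X G 1) :
    ∃ (s : Finset ι) (y : ∀ i, Coh.HH X (F i) 1), x = ∑ i ∈ s, hmap (e i) 1 (y i) := by
  obtain ⟨z, rfl⟩ := hmap_surjective_of_epi h (Sigma.desc e) (isQCoh_coproduct F hF) hG x
  obtain ⟨s, y, rfl⟩ := Groth.Agent.CohqA.DirectSum.exists_finset_sum F 1 z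
  refine ⟨s, y, ?_⟩
  rw [map_sum]
  refine Finset.sum_congr rfl fun i _ => ?_
  have h1 := hmap_comp_apply (Sigma.ι F i) (Sigma.desc e) 1 (y i)
  rw [Sigma.ι_desc] at h1
  exact h1.symm

theorem unitHom_app {M : X.Modules} (s : Γ(M, ⊤)) (U : X.Opens) (w : Γ(X, U)) :
    (unitHom s).app U w = w • M.presheaf.map (homOfLE (le_top (a := U))).op s := by
  have h1 : (unitHom s).app U (one U) = M.presheaf.map (homOfLE (le_top (a := U))).op s := by
    have h2 := ConcreteCategory.congr_hom
      ((unitHom s).mapPresheaf.naturality (homOfLE (le_top (a := U))).op) (one ⊤)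
    have h3 : (Coh.structureModule X).presheaf.map (homOfLE (le_top (a := U))).op (one ⊤) = one U :=
      map_one (homOfLE (le_top (a := U)))
    have h4 : (unitHom s).app U ((Coh.structureModule X).presheaf.map
        (homOfLE (le_top (a := U))).op (one ⊤)) =
        M.presheaf.map (homOfLE (le_top (a := U))).op ((unitHom s).app ⊤ (one ⊤)) := h2
    rw [h3, unitHom_app_one] at h4
    exact h4
  have h5 : w = w • (one U : Γ(X, U)) := by
    change w = w * 1
    rw [mul_one]
  have h6 : (unitHom s).app U (w • (one U : Γ(Coh.structureModule X, U))) =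
      w • (unitHom s).app U (one U) := Scheme.Modules.Hom.app_smul (unitHom s) w _
  rw [← h1, ← h6]
  exact congrArg _ h5

/-- A family of global sections generating the sections over all affine opens. -/
theorem epi_desc_unitHom {ι : Type u} {G : X.Modules} (s : ι → Γ(G, ⊤))
    (h : ∀ W : X.Opens, IsAffineOpen W →
      Submodule.span Γ(X, W) (Set.range fun i => G.presheaf.map (homOfLE (le_top (a := W))).op (s i)) =
        ⊤) :
    Epi (Sigma.desc fun i => unitHom (s i)) := by
  refine Groth.Agent.PerfB.ModExact.epi_of_locally_surjective _ fun U y x hx => ?_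
  obtain ⟨W, hW, hxW, hWU⟩ := exists_isAffineOpen_mem_and_subset (X := X) (x := x) (U := U) hx
  refine ⟨W, hWU, hxW, ?_⟩
  have h1 : G.presheaf.map (homOfLE hWU).op y ∈ (⊤ : Submodule Γ(X, W) Γ(G, W)) := trivial
  rw [← h W hW] at h1
  refine Submodule.span_induction ?_ ?_ ?_ ?_ h1
  · rintro _ ⟨i, rfl⟩
    refine ⟨(Sigma.ι (fun _ : ι => Coh.structureModule X) i).app W (one W), ?_⟩
    have h2 : (Sigma.ι (fun _ : ι => Coh.structureModule X) i ≫
        Sigma.desc fun i => unitHom (s i)).app W (one W) = (unitHom (s i)).app W (one W) := by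
      rw [Sigma.ι_desc]
    refine h2.trans ?_
    refine (unitHom_app (s i) W (one W)).trans ?_
    exact one_smul _ _
  · exact ⟨0, map_zero _⟩
  · rintro a b _ _ ⟨a', rfl⟩ ⟨b', rfl⟩
    exact ⟨a' + b', map_add _ _ _⟩
  · rintro r a _ ⟨a', rfl⟩
    exact ⟨r • a', Scheme.Modules.Hom.app_smul _ r a'⟩

end Groth.Agent.Flat2F.H1Core
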