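import Groth.Agent.VarietyB.HHPush

/-!
Degree one form of Stacks 089W, compatible with endomorphisms: for `f : X ⟶ Y` affine and `M`
quasi-coherent there is `e : H^1(Y, f_* M) ≃ H^1(X, M)` with `e ∘ H^1(f_* φ) = H^1(φ) ∘ e` for all
endomorphisms `φ` of `M`.
-/

set_option autoImplicit false
universe u
open CategoryTheory CategoryTheory.Limits AlgebraicGeometry Opposite TopologicalSpace

namespace Groth.Agent.Flat2F.PushNat

open Groth.Agent.CohqB Groth.Agent.CohqA Groth.Agent.VarietyB.HHLes Groth.Agent.VarietyB.HHPush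

variable {X Y : Scheme.{u}} (f : X ⟶ Y)
variable (A : Type u) [CommRing A] [X.Over (Spec (CommRingCat.of A))]
  [Y.Over (Spec (CommRingCat.of A))]
variable (hf : f ≫ (Y ↘ Spec (CommRingCat.of A)) = X ↘ Spec (CommRingCat.of A))

/-- extension of an endomorphism to a short exact sequence with injective middle term -/
theorem exists_lift {S : ShortComplex X.Modules} (hS : S.ShortExact) [Injective S.X₂]
    (φ : S.X₁ ⟶ S.X₁) : ∃ Φ : S ⟶ S, Φ.τ₁ = φ := by
  have : Mono S.f := hS.mono_f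
  have : Epi S.g := hS.epi_g
  let φ₂ : S.X₂ ⟶ S.X₂ := Injective.factorThru (φ ≫ S.f) S.f
  have h₂ : S.f ≫ φ₂ = φ ≫ S.f := Injective.comp_factorThru _ _
  have h0 : S.f ≫ φ₂ ≫ S.g = 0 := by
    rw [← Category.assoc, h₂, Category.assoc, S.zero, comp_zero]
  let φ₃ : S.X₃ ⟶ S.X₃ := hS.exact.desc (φ₂ ≫ S.g) h0
  have h₃ : S.g ≫ φ₃ = φ₂ ≫ S.g := hS.exact.g_desc _ _
  exact ⟨{ τ₁ := φ, τ₂ := φ₂, τ₃ := φ₃, comm₁₂ := h₂.symm, comm₂₃ := h₃.symm }, rfl⟩

include hf in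
theorem exists_equiv_one (M : X.Modules) (hM : Acyc f M) :
    ∃ e : Hn A Y ((Scheme.Modules.pushforward f).obj M) 1 ≃ₗ[A] Hn A X M 1,
      ∀ (φ : M ⟶ M) (x : Hn A Y ((Scheme.Modules.pushforward f).obj M) 1),
        e (Hmap A ((Scheme.Modules.pushforward f).map φ) 1 x) = Hmap A φ 1 (e x) := by
  have := enoughInjectives X
  obtain ⟨S, hS, hI, rfl⟩ := SheafH.exists_injective_shortExact M
  have hfl : TopCat.Sheaf.IsFlasque (X := X.toTopCat) (Coh.toAb S.X₂) :=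
    Ega3B.InjMod.isFlasque_of_injective S.X₂
  have hfl' := isFlasque_push f S.X₂ hfl
  have hS' := shortExact_push f hS hM
  have h1 := Hn_eq_zero_of_flasque A S.X₂ hfl 0
  have h2 := Hn_eq_zero_of_flasque A _ hfl' 0
  have hmap : (LinearMap.range (Hmap A ((Scheme.Modules.pushforward f).map S.g) 0)).map
      (zeroEquiv f A hf S.X₃).toLinearMap = LinearMap.range (Hmap A S.g 0) := by
    ext z
    constructor
    · rintro ⟨y, ⟨x, rfl⟩, rfl⟩
      exact ⟨zeroEquiv f A hf S.X₂ x, (zeroEquiv_naturality f A hf S.g x).symm⟩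
    · rintro ⟨x, rfl⟩
      refine ⟨Hmap A ((Scheme.Modules.pushforward f).map S.g) 0
        ((zeroEquiv f A hf S.X₂).symm x), ⟨_, rfl⟩, ?_⟩
      refine (zeroEquiv_naturality f A hf S.g _).trans ?_
      rw [LinearEquiv.apply_symm_apply]
  let e0 : (Hn A Y ((Scheme.Modules.pushforward f).obj S.X₃) 0 ⧸
      LinearMap.range (Hmap A ((Scheme.Modules.pushforward f).map S.g) 0)) ≃ₗ[A]
      (Hn A X S.X₃ 0 ⧸ LinearMap.range (Hmap A S.g 0)) :=
    Submodule.Quotient.equiv _ _ (zeroEquiv f A hf S.X₃) hmap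
  let e1 : (Hn A Y ((Scheme.Modules.pushforward f).obj S.X₃) 0 ⧸
      LinearMap.range (Hmap A ((Scheme.Modules.pushforward f).map S.g) 0)) ≃ₗ[A]
      Hn A Y ((Scheme.Modules.pushforward f).obj S.X₁) (0 + 1) := cokEquiv A hS' 0 h2
  let e : Hn A Y ((Scheme.Modules.pushforward f).obj S.X₁) 1 ≃ₗ[A] Hn A X S.X₁ 1 :=
    e1.symm.trans (e0.trans (cokEquiv A hS 0 h1))
  have key : ∀ y : Hn A Y ((Scheme.Modules.pushforward f).obj S.X₃) 0,
      e (Hδ A hS' 0 y) = Hδ A hS 0 (zeroEquiv f A hf S.X₃ y) := by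
    intro y
    have h3 : e1.symm (Hδ A hS' 0 y) = Submodule.Quotient.mk y := by
      rw [LinearEquiv.symm_apply_eq]
      rfl
    change (cokEquiv A hS 0 h1) (e0 (e1.symm (Hδ A hS' 0 y))) = _
    rw [h3]
    rfl
  refine ⟨e, fun φ x => ?_⟩
  obtain ⟨y, rfl⟩ := exact₁ A hS' 0 x (h2 _)
  obtain ⟨Φ, rfl⟩ := exists_lift hS φ
  let Φ' : S.map (Scheme.Modules.pushforward f) ⟶ S.map (Scheme.Modules.pushforward f) :=
    (Scheme.Modules.pushforward f).mapShortComplex.map Φ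
  have h4 := Hδ_naturality A hS' hS' Φ' 0 y
  have h5 := Hδ_naturality A hS hS Φ 0 (zeroEquiv f A hf S.X₃ y)
  have h6 : Hmap A ((Scheme.Modules.pushforward f).map Φ.τ₁) 1 (Hδ A hS' 0 y) =
      Hδ A hS' 0 (Hmap A ((Scheme.Modules.pushforward f).map Φ.τ₃) 0 y) := h4.symm
  refine (congrArg e h6).trans ?_
  rw [key]
  refine Eq.trans (congrArg _ (zeroEquiv_naturality f A hf Φ.τ₃ y)) ?_
  refine h5.trans ?_
  rw [← key]

end Groth.Agent.Flat2F.PushNat
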