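import Mathlib.AlgebraicGeometry.Noetherian
import Mathlib.AlgebraicGeometry.Morphisms.Flat
import Mathlib.AlgebraicGeometry.Morphisms.FinitePresentation
import Mathlib.AlgebraicGeometry.Morphisms.Descent
import Mathlib.AlgebraicGeometry.Morphisms.LocalIso
import Mathlib.AlgebraicGeometry.Morphisms.UniversallyOpen
import Mathlib.AlgebraicGeometry.Fiber

/-!
# Descent of local Noetherianity along fpqc / fppf morphisms, and ascent along
essentially finite type extensions of the base.
-/

set_option autoImplicit false
universe u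

namespace Groth.Agent.Flat2F.LocNoeth

open AlgebraicGeometry CategoryTheory Limits

/-- Noetherianity descends along faithfully flat ring maps. -/
lemma isNoetherianRing_of_faithfullyFlat (A B : Type*) [CommRing A] [CommRing B] [Algebra A B]
    [Module.FaithfullyFlat A B] [IsNoetherianRing B] : IsNoetherianRing A := by
  rw [isNoetherianRing_iff, isNoetherian_iff']
  have h : WellFoundedGT (Ideal B) := (isNoetherian_iff'.mp (isNoetherianRing_iff.mp ‹_›))
  have hm : StrictMono (Ideal.map (algebraMap A B)) :=
    Monotone.strictMono_of_injective (fun _ _ h => Ideal.map_mono h)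
      (Ideal.map_injective_of_faithfullyFlat (A := A) (B := B))
  exact hm.wellFoundedGT

/-- `X → Y` flat surjective, `X` compact and locally Noetherian and `Y` affine implies
`Γ(Y, ⊤)` Noetherian. -/
lemma isNoetherianRing_of_flat_surjective {X Y : Scheme.{u}} [IsAffine Y]
    (f : X ⟶ Y) [Flat f] [Surjective f] [CompactSpace X] [IsLocallyNoetherian X] :
    IsNoetherianRing Γ(Y, ⊤) := by
  obtain ⟨T, p, hsurj, hP', hT⟩ := X.exists_hom_isAffine_of_isZariskiLocalAtSource @IsLocalIso
  have hfl : Flat p := IsLocalIso.le_of_isZariskiLocalAtSource @Flat _ _ _ hP'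
  have hft : LocallyOfFiniteType p :=
    IsLocalIso.le_of_isZariskiLocalAtSource @LocallyOfFiniteType _ _ _ hP'
  have : IsLocallyNoetherian T := LocallyOfFiniteType.isLocallyNoetherian p
  have hN : IsNoetherianRing Γ(T, ⊤) :=
    IsLocallyNoetherian.component_noetherian ⟨⊤, isAffineOpen_top T⟩
  have h1 : Flat (p ≫ f) ∧ Surjective (p ≫ f) := ⟨inferInstance, inferInstance⟩
  rw [Flat.flat_and_surjective_iff_faithfullyFlat_of_isAffine] at h1
  algebraize [(p ≫ f).appTop.hom]
  exact isNoetherianRing_of_faithfullyFlat Γ(Y, ⊤) Γ(T, ⊤)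

/-- Local Noetherianity descends along flat surjective quasi-compact morphisms. -/
theorem isLocallyNoetherian_of_flat_surjective_quasiCompact {X Y : Scheme.{u}} (f : X ⟶ Y)
    [Flat f] [Surjective f] [QuasiCompact f] [IsLocallyNoetherian X] : IsLocallyNoetherian Y := by
  rw [isLocallyNoetherian_iff_of_affine_openCover Y.affineCover]
  intro i
  have : CompactSpace ↥(pullback f (Y.affineCover.f i)) :=
    QuasiCompact.compactSpace_of_compactSpace (pullback.snd f (Y.affineCover.f i))
  have : IsLocallyNoetherian (pullback f (Y.affineCover.f i)) :=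
    LocallyOfFiniteType.isLocallyNoetherian (pullback.fst f (Y.affineCover.f i))
  exact isNoetherianRing_of_flat_surjective (pullback.snd f (Y.affineCover.f i))

/-- A surjective open map to a quasi-compact scheme restricts to a surjective map on some
quasi-compact open. -/
lemma exists_isCompact_image_eq_univ {X Y : Scheme.{u}} [CompactSpace Y] (g : X ⟶ Y)
    (hopen : IsOpenMap g) (hsurj : Function.Surjective g) :
    ∃ U : X.Opens, IsCompact (U : Set X) ∧ g '' (U : Set X) = Set.univ := by
  obtain ⟨t, ht⟩ := isCompact_univ.elim_finite_subcover (fun V : X.affineOpens => g '' (V.1 : Set X))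
    (fun V => hopen _ V.1.isOpen) (fun y _ => by
      obtain ⟨x, rfl⟩ := hsurj y
      obtain ⟨V, hV, hxV, -⟩ := X.isBasis_affineOpens.exists_subset_of_mem_open (Set.mem_univ x) isOpen_univ
      obtain ⟨V', hV', rfl⟩ := hV
      exact Set.mem_iUnion.mpr ⟨⟨V', hV'⟩, x, hxV, rfl⟩)
  refine ⟨⨆ V ∈ t, V.1, ?_, ?_⟩
  · rw [TopologicalSpace.Opens.coe_iSup]
    simp only [TopologicalSpace.Opens.iSup_def, TopologicalSpace.Opens.coe_mk]
    exact t.isCompact_biUnion fun V _ => V.2.isCompact
  · refine Set.eq_univ_of_univ_subset fun y hy => ?_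
    obtain ⟨V, hV, hyV⟩ := Set.mem_iUnion₂.mp (ht hy)
    obtain ⟨x, hx, rfl⟩ := hyV
    refine ⟨x, ?_, rfl⟩
    rw [SetLike.mem_coe, TopologicalSpace.Opens.mem_iSup]
    exact ⟨V, TopologicalSpace.Opens.mem_iSup.mpr ⟨hV, hx⟩⟩

/-- Local Noetherianity descends along flat surjective open morphisms. -/
theorem isLocallyNoetherian_of_flat_surjective_universallyOpen {X Y : Scheme.{u}} (f : X ⟶ Y)
    [Flat f] [Surjective f] [UniversallyOpen f] [IsLocallyNoetherian X] :
    IsLocallyNoetherian Y := by
  rw [isLocallyNoetherian_iff_of_affine_openCover Y.affineCover]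
  intro i
  set g := pullback.snd f (Y.affineCover.f i) with hg
  have hN : IsLocallyNoetherian (pullback f (Y.affineCover.f i)) :=
    LocallyOfFiniteType.isLocallyNoetherian (pullback.fst f (Y.affineCover.f i))
  have hopen : IsOpenMap g := g.isOpenMap
  have hsurj : Function.Surjective g := g.surjective
  obtain ⟨U, hUc, hUs⟩ := exists_isCompact_image_eq_univ g hopen hsurj
  have h1 : Surjective (U.ι ≫ g) := by
    refine ⟨fun y => ?_⟩
    obtain ⟨x, hx, rfl⟩ : y ∈ g '' (U : Set _) := hUs ▸ Set.mem_univ y
    exact ⟨⟨x, hx⟩, by rw [Scheme.Hom.comp_apply]; rfl⟩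
  have h2 : CompactSpace U := isCompact_iff_compactSpace.mp hUc
  exact isNoetherianRing_of_flat_surjective (U.ι ≫ g)

/-- The residue field extensions of a morphism locally of finite type are essentially of
finite type. -/
lemma residueFieldMap_essFiniteType {X Y : Scheme.{u}} (f : X ⟶ Y) [LocallyOfFiniteType f]
    (x : X) : (f.residueFieldMap x).hom.EssFiniteType := by
  have h1 : (Y.residue (f x) ≫ f.residueFieldMap x).hom.EssFiniteType := by
    rw [Scheme.residue_residueFieldMap, CommRingCat.hom_comp]
    exact (LocallyOfFiniteType.stalkMap f x).comp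
      (RingHom.FiniteType.of_surjective _ (X.residue_surjective x)).essFiniteType
  rw [CommRingCat.hom_comp] at h1
  exact h1.of_comp

/-- Local Noetherianity ascends along base change by an essentially finite type ring map, affine
case. -/
lemma isLocallyNoetherian_of_isPullback_essFiniteType_affine {P X : Scheme.{u}}
    {R S : CommRingCat.{u}}
    {fst : P ⟶ X} {snd : P ⟶ Spec S} {f : X ⟶ Spec R} {φ : R ⟶ S} (hX : ∃ A, X = Spec A)
    (h : IsPullback fst snd f (Spec.map φ)) (hφ : φ.hom.EssFiniteType)
    (hN : IsLocallyNoetherian X) :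
    IsLocallyNoetherian P := by
  obtain ⟨A, rfl⟩ := hX
  obtain ⟨ψ, rfl⟩ := Spec.map_surjective f
  have hA : IsNoetherianRing A := isLocallyNoetherian_Spec.mp inferInstance
  algebraize [ψ.hom, φ.hom]
  have h2 : Algebra.EssFiniteType A (TensorProduct R A S) := inferInstance
  have h3 : IsNoetherianRing (TensorProduct R A S) := Algebra.EssFiniteType.isNoetherianRing A _
  have e : P ≅ Spec (.of (TensorProduct R A S)) :=
    h.isoPullback ≪≫ pullbackSpecIso R A S
  exact isLocallyNoetherian_of_isOpenImmersion e.hom

/-- Local Noetherianity ascends along base change by an essentially finite type ring map. -/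
theorem isLocallyNoetherian_of_isPullback_essFiniteType {P X : Scheme.{u}} {R S : CommRingCat.{u}}
    {fst : P ⟶ X} {snd : P ⟶ Spec S} {f : X ⟶ Spec R} {φ : R ⟶ S}
    (h : IsPullback fst snd f (Spec.map φ)) (hφ : φ.hom.EssFiniteType)
    (hN : IsLocallyNoetherian X) :
    IsLocallyNoetherian P := by
  rw [isLocallyNoetherian_iff_openCover (X.affineCover.pullback₁ fst)]
  intro (i : X)
  have h1 : IsPullback (pullback.snd fst (X.affineCover.f i))
      (pullback.fst fst (X.affineCover.f i) ≫ snd) (X.affineCover.f i ≫ f) (Spec.map φ) :=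
    (IsPullback.of_hasPullback fst (X.affineCover.f i)).flip.paste_vert h
  have h2 : IsLocallyNoetherian (X.affineCover.X i) :=
    isLocallyNoetherian_of_isOpenImmersion (X.affineCover.f i)
  exact isLocallyNoetherian_of_isPullback_essFiniteType_affine ⟨_, rfl⟩ h1 hφ h2

/-- Fibres of base changes along a morphism locally of finite type are locally Noetherian if the
fibres of the original morphism are. -/
theorem isLocallyNoetherian_fiber_of_isPullback {P X Y Z : Scheme.{u}} {fst : P ⟶ X}
    {snd : P ⟶ Y} {f : X ⟶ Z} {g : Y ⟶ Z} (h : IsPullback fst snd f g) [LocallyOfFiniteType g]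
    (y : Y) (hN : IsLocallyNoetherian (f.fiber (g y))) : IsLocallyNoetherian (snd.fiber y) :=
  isLocallyNoetherian_of_isPullback_essFiniteType
    (isPullback_fiberToSpecResidueField_of_isPullback h y) (residueFieldMap_essFiniteType g y) hN

lemma isLocallyNoetherian_of_isPullback_field {P X : Scheme.{u}} {R S : CommRingCat.{u}}
    {fst : P ⟶ X} {snd : P ⟶ Spec S} {f : X ⟶ Spec R} {φ : R ⟶ S}
    (h : IsPullback fst snd f (Spec.map φ)) (hR : IsField R) [Nontrivial S]
    (hN : IsLocallyNoetherian P) :
    IsLocallyNoetherian X := by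
  have h2 : Flat (Spec.map φ) ∧ Surjective (Spec.map φ) := by
    rw [flat_and_surjective_SpecMap_iff]
    let := hR.toField
    algebraize [φ.hom]
    change Module.FaithfullyFlat R S
    infer_instance
  have h4 : Flat fst := MorphismProperty.of_isPullback (P := @Flat) h.flip h2.1
  have h5 : Surjective fst := MorphismProperty.of_isPullback (P := @Surjective) h.flip h2.2
  have h6 : QuasiCompact fst := MorphismProperty.of_isPullback (P := @QuasiCompact) h.flip inferInstance
  exact isLocallyNoetherian_of_flat_surjective_quasiCompact fst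

/-- Local Noetherianity of fibres descends along arbitrary base change. -/
theorem isLocallyNoetherian_fiber_of_isPullback_fiber {P X Y Z : Scheme.{u}} {fst : P ⟶ X}
    {snd : P ⟶ Y} {f : X ⟶ Z} {g : Y ⟶ Z} (h : IsPullback fst snd f g)
    (y : Y) (hN : IsLocallyNoetherian (snd.fiber y)) : IsLocallyNoetherian (f.fiber (g y)) :=
  isLocallyNoetherian_of_isPullback_field (isPullback_fiberToSpecResidueField_of_isPullback h y)
    (Field.toIsField _) hN

end Groth.Agent.Flat2F.LocNoeth
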