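import Mathlib.RingTheory.ZariskisMainTheorem
import Mathlib.RingTheory.EssentialFiniteness
import Mathlib.RingTheory.Finiteness.NilpotentKer
import Mathlib.FieldTheory.IntermediateField.Adjoin.Algebra
import Mathlib.RingTheory.LocalRing.ResidueField.Basic

set_option autoImplicit false

namespace Groth.Agent.Flat2F.LocalZMT

open IsLocalRing Polynomial

/-- A quasi-finiteness criterion at the closed point of an essentially finite type local algebra. -/
theorem quasiFinite_quotient {D B : Type*} [CommRing D] [CommRing B] [IsLocalRing B] [Algebra D B]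
    [Algebra.EssFiniteType D B]
    (hnil : ∀ x ∈ maximalIdeal B, ∃ n : ℕ,
      x ^ n ∈ ((maximalIdeal B).under D).map (algebraMap D B))
    (halg : ∀ x : ResidueField B, ∃ p : D[X],
      p.map ((residue B).comp (algebraMap D B)) ≠ 0 ∧
        p.eval₂ ((residue B).comp (algebraMap D B)) x = 0) :
    Algebra.QuasiFinite D (B ⧸ ((maximalIdeal B).under D).map (algebraMap D B)) := by
  set 𝔡 := (maximalIdeal B).under D with h𝔡
  let E := Localization.AtPrime 𝔡
  have hunit : ∀ s : 𝔡.primeCompl, IsUnit (algebraMap D B s) := by
    intro s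
    by_contra h
    exact s.2 ((mem_maximalIdeal _).mpr h)
  let _ : Algebra E B := (IsLocalization.lift (M := 𝔡.primeCompl) (g := algebraMap D B) hunit).toAlgebra
  have : IsScalarTower D E B := by
    apply IsScalarTower.of_algebraMap_eq'
    exact (IsLocalization.lift_comp (M := 𝔡.primeCompl) hunit).symm
  have hloc : IsLocalHom (algebraMap E B) := by
    constructor
    intro x hx
    obtain ⟨x, s, rfl⟩ := IsLocalization.exists_mk'_eq 𝔡.primeCompl x
    rw [IsLocalization.AtPrime.isUnit_mk'_iff]
    have h1 : IsUnit (algebraMap E B (algebraMap D E x)) := by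
      have h2 : algebraMap D E x = IsLocalization.mk' E x s * algebraMap D E s := by
        rw [IsLocalization.mk'_spec]
      rw [h2, map_mul, ← IsScalarTower.algebraMap_apply D E B]
      exact hx.mul (hunit s)
    rw [← IsScalarTower.algebraMap_apply] at h1
    intro h3
    exact (mem_maximalIdeal _).mp h3 h1
  have : Algebra.EssFiniteType E B := Algebra.EssFiniteType.of_comp D E B
  -- the residue field extension is finite
  have : Algebra.EssFiniteType E (ResidueField B) := Algebra.EssFiniteType.comp E B _
  have : Algebra.EssFiniteType (ResidueField E) (ResidueField B) :=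
    Algebra.EssFiniteType.of_comp E (ResidueField E) (ResidueField B)
  have : Algebra.IsAlgebraic (ResidueField E) (ResidueField B) := by
    constructor
    intro x
    obtain ⟨p, hp0, hp⟩ := halg x
    have hcomp : (algebraMap (ResidueField E) (ResidueField B)).comp (algebraMap D (ResidueField E))
        = (residue B).comp (algebraMap D B) := by
      rw [← IsScalarTower.algebraMap_eq]
      rfl
    refine ⟨p.map (algebraMap D (ResidueField E)), ?_, ?_⟩
    · intro h0
      apply hp0
      rw [← hcomp, ← Polynomial.map_map, h0, Polynomial.map_zero]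
    · rw [aeval_def, eval₂_map, hcomp, hp]
  have : Module.Finite (ResidueField E) (ResidueField B) :=
    Algebra.finite_of_essFiniteType_of_isAlgebraic
  have : Module.Finite E (ResidueField B) := Module.Finite.trans (ResidueField E) _
  -- the quotient is finite
  let I := 𝔡.map (algebraMap D B)
  have hI : I ≤ maximalIdeal B := Ideal.map_le_iff_le_comap.mpr le_rfl
  let f : B ⧸ I →ₐ[E] ResidueField B := Ideal.Quotient.liftₐ I (IsScalarTower.toAlgHom E B _)
    (fun a ha => by
      show residue B a = 0
      exact (residue_eq_zero_iff _).mpr (hI ha))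
  have hf : Function.Surjective f := by
    intro x
    obtain ⟨x, rfl⟩ := residue_surjective x
    exact ⟨Ideal.Quotient.mk I x, rfl⟩
  have hnoeth : IsNoetherianRing (B ⧸ I) := by
    have hIE : I = (maximalIdeal E).map (algebraMap E B) := by
      rw [← Localization.AtPrime.map_eq_maximalIdeal, Ideal.map_map,
        ← IsScalarTower.algebraMap_eq]
    rw [hIE]
    have : IsNoetherianRing (E ⧸ maximalIdeal E) :=
      inferInstanceAs (IsNoetherianRing (ResidueField E))
    exact Algebra.EssFiniteType.isNoetherianRing (E ⧸ maximalIdeal E) _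
  have hfin : Module.Finite E (B ⧸ I) := by
    refine Module.finite_of_surjective_of_ker_le_nilradical f hf ?_ (IsNoetherian.noetherian _)
    intro x hx
    obtain ⟨x, rfl⟩ := Ideal.Quotient.mk_surjective x
    have hx' : x ∈ maximalIdeal B := (residue_eq_zero_iff _).mp hx
    obtain ⟨n, hn⟩ := hnil x hx'
    rw [mem_nilradical]
    exact ⟨n, by rw [← map_pow, Ideal.Quotient.eq_zero_iff_mem]; exact hn⟩
  exact Algebra.QuasiFinite.trans D E (B ⧸ I)

/-- Zariski's main theorem for essentially finite type local algebras which are quasi-finite at the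
closed point: every element is, up to an integral unit, integral over the base. -/
theorem zmt_local {D B : Type*} [CommRing D] [CommRing B] [IsLocalRing B] [Algebra D B]
    [Algebra.EssFiniteType D B]
    (hnil : ∀ x ∈ maximalIdeal B, ∃ n : ℕ,
      x ^ n ∈ ((maximalIdeal B).under D).map (algebraMap D B))
    (halg : ∀ x : ResidueField B, ∃ p : D[X],
      p.map ((residue B).comp (algebraMap D B)) ≠ 0 ∧
        p.eval₂ ((residue B).comp (algebraMap D B)) x = 0) (b : B) :
    ∃ v : B, IsUnit v ∧ IsIntegral D v ∧ IsIntegral D (v * b) := by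
  have hqf := quasiFinite_quotient hnil halg
  let C := Algebra.EssFiniteType.subalgebra D B
  let q : Ideal C := (maximalIdeal B).under C
  have hqM : q.primeCompl = Algebra.EssFiniteType.submonoid D B := by
    ext x
    show ¬ (algebraMap C B x ∈ maximalIdeal B) ↔ IsUnit (algebraMap C B x)
    rw [mem_maximalIdeal, mem_nonunits_iff, not_not]
  have hloc : IsLocalization q.primeCompl B := by
    rw [hqM]; exact Algebra.EssFiniteType.isLocalization D B
  let e : Localization.AtPrime q ≃ₐ[C] B := IsLocalization.algEquiv q.primeCompl _ _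
  have hwqf : Algebra.WeaklyQuasiFiniteAt D q := by
    rw [Algebra.weaklyQuasiFiniteAt_iff]
    have hq : q.under D = (maximalIdeal B).under D := Ideal.under_under _
    refine (Algebra.QuasiFinite.iff_of_algEquiv
      (Ideal.quotientEquivAlg _ _ (e.restrictScalars D) ?_)).mpr hqf
    rw [hq, Ideal.map_map]
    congr 1
    exact ((e.restrictScalars D).toAlgHom.comp_algebraMap).symm
  have hzmt := Algebra.ZariskisMainProperty.of_finiteType_of_weaklyQuasiFiniteAt (R := D) q
  rw [Algebra.zariskisMainProperty_iff] at hzmt
  obtain ⟨r, hrq, hr, H⟩ := hzmt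
  have hru : IsUnit (algebraMap C B r) := by
    by_contra h
    exact hrq ((mem_maximalIdeal _).mpr h)
  obtain ⟨⟨c, s⟩, hcs⟩ := IsLocalization.surj q.primeCompl b
  have hsu : IsUnit (algebraMap C B s) := IsLocalization.map_units B s
  obtain ⟨m, hm⟩ := H c
  obtain ⟨m', hm'⟩ := H s
  refine ⟨algebraMap C B (r ^ (m + m') * s), ?_, ?_, ?_⟩
  · rw [map_mul, map_pow]
    exact (hru.pow _).mul hsu
  · refine IsIntegral.algebraMap ?_
    rw [pow_add, mul_assoc]
    exact (hr.pow _).mul hm'
  · have : algebraMap C B (r ^ (m + m') * s) * b = algebraMap C B (r ^ m' * (r ^ m * c)) := by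
      rw [map_mul, mul_assoc, mul_comm (algebraMap C B s), hcs, ← map_mul, pow_add]
      ring_nf
    rw [this]
    exact IsIntegral.algebraMap ((hr.pow _).mul hm)

theorem isAlgebraic_of_zmt {D B : Type*} [CommRing D] [CommRing B] [IsDomain B] [IsLocalRing B]
    [Algebra D B] [FaithfulSMul D B] [Algebra.EssFiniteType D B]
    (hnil : ∀ x ∈ maximalIdeal B, ∃ n : ℕ,
      x ^ n ∈ ((maximalIdeal B).under D).map (algebraMap D B))
    (halg : ∀ x : ResidueField B, ∃ p : D[X],
      p.map ((residue B).comp (algebraMap D B)) ≠ 0 ∧
        p.eval₂ ((residue B).comp (algebraMap D B)) x = 0) :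
    Algebra.IsAlgebraic D B := by
  constructor
  intro b
  obtain ⟨v, hv, hv1, hv2⟩ := zmt_local hnil halg b
  have hD : IsDomain D := (FaithfulSMul.algebraMap_injective D B).isDomain
  exact IsAlgebraic.of_mul (mem_nonZeroDivisors_of_ne_zero hv.ne_zero) hv1.isAlgebraic
    hv2.isAlgebraic

end Groth.Agent.Flat2F.LocalZMT
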