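import Groth.Agent.Flat2F.MaxLocus

/-!
Affineness of the maximal locus of the fibre integral (Stacks 0F3R), from Chevalley's theorem.
-/

set_option autoImplicit false
universe u

namespace Groth.Agent.Flat2F.MaxAffine

open AlgebraicGeometry CategoryTheory Limits FibreIntegral GeomPts ResSplit Split WeightLoc
  FibrePow MaxLocus Topology

variable {X Y : Scheme.{u}}

lemma UCW_id_lift {Z : Scheme.{u}} (W : Y.Opens) (q : Z ⟶ Y) (hq : UCW W q) (t : Z ⟶ W)
    (ht : t ≫ W.ι = q) : UniversallyClosed t := by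
  subst ht
  refine hq _ _ (𝟙 Z) t W.ι ?_ (by simp)
  have h1 : IsPullback (𝟙 Z) t t (𝟙 (W : Scheme.{u})) := IsPullback.id_horiz t
  have h2 : IsPullback (𝟙 (W : Scheme.{u})) (𝟙 (W : Scheme.{u})) W.ι W.ι := IsKernelPair.id_of_mono W.ι
  simpa using h1.paste_vert h2

/-- The maximal locus receives a universally closed surjective morphism from an affine scheme. -/
theorem exists_affine_cover (f : X ⟶ Y) [LocallyQuasiFinite f] [QuasiCompact f] [LocallyOfFiniteType f]
    [IsAffine X] [IsAffine Y] (w : X → ℤ) (hw : MoreMor.IsWeighting f w) (hpos : ∀ x, 0 < w x) (d : ℤ)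
    (hmax : ∀ y : Y, MoreMor.fibreIntegral f w y ≤ d) (hatt : ∃ y : Y, MoreMor.fibreIntegral f w y = d) :
    ∃ hYd : IsOpen {y : Y | MoreMor.fibreIntegral f w y = d},
      ∃ (Z : Scheme.{u}) (t : Z ⟶ (⟨{y : Y | MoreMor.fibreIntegral f w y = d}, hYd⟩ : Y.Opens)),
        IsAffine Z ∧ Surjective t ∧ UniversallyClosed t := by
  obtain ⟨n, rfl⟩ : ∃ n : ℕ, d = n := by
    obtain ⟨y, rfl⟩ := hatt
    obtain ⟨K, _, _, ω, rfl⟩ := exists_geometric_point Y y
    rw [fibreIntegral_top]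
    refine Int.eq_ofNat_of_zero_le ?_
    exact finsum_nonneg fun s => finsum_nonneg fun _ => (hpos _).le
  obtain ⟨hopen, hW⟩ := isOpen_and_UCW f w hw hpos n hmax
  let W : Y.Opens := ⟨{y : Y | MoreMor.fibreIntegral f w y = n}, hopen⟩
  obtain ⟨P, p, pr, hP, hpW, hpr, hu⟩ := exists_pow f W hW n
  have hTcl : IsClosed (T w pr) := isClosed_T f hw (fun x => (hpos x).le) p pr hpr
  have hTim := image_T f hpos hmax p pr hpr hu
  let I := Scheme.IdealSheafData.vanishingIdeal (X := P) ⟨T w pr, hTcl⟩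
  have hr : Set.range I.subschemeι = T w pr := by
    rw [Scheme.IdealSheafData.range_subschemeι]
    simp [I]
  have hsub : Set.range (I.subschemeι ≫ p) ⊆ Set.range W.ι := by
    rintro _ ⟨z, rfl⟩
    rw [Scheme.Opens.range_ι, Scheme.Hom.comp_apply]
    have : I.subschemeι z ∈ T w pr := hr ▸ ⟨z, rfl⟩
    exact hTim.subset ⟨_, this, rfl⟩
  let t : I.subscheme ⟶ W := IsOpenImmersion.lift W.ι (I.subschemeι ≫ p) hsub
  have ht : t ≫ W.ι = I.subschemeι ≫ p := IsOpenImmersion.lift_fac _ _ _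
  refine ⟨hopen, I.subscheme, t, isAffine_of_isAffineHom I.subschemeι, ?_, ?_⟩
  · refine ⟨fun y => ?_⟩
    have h1 : W.ι y ∈ p '' T w pr := by
      rw [hTim]
      exact ι_apply_mem W y
    obtain ⟨z, hz, hzy⟩ := h1
    rw [← hr] at hz
    obtain ⟨z, rfl⟩ := hz
    refine ⟨z, ?_⟩
    apply W.ι.isOpenEmbedding.injective
    rw [← Scheme.Hom.comp_apply, ht, Scheme.Hom.comp_apply, hzy]
  · exact UCW_id_lift W (I.subschemeι ≫ p)
      (UCW.comp (UCW.of_isClosedImmersion _ _) hpW) t ht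

end Groth.Agent.Flat2F.MaxAffine
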