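import Groth.Agent.Flat2F.FibrePow
import Mathlib.AlgebraicGeometry.Morphisms.FlatDescent

/-!
The locus where the fibre integral of a positive weighting is maximal.
-/

set_option autoImplicit false
universe u

namespace Groth.Agent.Flat2F.MaxLocus

open AlgebraicGeometry CategoryTheory Limits FibreIntegral GeomPts ResSplit Split WeightLoc
  FibrePow Topology

variable {X Y : Scheme.{u}}

lemma UCW_of_etale (f : X ⟶ Y) (W : Y.Opens) {N : Scheme.{u}} (g : N ⟶ Y) [Etale g]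
    (hg : (W : Set Y) ⊆ Set.range g) (h : UniversallyClosed (pullback.snd f g)) : UCW W f := by
  intro P' T a b t hc ht
  have hsurj : Surjective (pullback.fst t g) := by
    refine ⟨fun x => ?_⟩
    obtain ⟨n, hn⟩ := hg (ht ⟨x, rfl⟩)
    obtain ⟨z, hz, -⟩ := Scheme.Pullback.exists_preimage_pullback (f := t) (g := g) x n hn.symm
    exact ⟨z, hz⟩
  have : (@Surjective ⊓ @Flat ⊓ @LocallyOfFinitePresentation : MorphismProperty Scheme.{u})
      (pullback.fst t g) := ⟨⟨hsurj, inferInstance⟩, inferInstance⟩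
  refine MorphismProperty.of_pullback_snd_of_descendsAlong (P := @UniversallyClosed) this ?_
  have h1 : IsPullback (pullback.fst b (pullback.fst t g) ≫ a) (pullback.snd b (pullback.fst t g)) f
      (pullback.fst t g ≫ t) := (IsPullback.of_hasPullback b (pullback.fst t g)).paste_horiz hc
  have h2 := IsPullback.of_hasPullback f g
  let m : pullback b (pullback.fst t g) ⟶ pullback f g := h2.lift (pullback.fst b (pullback.fst t g) ≫ a)
    (pullback.snd b (pullback.fst t g) ≫ pullback.snd t g) (by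
      rw [h1.w, Category.assoc, pullback.condition])
  have h3 : IsPullback m (pullback.snd b (pullback.fst t g)) (pullback.snd f g) (pullback.snd t g) := by
    refine IsPullback.of_right ?_ (h2.lift_snd _ _ _) h2
    rw [h2.lift_fst, ← pullback.condition]
    exact h1
  exact MorphismProperty.of_isPullback h3 h

lemma UCW_of_cover (f : X ⟶ Y) (W : Y.Opens) (h : ∀ y ∈ W, ∃ O : Y.Opens, y ∈ O ∧ UCW O f) :
    UCW W f := by
  intro P' T a b t hc ht
  choose O hO hOf using h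
  have h1 : (⨆ x : T, t ⁻¹ᵁ (O (t x) (ht ⟨x, rfl⟩))) = ⊤ := by
    rw [eq_top_iff]
    intro x _
    rw [TopologicalSpace.Opens.mem_iSup]
    exact ⟨x, hO _ _⟩
  refine IsZariskiLocalAtTarget.of_iSup_eq_top _ h1 fun x => ?_
  have h2 := (isPullback_morphismRestrict b (t ⁻¹ᵁ (O (t x) (ht ⟨x, rfl⟩)))).flip.paste_horiz hc
  refine hOf _ (ht ⟨x, rfl⟩) _ _ _ _ _ h2 ?_
  rintro _ ⟨z, rfl⟩
  rw [Scheme.Hom.comp_apply]
  exact ι_apply_mem (t ⁻¹ᵁ (O (t x) (ht ⟨x, rfl⟩))) z

lemma isClosed_of_isFinite (f : X ⟶ Y) [IsSeparated f] (U : X.Opens) [IsFinite (U.ι ≫ f)] :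
    IsClosed (U : Set X) := by
  have : IsFinite U.ι := .of_comp _ f
  simpa using U.ι.isClosedMap.isClosed_range

lemma isFinite_finset_sup {ι : Type*} (f : X ⟶ Y) (U : ι → X.Opens) (hU : ∀ i, IsClosed (U i : Set X))
    (hf : ∀ i, IsFinite ((U i).ι ≫ f)) (s : Finset ι) :
    IsClosed ((s.sup U : X.Opens) : Set X) ∧ IsFinite ((s.sup U).ι ≫ f) := by
  classical
  induction s using Finset.induction_on with
  | empty =>
    rw [Finset.sup_empty]
    refine ⟨isClosed_empty, ?_⟩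
    have : IsEmpty ↥(↑(⊥ : X.Opens) : Scheme.{u}) := ⟨fun x => x.2⟩
    infer_instance
  | insert a s ha ih =>
    rw [Finset.sup_insert]
    have := ih.2
    refine ⟨(hU a).union ih.1, ?_⟩
    exact Groth.Agent.Grpsch.EtLoc.isFinite_sup_of_isClosed f _ _ (hU a) ih.1

/-- Strict lower bound of a fibre integral. -/
theorem mem_of_fibreIntegral_le (f : X ⟶ Y) [LocallyQuasiFinite f] [QuasiCompact f] (w : X → ℤ)
    (hw : ∀ x, 0 < w x) {ι : Type*} [Finite ι]
    (U : ι → X.Opens) [∀ i, IsFinite ((U i).ι ≫ f)] (y : Y)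
    (h2 : ∀ x i j, f x = y → x ∈ U i → x ∈ U j → i = j)
    (h : MoreMor.fibreIntegral f w y ≤
      ∑ᶠ i, MoreMor.fibreIntegral ((U i).ι ≫ f) (fun x => w ((U i).ι x)) y)
    (x : X) (hx : f x = y) : ∃ i, x ∈ U i := by
  by_contra hne
  push Not at hne
  obtain ⟨K, _, _, ω, rfl⟩ := exists_geometric_point Y y
  have h4 : (L f ω ⊤).Finite := finite_L_top f ω
  rw [fibreIntegral_top] at h
  have h3 : ⋃ i, L f ω (U i) ⊆ L f ω ⊤ := Set.iUnion_subset fun i => L_mono f ω le_top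
  have h5 : ∑ᶠ i, MoreMor.fibreIntegral ((U i).ι ≫ f) (fun x => w ((U i).ι x)) (ω (pt K)) =
      ∑ᶠ s ∈ ⋃ i, L f ω (U i), w (s (pt K)) := by
    rw [finsum_mem_iUnion]
    · refine finsum_congr fun i => ?_
      exact (fibreIntegral_ι f (U i) w ω)
    · intro i j hij
      rw [Function.onFun, Set.disjoint_left]
      intro s hs hs'
      exact hij (h2 _ i j (apply_pt_of_mem_L hs) hs.2 hs'.2)
    · intro i
      exact finite_L f (U i) ω
  rw [h5] at h
  have h6 : (⋃ i, L f ω (U i)).Finite := h4.subset h3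
  rw [finsum_mem_eq_finite_toFinset_sum _ h6, finsum_mem_eq_finite_toFinset_sum _ h4] at h
  obtain ⟨s, hs, hsx⟩ := exists_lift f ω x hx
  refine absurd h (not_le.mpr ?_)
  refine Finset.sum_lt_sum_of_subset (Set.Finite.toFinset_mono h3) (i := s) ?_ ?_ (hw _)
    fun j _ _ => (hw _).le
  · rw [Set.Finite.mem_toFinset]
    exact ⟨hs, trivial⟩
  · rw [Set.Finite.mem_toFinset, Set.mem_iUnion]
    rintro ⟨i, hi⟩
    exact hne i (hsx ▸ hi.2)

theorem exists_nhd_of_split (f : X ⟶ Y) [LocallyQuasiFinite f] [LocallyOfFiniteType f]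
    [QuasiCompact f] [IsSeparated f] (w : X → ℤ) (hw : MoreMor.IsWeighting f w)
    (hpos : ∀ x, 0 < w x) (n : ℤ) (hmax : ∀ y, MoreMor.fibreIntegral f w y ≤ n) (y : Y)
    (hy : MoreMor.fibreIntegral f w y = n)
    (hs : ∀ x, f x = y → Split f x) :
    ∃ N : Y.Opens, y ∈ N ∧ (∀ y' ∈ N, MoreMor.fibreIntegral f w y' = n) ∧
      UniversallyClosed (f ∣_ N) := by
  have hfin : (f ⁻¹' {y}).Finite := f.finite_preimage_singleton y
  let ι := f ⁻¹' {y}
  have : Finite ι := hfin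
  choose U hU hUf hUu using fun x : ι => hs x.1 x.2
  have hUcl : ∀ i, IsClosed (U i : Set X) := fun i => isClosed_of_isFinite f (U i)
  have huniq : ∀ (i : ι) (x : X), x ∈ U i → f x = y → x = i.1 := by
    intro i x hx hxy
    have h1 := hUu i
    rw [show f i.1 = y from i.2] at h1
    exact h1.eq hx (hU i) hxy i.2
  have hB : ∀ i j : ι, IsClosed (f '' ((U i : Set X) ∩ (U j : Set X))) := by
    intro i j
    have h1 : f '' ((U i : Set X) ∩ (U j : Set X)) = ((U i).ι ≫ f) '' ((U i).ι ⁻¹' (U j : Set X)) := by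
      ext z
      constructor
      · rintro ⟨x, ⟨hi, hj⟩, rfl⟩
        exact ⟨⟨x, hi⟩, hj, rfl⟩
      · rintro ⟨x, hx, rfl⟩
        exact ⟨(U i).ι x, ⟨ι_apply_mem _ _, hx⟩, rfl⟩
    rw [h1]
    exact ((U i).ι ≫ f).isClosedMap _ ((hUcl j).preimage (U i).ι.continuous)
  have hyB : ∀ i j : ι, i ≠ j → y ∉ f '' ((U i : Set X) ∩ (U j : Set X)) := by
    rintro i j hij ⟨x, ⟨hi, hj⟩, hx⟩
    exact hij (Subtype.ext ((huniq i x hi hx).symm.trans (huniq j x hj hx)))
  have hloc : ∀ i, IsLocallyConstant (MoreMor.fibreIntegral ((U i).ι ≫ f) (fun u => w ((U i).ι u))) :=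
    fun i => isLocallyConstant_of_isPullback (IsPullback.id_horiz f) hw (U i)
  let N₁ : Set Y := ⋂ (i : ι), ⋂ (j : {j : ι // i ≠ j}), (f '' ((U i : Set X) ∩ (U j : Set X)))ᶜ
  have hN₁ : IsOpen N₁ := isOpen_iInter_of_finite fun i => isOpen_iInter_of_finite fun j =>
    (hB i j).isOpen_compl
  let N₂ : Set Y := ⋂ i, {y' | MoreMor.fibreIntegral ((U i).ι ≫ f) (fun u => w ((U i).ι u)) y' =
        MoreMor.fibreIntegral ((U i).ι ≫ f) (fun u => w ((U i).ι u)) y}
  have hN₂ : IsOpen N₂ := isOpen_iInter_of_finite fun i => (hloc i).isOpen_fiber _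
  let N : Y.Opens := ⟨N₁ ∩ N₂, hN₁.inter hN₂⟩
  have hyN : y ∈ N := by
    refine ⟨Set.mem_iInter.mpr fun i => Set.mem_iInter.mpr fun j => hyB i j j.2,
      Set.mem_iInter.mpr fun i => rfl⟩
  have hdisj : ∀ y' ∈ N, ∀ x i j, f x = y' → x ∈ U i → x ∈ U j → i = j := by
    intro y' hy' x i j hx hi hj
    by_contra hij
    have := Set.mem_iInter.mp (Set.mem_iInter.mp hy'.1 i) ⟨j, hij⟩
    exact this ⟨x, ⟨hi, hj⟩, hx⟩
  have hsum : ∀ y' ∈ N, ∑ᶠ i, MoreMor.fibreIntegral ((U i).ι ≫ f) (fun u => w ((U i).ι u)) y' = n := by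
    intro y' hy'
    have h1 := fibreIntegral_eq_sum f w U y (fun x hx => ⟨⟨x, hx⟩, hU _⟩) (hdisj y hyN)
    rw [← hy, h1]
    exact finsum_congr fun i => Set.mem_iInter.mp hy'.2 i
  have hint : ∀ y' ∈ N, MoreMor.fibreIntegral f w y' = n := by
    intro y' hy'
    refine le_antisymm (hmax y') ?_
    rw [← hsum y' hy']
    exact sum_le_fibreIntegral f w (fun x => (hpos x).le) U y' (hdisj y' hy')
  have hcov : ∀ x, f x ∈ N → ∃ i, x ∈ U i := by
    intro x hx
    refine mem_of_fibreIntegral_le f w hpos U (f x) (hdisj _ hx) ?_ x rfl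
    rw [hint _ hx, hsum _ hx]
  refine ⟨N, hyN, hint, ?_⟩
  cases nonempty_fintype ι
  obtain ⟨-, hUfin⟩ := isFinite_finset_sup f U hUcl hUf Finset.univ
  let A : X.Opens := Finset.univ.sup U
  have hA : f ⁻¹ᵁ N ≤ A := by
    intro x hx
    obtain ⟨i, hi⟩ := hcov x hx
    exact (Finset.le_sup (f := U) (Finset.mem_univ i)) hi
  have h1 : UniversallyClosed ((A.ι ≫ f) ∣_ N) := inferInstance
  rw [morphismRestrict_comp] at h1
  have h1' : UniversallyClosed (A.ι ∣_ (f ⁻¹ᵁ N) ≫ f ∣_ N) := h1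
  have h2 : Surjective (A.ι ∣_ (f ⁻¹ᵁ N)) := by
    refine ⟨fun x => ?_⟩
    obtain ⟨x, hx⟩ := x
    refine ⟨⟨⟨x, hA hx⟩, hx⟩, ?_⟩
    apply (f ⁻¹ᵁ N).ι.isOpenEmbedding.injective
    rw [← Scheme.Hom.comp_apply, morphismRestrict_ι]
    rfl
  exact UniversallyClosed.of_comp_surjective (A.ι ∣_ (f ⁻¹ᵁ N)) (f ∣_ N)

/-- The maximal locus is open and the morphism is universally closed over it. -/
theorem isOpen_and_UCW (f : X ⟶ Y) [LocallyQuasiFinite f] [LocallyOfFiniteType f]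
    [QuasiCompact f] [IsSeparated f] (w : X → ℤ) (hw : MoreMor.IsWeighting f w)
    (hpos : ∀ x, 0 < w x) (n : ℤ) (hmax : ∀ y, MoreMor.fibreIntegral f w y ≤ n) :
    ∃ h : IsOpen {y | MoreMor.fibreIntegral f w y = n},
      UCW ⟨{y | MoreMor.fibreIntegral f w y = n}, h⟩ f := by
  have key : ∀ y, MoreMor.fibreIntegral f w y = n → ∃ O : Y.Opens, y ∈ O ∧
      (∀ y' ∈ O, MoreMor.fibreIntegral f w y' = n) ∧ UCW O f := by
    intro y hy
    obtain ⟨V, g, v, hg, hv, H⟩ := exists_splitOver f y (f ⁻¹' {y}) (f.finite_preimage_singleton y)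
      (fun x hx => hx)
    have hc := IsPullback.of_hasPullback f g
    have h2 := fun v' => fibreIntegral_baseChange f (pullback.snd f g) (pullback.fst f g) g hc w v'
    obtain ⟨N, hvN, hN1, hN2⟩ := exists_nhd_of_split (pullback.snd f g)
      (fun x => w (pullback.fst f g x)) (isWeighting_of_isPullback hc hw) (fun x => hpos _) n
      (fun y' => (h2 y').le.trans (hmax _)) v ((h2 v).trans (by rw [hv, hy])) (by
      intro x hx
      refine H x ?_ hx
      change f (pullback.fst f g x) = y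
      rw [← Scheme.Hom.comp_apply, pullback.condition, Scheme.Hom.comp_apply, hx, hv])
    let O : Y.Opens := ⟨g '' N, g.isOpenMap N N.2⟩
    refine ⟨O, ⟨v, hvN, hv⟩, ?_, ?_⟩
    · rintro _ ⟨v', hv', rfl⟩
      rw [← h2]
      exact hN1 v' hv'
    · refine UCW_of_etale f O (N.ι ≫ g) ?_ ?_
      · rintro _ ⟨v', hv', rfl⟩
        exact ⟨⟨v', hv'⟩, rfl⟩
      · have h3 := (isPullback_morphismRestrict (pullback.snd f g) N).flip.paste_horiz hc
        have h4 : IsPullback h3.isoPullback.inv (pullback.snd f (N.ι ≫ g)) (pullback.snd f g ∣_ N) (𝟙 _) :=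
          IsPullback.of_horiz_isIso ⟨by simp⟩
        exact MorphismProperty.of_isPullback h4 hN2
  have hopen : IsOpen {y | MoreMor.fibreIntegral f w y = n} := by
    rw [isOpen_iff_forall_mem_open]
    intro y hy
    obtain ⟨O, hyO, hO, -⟩ := key y hy
    exact ⟨O, hO, O.2, hyO⟩
  refine ⟨hopen, UCW_of_cover f _ fun y hy => ?_⟩
  obtain ⟨O, hyO, -, hO⟩ := key y hy
  exact ⟨O, hyO, hO⟩

end Groth.Agent.Flat2F.MaxLocus
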