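import Mathlib.LinearAlgebra.Matrix.Charpoly.LinearMap
import Mathlib.RingTheory.Finiteness.Basic

/-!
# A form of Nakayama's lemma at a prime
-/

set_option autoImplicit false

namespace Groth.Agent.Flat2F.NakAlg

open Polynomial

/-- If every element of the finite module `M` is multiplied into `p M` by some element off `p`, then some element
off `p` kills `M`. -/
theorem exists_smul_eq_zero {A M : Type*} [CommRing A] [AddCommGroup M] [Module A M] [Module.Finite A M]
    (p : Ideal A) [p.IsPrime] (h : ∀ x : M, ∃ s, s ∉ p ∧ s • x ∈ p • (⊤ : Submodule A M)) :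
    ∃ a, a ∉ p ∧ ∀ x : M, a • x = 0 := by
  classical
  obtain ⟨S, hS⟩ := (Module.finite_def (R := A) (M := M)).1 inferInstance
  choose s hs hs' using h
  have hprod : (∏ x ∈ S, s x) ∉ p := by
    intro hp
    obtain ⟨x, -, hx⟩ := (Ideal.IsPrime.prod_mem_iff).1 hp
    exact hs x hx
  set t := ∏ x ∈ S, s x with ht
  have ht' : ∀ x : M, t • x ∈ p • (⊤ : Submodule A M) := by
    intro x
    have hx : x ∈ Submodule.span A (S : Set M) := hS ▸ Submodule.mem_top
    induction hx using Submodule.span_induction with
    | mem x hx =>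
      obtain ⟨r, hr⟩ := Finset.dvd_prod_of_mem s hx
      rw [ht, hr, mul_comm, mul_smul]
      exact Submodule.smul_mem _ _ (hs' x)
    | zero => rw [smul_zero]; exact Submodule.zero_mem _
    | add x y _ _ hx hy => rw [smul_add]; exact Submodule.add_mem _ hx hy
    | smul a x _ hx => rw [smul_comm]; exact Submodule.smul_mem _ _ hx
  obtain ⟨P, hP, -, hc, h0⟩ := LinearMap.exists_monic_and_natDegree_eq_and_coeff_mem_pow_and_aeval_eq_zero
    (R := A) (M := M) (t • LinearMap.id) p (by
      rintro _ ⟨x, rfl⟩
      exact ht' x)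
  refine ⟨P.eval t, ?_, fun x => ?_⟩
  · intro hmem
    have h1 : P.map (Ideal.Quotient.mk p) = X ^ P.natDegree := by
      ext k
      rw [coeff_map, coeff_X_pow]
      split_ifs with hk
      · rw [hk]
        have := hP.coeff_natDegree
        rw [this, map_one]
      · rcases lt_or_gt_of_ne hk with hk | hk
        · refine Ideal.Quotient.eq_zero_iff_mem.2 (Ideal.pow_le_self ?_ (hc k))
          omega
        · rw [coeff_eq_zero_of_natDegree_lt hk, map_zero]
    have h2 : Ideal.Quotient.mk p (P.eval t) = (Ideal.Quotient.mk p t) ^ P.natDegree := by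
      rw [← eval_map_apply, h1, eval_pow, eval_X]
    rw [Ideal.Quotient.eq_zero_iff_mem.2 hmem] at h2
    exact hprod (Ideal.Quotient.eq_zero_iff_mem.1 (eq_zero_of_pow_eq_zero h2.symm))
  · have h3 : (t • LinearMap.id : M →ₗ[A] M) = algebraMap A (Module.End A M) t := by
      ext; rfl
    rw [h3, aeval_algebraMap_apply_eq_algebraMap_eval] at h0
    exact congr($h0 x)

end Groth.Agent.Flat2F.NakAlg
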