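import Mathlib.RingTheory.AlgebraicIndependent.AlgebraicClosure
import Mathlib.RingTheory.AlgebraicIndependent.TranscendenceBasis
import Mathlib.Algebra.MvPolynomial.Equiv
import Mathlib.RingTheory.Ideal.Over
import Mathlib.Order.Filter.Ultrafilter.Basic
import Mathlib.Order.Filter.AtTopBot.Basic
import Mathlib.RingTheory.FiniteType

/-!
# Perturbing the function defining a map to the affine line (algebraic core of Stacks 0GTF)

The main result is `fib_le_of_forall_fib_le`.  The proof avoids all Noetherian reductions: a
sequence of counterexample primes is replaced by its limit along an ultrafilter.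
-/

set_option autoImplicit false

universe u

namespace Groth.Agent.Flat2F.PowPert

open Polynomial in
/-- Expansion in powers of `γ - X ^ n` is unique for coefficients of degree `< n`. -/
theorem eval_C_sub_X_pow_ne_zero {M : Type*} [CommRing M] [IsDomain M] (P : Polynomial (Polynomial M))
    (hP : P ≠ 0) (n : ℕ) (hn : ∀ j, (P.coeff j).natDegree < n) (γ : M) :
    P.eval (C γ - X ^ n) ≠ 0 := by
  have hn0 : 0 < n := (Nat.zero_le _).trans_lt (hn 0)
  set w : M[X] := C γ - X ^ n with hw
  have hwdeg : w.natDegree = n := by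
    rw [hw, natDegree_sub_eq_right_of_natDegree_lt]
    · simp
    · simpa using hn0
  have hw0 : w ≠ 0 := by
    intro h
    rw [h] at hwdeg
    simp at hwdeg
    omega
  intro h0
  rw [eval_eq_sum_range, Finset.sum_range_succ] at h0
  have hc : P.coeff P.natDegree ≠ 0 := by
    simpa using hP
  have h1 : (P.coeff P.natDegree * w ^ P.natDegree).natDegree =
      (P.coeff P.natDegree).natDegree + P.natDegree * n := by
    rw [natDegree_mul hc (pow_ne_zero _ hw0), natDegree_pow, hwdeg]
  rcases Nat.eq_zero_or_pos P.natDegree with hm | hm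
  · rw [hm] at h0
    simp at h0
    rw [hm] at hc
    exact hc h0
  · have h2 : (∑ i ∈ Finset.range P.natDegree, P.coeff i * w ^ i).natDegree < P.natDegree * n := by
      refine (natDegree_sum_le _ _).trans_lt ?_
      rw [Finset.fold_max_lt]
      refine ⟨Nat.mul_pos hm hn0, fun i hi => ?_⟩
      rw [Finset.mem_range] at hi
      have h3 : (P.coeff i * w ^ i).natDegree ≤ (P.coeff i).natDegree + i * n := by
        refine natDegree_mul_le.trans ?_
        gcongr
        refine natDegree_pow_le.trans ?_
        rw [hwdeg]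
      have h4 : (i + 1) * n ≤ P.natDegree * n := Nat.mul_le_mul_right _ hi
      have h5 := hn i
      simp only [Function.comp]
      nlinarith
    have h6 := congrArg natDegree (eq_neg_of_add_eq_zero_right h0)
    rw [natDegree_neg, h1] at h6
    omega

open MvPolynomial in
theorem aeval_ne_zero_of_totalDegree_lt {K J : Type*} [CommRing K] [IsDomain K]
    (G : MvPolynomial (Option (Option J)) K) (hG : G ≠ 0) (n : ℕ) (hn : G.totalDegree < n) (γ : K) :
    aeval (fun o : Option (Option J) => o.elim (C γ - X none ^ n) X) G ≠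
      (0 : MvPolynomial (Option J) K) := by
  let e2 : MvPolynomial (Option J) K →+* Polynomial (MvPolynomial J K) :=
    (optionEquivLeft K J).toAlgHom.toRingHom
  let e1 : MvPolynomial (Option (Option J)) K →+* Polynomial (MvPolynomial (Option J) K) :=
    (optionEquivLeft K (Option J)).toAlgHom.toRingHom
  have he2 : ∀ x, e2 x = optionEquivLeft K J x := fun _ => rfl
  have he1 : ∀ x, e1 x = optionEquivLeft K (Option J) x := fun _ => rfl
  set P : Polynomial (Polynomial (MvPolynomial J K)) :=
    (optionEquivLeft K (Option J) G).map e2 with hPdef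
  have hP : P ≠ 0 := by
    rw [hPdef, Ne, Polynomial.map_eq_zero_iff]
    · simpa using hG
    · exact (optionEquivLeft K J).injective
  have key : optionEquivLeft K J (aeval (fun o : Option (Option J) => o.elim (C γ - X none ^ n) X) G) =
      P.eval (Polynomial.C (C γ) - Polynomial.X ^ n) := by
    rw [hPdef, Polynomial.eval_map]
    have : e2.comp
        (aeval (fun o : Option (Option J) => o.elim (C γ - X none ^ n) X) :
          MvPolynomial (Option (Option J)) K →ₐ[K] MvPolynomial (Option J) K).toRingHom =
        (Polynomial.eval₂RingHom e2 (Polynomial.C (C γ) - Polynomial.X ^ n)).comp e1 := by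
      apply MvPolynomial.ringHom_ext
      · intro r
        simp [he1, he2]
      · intro i
        rcases i with _ | i
        · simp [he1, he2]
        · simp [he1, he2]
    exact congrArg (fun f => f G) this
  intro h0
  rw [h0, map_zero] at key
  refine eval_C_sub_X_pow_ne_zero P hP n (fun j => ?_) (C γ) key.symm
  rw [hPdef, Polynomial.coeff_map]
  show (optionEquivLeft K J _).natDegree < n
  rw [natDegree_optionEquivLeft]
  refine (degreeOf_le_totalDegree _ _).trans_lt ?_
  by_cases hj : j ≤ G.totalDegree
  · refine lt_of_le_of_lt ?_ hn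
    have := totalDegree_coeff_optionEquivLeft_add_le K (Option J) G j hj
    omega
  · rw [Polynomial.coeff_eq_zero_of_natDegree_lt]
    · simp
      omega
    · rw [natDegree_optionEquivLeft]
      exact (degreeOf_le_totalDegree _ _).trans_lt (not_le.mp hj)

open MvPolynomial in
theorem aeval_option_ne_zero {K L J : Type*} [CommRing K] [IsDomain K] [CommRing L] [IsDomain L]
    [Algebra K L] (x : Option J → L) (hx : AlgebraicIndependent K x) (b : L) (n : ℕ)
    (halg : IsAlgebraic K (x none ^ n + b)) (G : MvPolynomial (Option (Option J)) K) (hG : G ≠ 0)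
    (hn : G.totalDegree < n) : aeval (fun o : Option (Option J) => o.elim b x) G ≠ 0 := by
  let K1 := Subalgebra.algebraicClosure K L
  let γ : K1 := ⟨x none ^ n + b, halg⟩
  have hx1 : AlgebraicIndependent K1 x := hx.subalgebraAlgebraicClosure
  have hinj : Function.Injective (algebraMap K K1) := by
    have := hx.algebraMap_injective
    intro u v huv
    apply this
    exact congrArg Subtype.val huv
  set G1 : MvPolynomial (Option (Option J)) K1 := G.map (algebraMap K K1) with hG1
  have hG1' : G1 ≠ 0 := by
    rw [hG1]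
    intro h
    exact hG (map_injective _ hinj (by rw [h, map_zero]))
  have hdeg : G1.totalDegree < n := 
    lt_of_le_of_lt (Finset.sup_mono (support_map_subset _ _)) hn
  have h1 := aeval_ne_zero_of_totalDegree_lt G1 hG1' n hdeg γ
  intro h0
  apply h1
  apply hx1.eq_zero_of_aeval_eq_zero
  rw [← h0, hG1, aeval_map_algebraMap]
  have : ((aeval x : MvPolynomial (Option J) K1 →ₐ[K1] L).restrictScalars K).comp
      (aeval (fun o : Option (Option J) => o.elim (C γ - X none ^ n) X) :
        MvPolynomial (Option (Option J)) K →ₐ[K] MvPolynomial (Option J) K1) =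
      aeval (fun o : Option (Option J) => o.elim b x) := by
    apply MvPolynomial.algHom_ext
    rintro (_ | i)
    · simp only [AlgHom.comp_apply, aeval_X, AlgHom.restrictScalars_apply]
      simp [γ]
    · simp
  exact congrArg (fun f => f G) this

open MvPolynomial in
theorem aeval_map_mk {R S ι : Type*} [CommRing R] [CommRing S] [Algebra R S] (q : Ideal S)
    (x : ι → S) (F : MvPolynomial ι R) :
    aeval (fun i => Ideal.Quotient.mk q (x i)) (F.map (Ideal.Quotient.mk (q.under R))) =
      Ideal.Quotient.mk q (aeval x F) := by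
  induction F using MvPolynomial.induction_on with
  | C r => simp
  | add f g hf hg => simp only [map_add, hf, hg]
  | mul_X f i hf => simp only [map_mul, hf, map_X, aeval_X]

open MvPolynomial in
/-- Algebraic independence modulo an ideal, in terms of polynomials over the base ring. -/
theorem indep_mod_iff {R S ι : Type*} [CommRing R] [CommRing S] [Algebra R S] (q : Ideal S)
    (x : ι → S) :
    AlgebraicIndependent (R ⧸ q.under R) (fun i => Ideal.Quotient.mk q (x i)) ↔
      ∀ F : MvPolynomial ι R, aeval x F ∈ q → ∀ m, algebraMap R S (F.coeff m) ∈ q := by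
  rw [algebraicIndependent_iff]
  constructor
  · intro H F hF m
    have h1 := H (F.map (Ideal.Quotient.mk (q.under R))) (by
      rw [aeval_map_mk, Ideal.Quotient.eq_zero_iff_mem.mpr hF])
    have h2 := congrArg (coeff m) h1
    rw [coeff_map, coeff_zero, Ideal.Quotient.eq_zero_iff_mem] at h2
    exact h2
  · intro H F' hF'
    obtain ⟨F, rfl⟩ := map_surjective _ Ideal.Quotient.mk_surjective F'
    rw [aeval_map_mk, Ideal.Quotient.eq_zero_iff_mem] at hF'
    ext m
    rw [coeff_map, coeff_zero, Ideal.Quotient.eq_zero_iff_mem]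
    exact H F hF' m

/-- The limit of a family of prime ideals along an ultrafilter. -/
def limPrime {α S : Type*} [CommRing S] (U : Ultrafilter α) (q : α → Ideal S)
    : Ideal S where
  carrier := {f | ∀ᶠ i in U, f ∈ q i}
  add_mem' := by
    intro f g hf hg
    filter_upwards [hf, hg] with i h1 h2 using (q i).add_mem h1 h2
  zero_mem' := Filter.Eventually.of_forall fun i => (q i).zero_mem
  smul_mem' := by
    intro c f hf
    filter_upwards [hf] with i h1 using (q i).mul_mem_left c h1

theorem mem_limPrime {α S : Type*} [CommRing S] (U : Ultrafilter α) (q : α → Ideal S) (f : S) :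
    f ∈ limPrime U q ↔ ∀ᶠ i in U, f ∈ q i := Iff.rfl

theorem notMem_limPrime {α S : Type*} [CommRing S] (U : Ultrafilter α) (q : α → Ideal S) (f : S) :
    f ∉ limPrime U q ↔ ∀ᶠ i in U, f ∉ q i := by
  rw [mem_limPrime, Ultrafilter.eventually_not]

theorem limPrime_isPrime {α S : Type*} [CommRing S] (U : Ultrafilter α) (q : α → Ideal S)
    (hq : ∀ i, (q i).IsPrime) : (limPrime U q).IsPrime where
  ne_top' := by
    rw [Ideal.ne_top_iff_one, notMem_limPrime]
    exact Filter.Eventually.of_forall fun i => (Ideal.ne_top_iff_one _).mp (hq i).ne_top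
  mem_or_mem' := by
    intro f g hfg
    rw [mem_limPrime] at hfg
    by_contra h
    rw [not_or, notMem_limPrime, notMem_limPrime] at h
    obtain ⟨i, h1, h2, h3⟩ := (hfg.and (h.1.and h.2)).exists
    exact ((hq i).mem_or_mem h1).elim h2 h3

theorem indep_limPrime {α R S ι : Type*} [CommRing R] [CommRing S] [Algebra R S]
    (U : Ultrafilter α) (q : α → Ideal S) (x : ι → S)
    (hx : ∀ᶠ i in U, AlgebraicIndependent (R ⧸ (q i).under R) (fun j => Ideal.Quotient.mk (q i) (x j))) :
    AlgebraicIndependent (R ⧸ (limPrime U q).under R)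
      (fun j => Ideal.Quotient.mk (limPrime U q) (x j)) := by
  rw [indep_mod_iff]
  intro F hF m
  rw [mem_limPrime] at hF ⊢
  filter_upwards [hF, hx] with i h1 h2
  exact (indep_mod_iff (R := R) (q i) x).mp h2 F h1 m

open Polynomial Cardinal

theorem isAlgebraic_of_adjoin_singleton {A B D : Type*} [CommRing A] [IsDomain A] [CommRing B] [CommRing D] [IsDomain B]
    [Algebra A B] [Algebra B D] [Algebra A D] [IsScalarTower A B D] [FaithfulSMul B D]
    (β : B) (hβ : Algebra.adjoin A {β} = ⊤) (h : IsAlgebraic A (algebraMap B D β)) :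
    Algebra.IsAlgebraic A B := by
  have hβ' : IsAlgebraic A β := by
    rwa [isAlgebraic_algebraMap_iff (FaithfulSMul.algebraMap_injective B D)] at h
  constructor
  intro x
  have hx : x ∈ Algebra.adjoin A {β} := hβ ▸ Algebra.mem_top
  have : Algebra.adjoin A {β} ≤ Subalgebra.algebraicClosure A B := by
    rw [Algebra.adjoin_le_iff, Set.singleton_subset_iff]
    exact hβ'
  exact this hx

theorem trdeg_facts {A B D : Type u} [CommRing A] [IsDomain A] [CommRing B] [CommRing D]
    [IsDomain B] [IsDomain D]
    [Algebra A B] [Algebra B D] [Algebra A D] [IsScalarTower A B D] [FaithfulSMul A B]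
    [FaithfulSMul B D]
    (β : B) (hβ : Algebra.adjoin A {β} = ⊤) :
    (IsAlgebraic A (algebraMap B D β) → Algebra.trdeg A D = Algebra.trdeg B D) ∧
    (¬ IsAlgebraic A (algebraMap B D β) → Algebra.trdeg A D = 1 + Algebra.trdeg B D) := by
  have key := trdeg_add_eq (R := A) (S := B) (A := D)
  constructor
  · intro h
    have := isAlgebraic_of_adjoin_singleton β hβ h
    rw [← key, trdeg_eq_zero, zero_add]
  · intro h
    have h0 : Algebra.trdeg A B ≠ 0 := by
      intro h0
      rw [trdeg_eq_zero_iff] at h0
      exact h (h0.isAlgebraic β).algebraMap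
    have h1 : Algebra.trdeg A B ≤ 1 := by
      have hh : Algebra.IsAlgebraic (Algebra.adjoin A {β}) B := by
        constructor
        intro x
        have hx : x ∈ Algebra.adjoin A {β} := hβ ▸ Algebra.mem_top
        exact isAlgebraic_algebraMap (R := Algebra.adjoin A {β}) (⟨x, hx⟩ : Algebra.adjoin A {β})
      have := Algebra.IsAlgebraic.trdeg_le_cardinalMk A ({β} : Set B)
      simpa using this
    rw [← key, le_antisymm h1 (Cardinal.one_le_iff_ne_zero.mpr h0)]

theorem exists_indep_finset {A S D : Type u} [CommRing A] [IsDomain A] [CommRing S] [CommRing D]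
    [IsDomain D] [Algebra A D] [FaithfulSMul A D]
    (π : S → D) (T : Finset S) (hT : Algebra.adjoin A (π '' T) = ⊤) (a : S)
    (ha : ¬ IsAlgebraic A (π a)) (d : ℕ) (hd : Algebra.trdeg A D = (d + 1 : ℕ)) :
    ∃ J ∈ T.powerset, J.card = d ∧
      AlgebraicIndependent A (fun o : Option J => π (o.elim a Subtype.val)) := by
  classical
  have hs : AlgebraicIndepOn A id {π a} := by
    have : AlgebraicIndependent A (fun x : ({π a} : Set D) => (x : D)) := by
      rw [algebraicIndependent_unique_type_iff]
      exact ha
    exact this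
  have hts : Algebra.IsAlgebraic (Algebra.adjoin A (insert (π a) (π '' T))) D := by
    constructor
    intro x
    have hx : x ∈ Algebra.adjoin A (insert (π a) (π '' T)) :=
      Algebra.adjoin_mono (Set.subset_insert _ _) (hT ▸ Algebra.mem_top)
    exact isAlgebraic_algebraMap (R := Algebra.adjoin A (insert (π a) (π '' T)))
      (⟨x, hx⟩ : Algebra.adjoin A (insert (π a) (π '' T)))
  obtain ⟨u, hsu, hut, hu⟩ := exists_isTranscendenceBasis_between (R := A) {π a}
    (insert (π a) (π '' T)) (by simp) hs
  have hcard : #u = (d + 1 : ℕ) := by rw [← hd, hu.cardinalMk_eq_trdeg]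
  have hufin : u.Finite := (T.finite_toSet.image π |>.insert (π a)).subset hut
  have hncard : u.ncard = d + 1 := by
    have := Set.cast_ncard hufin
    rw [hcard] at this
    exact_mod_cast this
  have hau : π a ∈ u := hsu rfl
  -- u' = u \ {π a}
  obtain ⟨J, hJT, hJinj, hJim⟩ :=
    (hufin.toFinset.erase (π a)).exists_subset_injOn_image_eq_of_surjOn (T : Set S) (f := π) (by
      intro y hy
      simp only [Finset.coe_erase, Set.Finite.coe_toFinset, Set.mem_sdiff, Set.mem_singleton_iff] at hy
      rcases hut hy.1 with h | h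
      · exact absurd h hy.2
      · exact h)
  refine ⟨J, Finset.mem_powerset.mpr (by exact_mod_cast hJT), ?_, ?_⟩
  · have h1 : (J.image π).card = J.card := Finset.card_image_of_injOn hJinj
    rw [← h1, hJim, Finset.card_erase_of_mem (by simpa using hau), ← Set.ncard_eq_toFinset_card _ hufin,
      hncard]
    rfl
  · have hmem : ∀ o : Option J, π (o.elim a Subtype.val) ∈ u := by
      rintro (_ | j)
      · exact hau
      · have : π j ∈ J.image π := Finset.mem_image_of_mem _ j.2
        rw [hJim] at this
        simp at this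
        exact this.2
    have hcomp : (fun o : Option J => π (o.elim a Subtype.val)) =
        (Subtype.val : u → D) ∘ (fun o => ⟨π (o.elim a Subtype.val), hmem o⟩) := rfl
    rw [hcomp]
    refine hu.1.comp _ ?_
    have hne : ∀ j : J, π j ≠ π a := by
      intro j
      have : π j ∈ J.image π := Finset.mem_image_of_mem _ j.2
      rw [hJim] at this
      simp at this
      exact this.1
    rintro (_ | i) (_ | j) hij
    · rfl
    · exact absurd (congrArg Subtype.val hij).symm (hne j)
    · exact absurd (congrArg Subtype.val hij) (hne i)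
    · have := hJinj i.2 j.2 (congrArg Subtype.val hij)
      exact congrArg some (Subtype.ext this)

/-- For an element `c` of `S`, the transcendence degree of `S ⧸ q` over the image of `R[X]`,
`X ↦ c`. -/
noncomputable def fib (R : Type u) {S : Type u} [CommRing R] [CommRing S] [Algebra R S] (c : S)
    (q : Ideal S) [q.IsPrime] : Cardinal.{u} :=
  letI := (Polynomial.aeval (R := R) c).toRingHom.toAlgebra
  Algebra.trdeg (R[X] ⧸ q.under R[X]) (S ⧸ q)

theorem quot_facts {R S : Type u} [CommRing R] [CommRing S] [Algebra R S] (c : S) (q : Ideal S)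
    [q.IsPrime] :
    (IsAlgebraic (R ⧸ q.under R) (Ideal.Quotient.mk q c) →
      Algebra.trdeg (R ⧸ q.under R) (S ⧸ q) = fib R c q) ∧
    (¬ IsAlgebraic (R ⧸ q.under R) (Ideal.Quotient.mk q c) →
      Algebra.trdeg (R ⧸ q.under R) (S ⧸ q) = 1 + fib R c q) := by
  unfold fib
  let _ := (Polynomial.aeval (R := R) c).toRingHom.toAlgebra
  have hX : algebraMap R[X] S X = c := by
    show Polynomial.aeval c X = c
    simp
  have : IsScalarTower R R[X] S := IsScalarTower.of_algebraMap_eq (fun r =>
    ((Polynomial.aeval c).commutes r).symm)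
  have : IsScalarTower (R ⧸ q.under R) (R[X] ⧸ q.under R[X]) (S ⧸ q) := by
    apply IsScalarTower.of_algebraMap_eq
    intro x
    obtain ⟨x, rfl⟩ := Ideal.Quotient.mk_surjective x
    show Ideal.Quotient.mk q (algebraMap R S x) =
      Ideal.Quotient.mk q (algebraMap R[X] S (algebraMap R R[X] x))
    rw [← IsScalarTower.algebraMap_apply]
  have h := trdeg_facts (A := R ⧸ q.under R) (B := R[X] ⧸ q.under R[X]) (D := S ⧸ q)
    (Ideal.Quotient.mk _ X) (by
      rw [eq_top_iff]
      rintro x -
      obtain ⟨x, rfl⟩ := Ideal.Quotient.mk_surjective x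
      induction x using Polynomial.induction_on with
      | C r => exact Subalgebra.algebraMap_mem _ (Ideal.Quotient.mk _ r)
      | add f g hf hg =>
        rw [map_add]
        exact Subalgebra.add_mem _ hf hg
      | monomial n r hr =>
        rw [pow_succ, ← mul_assoc, map_mul]
        exact Subalgebra.mul_mem _ hr (Algebra.subset_adjoin rfl))
  have hX' : algebraMap (R[X] ⧸ q.under R[X]) (S ⧸ q) (Ideal.Quotient.mk _ X) =
      Ideal.Quotient.mk q c := by
    rw [← hX]
    rfl
  rw [hX'] at h
  exact h

theorem fib_le_of_forall_fib_le {R S : Type u} [CommRing R] [CommRing S] [Algebra R S]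
    [Algebra.FiniteType R S] (d : ℕ) (a b : S)
    (ha : ∀ (q : Ideal S) [q.IsPrime], fib R a q ≤ d) :
    ∃ n₀ : ℕ, ∀ n ≥ n₀, ∀ (q : Ideal S) [q.IsPrime], fib R (a ^ n + b) q ≤ d := by
  classical
  by_contra! H
  choose n hn q hq hbad using H
  obtain ⟨T, hT⟩ := Algebra.FiniteType.out (R := R) (A := S)
  -- basic facts for each bad prime
  have h1 : ∀ i, Algebra.trdeg (R ⧸ (q i).under R) (S ⧸ q i) = (d + 1 : ℕ) ∧
      ¬ IsAlgebraic (R ⧸ (q i).under R) (Ideal.Quotient.mk (q i) a) ∧
      IsAlgebraic (R ⧸ (q i).under R) (Ideal.Quotient.mk (q i) (a ^ n i + b)) := by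
    intro i
    have := hq i
    have e1 := quot_facts (R := R) a (q i)
    have e2 := quot_facts (R := R) (a ^ n i + b) (q i)
    have e3 := ha (q i)
    have e4 := hbad i
    have e5 : ((d + 1 : ℕ) : Cardinal.{u}) ≤ fib R (a ^ n i + b) (q i) := by
      have := Order.succ_le_of_lt e4
      rw [Cardinal.succ_natCast] at this
      exact_mod_cast this
    have e6 : Algebra.trdeg (R ⧸ (q i).under R) (S ⧸ q i) ≤ (d + 1 : ℕ) := by
      by_cases hh : IsAlgebraic (R ⧸ (q i).under R) (Ideal.Quotient.mk (q i) a)
      · rw [e1.1 hh]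
        exact e3.trans (by exact_mod_cast Nat.le_succ d)
      · rw [e1.2 hh, add_comm]
        push_cast
        gcongr
    have e7 : IsAlgebraic (R ⧸ (q i).under R) (Ideal.Quotient.mk (q i) (a ^ n i + b)) := by
      by_contra hh
      rw [e2.2 hh] at e6
      have : (1 : Cardinal.{u}) + (d + 1 : ℕ) ≤ (d + 1 : ℕ) := le_trans (by gcongr) e6
      norm_cast at this
      omega
    have e8 : Algebra.trdeg (R ⧸ (q i).under R) (S ⧸ q i) = (d + 1 : ℕ) :=
      le_antisymm e6 (by rw [e2.1 e7]; exact e5)
    refine ⟨e8, ?_, e7⟩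
    intro hh
    have := e1.1 hh
    rw [e8] at this
    rw [← this] at e3
    norm_cast at e3
    omega
  have h2 : ∀ i, ∃ J ∈ T.powerset, J.card = d ∧
      AlgebraicIndependent (R ⧸ (q i).under R)
        (fun o : Option J => Ideal.Quotient.mk (q i) (o.elim a Subtype.val)) := by
    intro i
    have := hq i
    obtain ⟨g1, g2, g3⟩ := h1 i
    refine exists_indep_finset (A := R ⧸ (q i).under R) (Ideal.Quotient.mk (q i)) T ?_ a g2 d g1
    rw [eq_top_iff]
    rintro x -
    obtain ⟨x, rfl⟩ := Ideal.Quotient.mk_surjective x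
    have hx : x ∈ Algebra.adjoin R (T : Set S) := hT ▸ Algebra.mem_top
    induction hx using Algebra.adjoin_induction with
    | mem x hx => exact Algebra.subset_adjoin ⟨x, hx, rfl⟩
    | algebraMap r => exact Subalgebra.algebraMap_mem _ (Ideal.Quotient.mk _ r)
    | add x y _ _ hx hy =>
      rw [map_add]
      exact Subalgebra.add_mem _ hx hy
    | mul x y _ _ hx hy =>
      rw [map_mul]
      exact Subalgebra.mul_mem _ hx hy
  choose J hJT hJcard hJ using h2
  let U : Ultrafilter ℕ := Filter.hyperfilter ℕ
  obtain ⟨J₀, hJ₀T, hJ₀⟩ : ∃ J₀ ∈ T.powerset, ∀ᶠ i in U, J i = J₀ := by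
    have := (Ultrafilter.eventually_exists_mem_iff (f := U) (is := (T.powerset : Set (Finset S)))
      (P := fun J₀ i => J i = J₀) (Finset.finite_toSet _)).mp
      (Filter.Eventually.of_forall fun i => ⟨J i, hJT i, rfl⟩)
    simpa using this
  -- the limit prime
  let Q : Ideal S := limPrime U q
  have hQ : Q.IsPrime := limPrime_isPrime U q hq
  -- independence of `a, J₀` modulo the limit prime
  have hindU : ∀ᶠ i in U, AlgebraicIndependent (R ⧸ (q i).under R)
      (fun o : Option J₀ => Ideal.Quotient.mk (q i) (o.elim a Subtype.val)) := by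
    filter_upwards [hJ₀] with i hi
    rw [← hi]
    exact hJ i
  have hind : AlgebraicIndependent (R ⧸ Q.under R)
      (fun o : Option J₀ => Ideal.Quotient.mk Q (o.elim a Subtype.val)) :=
    indep_limPrime (R := R) U q (fun o : Option J₀ => o.elim a Subtype.val) hindU
  have hJ₀card : J₀.card = d := by
    obtain ⟨i, hi⟩ := hJ₀.exists
    rw [← hi, hJcard i]
  -- `b, a, J₀` is not independent modulo the limit prime
  have htQ : Algebra.trdeg (R ⧸ Q.under R) (S ⧸ Q) ≤ (d + 1 : ℕ) := by
    have e1 := quot_facts (R := R) a Q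
    have e3 := ha Q
    by_cases hh : IsAlgebraic (R ⧸ Q.under R) (Ideal.Quotient.mk Q a)
    · rw [e1.1 hh]
      exact e3.trans (by exact_mod_cast Nat.le_succ d)
    · rw [e1.2 hh, add_comm]
      push_cast
      gcongr
  have hdep : ¬ AlgebraicIndependent (R ⧸ Q.under R)
      (fun o : Option (Option J₀) => Ideal.Quotient.mk Q
        (o.elim b (fun o' => o'.elim a Subtype.val))) := by
    intro h
    have h3 := h.cardinalMk_le_trdeg.trans htQ
    rw [Cardinal.mk_option, Cardinal.mk_option, Cardinal.mk_coe_finset, hJ₀card] at h3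
    norm_cast at h3
    omega
  rw [indep_mod_iff] at hdep
  push Not at hdep
  obtain ⟨G, hG, m, hm⟩ := hdep
  -- pick a good index
  have hbig : ∀ᶠ i in U, G.totalDegree < n i := by
    have : ∀ᶠ i in (Filter.atTop : Filter ℕ), G.totalDegree < n i := by
      filter_upwards [Filter.eventually_gt_atTop G.totalDegree] with i hi
      exact hi.trans_le (hn i)
    exact Nat.hyperfilter_le_atTop this
  have hG' : ∀ᶠ i in U, MvPolynomial.aeval
      (fun o : Option (Option J₀) => (o.elim b (fun o' => o'.elim a Subtype.val) : S)) G ∈ q i := hG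
  have hm' : ∀ᶠ i in U, algebraMap R S (G.coeff m) ∉ q i := (notMem_limPrime U q _).mp hm
  obtain ⟨i, hi1, hi2, hi3, hi4⟩ := (hbig.and (hG'.and (hm'.and hindU))).exists
  have := hq i
  have hGi : G.map (Ideal.Quotient.mk ((q i).under R)) ≠ 0 := by
    intro h0
    have h5 := congrArg (MvPolynomial.coeff m) h0
    rw [MvPolynomial.coeff_map, MvPolynomial.coeff_zero, Ideal.Quotient.eq_zero_iff_mem] at h5
    exact hi3 h5
  refine aeval_option_ne_zero _ hi4 (Ideal.Quotient.mk (q i) b) (n i) ?_ _ hGi ?_ ?_
  · have := (h1 i).2.2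
    simpa using this
  · exact lt_of_le_of_lt (Finset.sup_mono (MvPolynomial.support_map_subset _ _)) hi1
  · have h6 := aeval_map_mk (R := R) (q i)
      (fun o : Option (Option J₀) => (o.elim b (fun o' => o'.elim a Subtype.val) : S)) G
    rw [Ideal.Quotient.eq_zero_iff_mem.mpr hi2] at h6
    rw [← h6]
    congr 2
    funext o
    rcases o with _ | o <;> rfl

end Groth.Agent.Flat2F.PowPert
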