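import Mathlib.AlgebraicGeometry.QuasiAffine
import Groth.Prelude.Def_MoreMor

/-!
# Quasi-affine and ind-quasi-affine schemes: local criteria

* `isQuasiAffine_of_isOpenImmersion`: a quasi-compact open subscheme of a quasi-affine scheme is quasi-affine.
* `isQuasiAffine_of_exists_basicOpen`: a quasi-compact scheme covered by quasi-affine basic opens `X_r`,
  `r` a global function, is quasi-affine.
* `isIndQuasiAffine_opens_iff`: an open `W` of `X` is ind-quasi-affine iff each quasi-compact open `U ≤ W` of `X`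
  is quasi-affine.
* `isQuasiAffine_of_target_affine_local`: `U` quasi-compact open of `X` mapped by `f` into an affine open `V`; if
  every `y ∈ V` has an open neighbourhood `W` such that the quasi-compact opens of `f⁻¹ W` contained in `U`
  are quasi-affine then `U` is quasi-affine.
-/

set_option autoImplicit false
universe u

namespace Groth.Agent.Flat2F.QAff

open AlgebraicGeometry CategoryTheory Limits TopologicalSpace

/-- A scheme isomorphic to a quasi-affine one is quasi-affine. -/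
theorem isQuasiAffine_of_iso {X Y : Scheme.{u}} (e : X ≅ Y) [Y.IsQuasiAffine] : X.IsQuasiAffine := by
  have : CompactSpace X := QuasiCompact.compactSpace_of_compactSpace e.hom
  exact Scheme.IsQuasiAffine.of_isImmersion e.hom

/-- A quasi-compact open subscheme contained in a quasi-affine open is quasi-affine. -/
theorem isQuasiAffine_of_le {X : Scheme.{u}} {U V : X.Opens} (h : U ≤ V) (hU : IsCompact (U : Set X))
    (hV : Scheme.IsQuasiAffine (V : Scheme.{u})) : Scheme.IsQuasiAffine (U : Scheme.{u}) := by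
  have : CompactSpace (U : Scheme.{u}) := isCompact_iff_compactSpace.1 hU
  exact Scheme.IsQuasiAffine.of_isImmersion (X.homOfLE h)

theorem isOpenImmersion_opens_toSpecΓ {X : Scheme.{u}} (U : X.Opens) (h : Scheme.IsQuasiAffine (U : Scheme.{u})) :
    IsOpenImmersion U.toSpecΓ := by
  rw [Scheme.Opens.toSpecΓ]
  infer_instance

/-- A quasi-compact scheme covered by quasi-affine basic opens of global functions is quasi-affine. -/
theorem isQuasiAffine_of_exists_basicOpen (X : Scheme.{u}) [CompactSpace X]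
    (H : ∀ x : X, ∃ r : Γ(X, ⊤), Scheme.IsQuasiAffine (X.basicOpen r : Scheme.{u}) ∧ x ∈ X.basicOpen r) :
    X.IsQuasiAffine := by
  suffices IsOpenImmersion X.toSpecΓ by constructor
  have : QuasiSeparatedSpace X := by
    choose r hr hxr using H
    refine .of_isOpenCover (U := (X.basicOpen <| r ·))
      (eq_top_iff.mpr fun _ _ ↦ Opens.mem_iSup.mpr ⟨_, hxr _⟩)
      (fun _ ↦ isRetrocompact_basicOpen _) (fun x ↦ ?_)
    have := hr x
    have h2 : (X.basicOpen (r x) : Scheme.{u}).IsSeparated := inferInstance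
    have : QuasiSeparatedSpace (X.basicOpen (r x) : Scheme.{u}) := inferInstance
    exact (isQuasiSeparated_iff_quasiSeparatedSpace _ (X.basicOpen (r x)).2).2 this
  refine IsZariskiLocalAtTarget.of_forall_source_exists_preimage _ fun x ↦ ?_
  obtain ⟨r, hr, hxr⟩ := H x
  refine ⟨PrimeSpectrum.basicOpen r, (X.toSpecΓ_preimage_basicOpen r).ge hxr, ?_⟩
  suffices IsOpenImmersion ((X.basicOpen r).ι ≫ X.toSpecΓ) by
    convert! this <;> rw [Scheme.toSpecΓ_preimage_basicOpen]
  rw [← Scheme.Opens.toSpecΓ_SpecMap_presheaf_map_top]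
  have := isLocalization_basicOpen_of_qcqs isCompact_univ isQuasiSeparated_univ r
  exact MorphismProperty.comp_mem _ _ _ (isOpenImmersion_opens_toSpecΓ _ hr) (.of_isLocalization r)

/-- An open subscheme `W` of `X` is ind-quasi-affine iff every quasi-compact open `U ≤ W` of `X` is quasi-affine. -/
theorem isIndQuasiAffine_opens_iff {X : Scheme.{u}} (W : X.Opens) :
    MoreMor.IsIndQuasiAffine (W : Scheme.{u}) ↔
      ∀ U : X.Opens, U ≤ W → IsCompact (U : Set X) → Scheme.IsQuasiAffine (U : Scheme.{u}) := by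
  refine ⟨fun H U hUW hU => ?_, fun H U hU => ?_⟩
  · have e : ((W.ι ⁻¹ᵁ U : (W : Scheme.{u}).Opens) : Scheme.{u}) ≅ (U : Scheme.{u}) := Scheme.Opens.isoOfLE hUW
    have h2 : IsCompact ((W.ι ⁻¹ᵁ U : (W : Scheme.{u}).Opens) : Set (W : Scheme.{u})) := by
      rw [isCompact_iff_compactSpace]
      have : CompactSpace (U : Scheme.{u}) := isCompact_iff_compactSpace.1 hU
      exact QuasiCompact.compactSpace_of_compactSpace e.hom
    have h3 := H (W.ι ⁻¹ᵁ U) h2
    exact isQuasiAffine_of_iso e.symm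
  · have e : (U : Scheme.{u}) ≅ (W.ι ''ᵁ U : X.Opens) := W.ι.isoImage U
    have h3 := H (W.ι ''ᵁ U) (Scheme.Opens.ι_image_le W U) (hU.image W.ι.continuous)
    exact isQuasiAffine_of_iso e

/-- A morphism is ind-quasi-affine iff every quasi-compact open of the source mapped into an affine open of the
target is quasi-affine. -/
theorem isIndQuasiAffineHom_iff {X Y : Scheme.{u}} (f : X ⟶ Y) :
    MoreMor.IsIndQuasiAffineHom f ↔
      ∀ (V : Y.Opens) (U : X.Opens), IsAffineOpen V → U ≤ f ⁻¹ᵁ V → IsCompact (U : Set X) →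
        Scheme.IsQuasiAffine (U : Scheme.{u}) := by
  refine ⟨fun H V U hV => (isIndQuasiAffine_opens_iff _).1 (H V hV) U, fun H V hV =>
    (isIndQuasiAffine_opens_iff _).2 fun U => H V U hV⟩

/-- Let `U` be a quasi-compact open of `X` covered by the quasi-affine opens `U ∩ X_r` for functions `r` on
some open `W ⊇ U`. Then `U` is quasi-affine. -/
theorem isQuasiAffine_of_exists_inf_basicOpen {X : Scheme.{u}} (U : X.Opens) (hU : IsCompact (U : Set X))
    (H : ∀ x ∈ U, ∃ (W : X.Opens) (_ : U ≤ W) (r : Γ(X, W)), x ∈ X.basicOpen r ∧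
      (IsCompact ((U ⊓ X.basicOpen r : X.Opens) : Set X) →
        Scheme.IsQuasiAffine ((U ⊓ X.basicOpen r : X.Opens) : Scheme.{u}))) :
    Scheme.IsQuasiAffine (U : Scheme.{u}) := by
  have : CompactSpace (U : Scheme.{u}) := isCompact_iff_compactSpace.1 hU
  refine isQuasiAffine_of_exists_basicOpen _ fun x => ?_
  obtain ⟨W, hUW, r, hxr, hr⟩ := H x.1 x.2
  have hle : U ⊓ X.basicOpen r = X.basicOpen (X.presheaf.map (homOfLE hUW).op r) :=
    (X.basicOpen_res r (homOfLE hUW).op).symm
  have hr' : U.ι ''ᵁ ((U : Scheme.{u}).basicOpen (U.topIso.inv (X.presheaf.map (homOfLE hUW).op r))) =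
      U ⊓ X.basicOpen r := by
    rw [Scheme.Opens.ι_image_basicOpen_topIso_inv, hle]
  refine ⟨U.topIso.inv (X.presheaf.map (homOfLE hUW).op r), ?_, ?_⟩
  · have hc : IsCompact ((U ⊓ X.basicOpen r : X.Opens) : Set X) := by
      rw [← hr']
      have h1 : IsCompact (((U : Scheme.{u}).basicOpen
          (U.topIso.inv (X.presheaf.map (homOfLE hUW).op r)) : (U : Scheme.{u}).Opens) : Set (U : Scheme.{u})) := by
        have := isRetrocompact_basicOpen (X := (U : Scheme.{u}))
          (U.topIso.inv (X.presheaf.map (homOfLE hUW).op r))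
        simpa using this isCompact_univ isOpen_univ
      exact h1.image U.ι.continuous
    have h2 := hr hc
    rw [← hr'] at h2
    exact isQuasiAffine_of_iso (U.ι.isoImage _)
  · have h3 : x.1 ∈ U.ι ''ᵁ ((U : Scheme.{u}).basicOpen (U.topIso.inv (X.presheaf.map (homOfLE hUW).op r))) := by
      rw [hr']; exact ⟨x.2, hxr⟩
    obtain ⟨y, hy, hyx⟩ := h3
    have : y = x := Subtype.ext hyx
    rwa [← this]

/-- Let `f : X ⟶ Y`, `V` an affine open of `Y` and `U` a quasi-compact open of `X` contained in `f⁻¹ V`. If every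
point of `V` has a neighbourhood `W` such that all quasi-compact opens of `U ∩ f⁻¹ W` are quasi-affine, then `U` is
quasi-affine. -/
theorem isQuasiAffine_of_affine_target_cover {X Y : Scheme.{u}} (f : X ⟶ Y) {V : Y.Opens} (hV : IsAffineOpen V)
    {U : X.Opens} (hU : IsCompact (U : Set X)) (hUV : U ≤ f ⁻¹ᵁ V)
    (H : ∀ x ∈ U, ∃ W : Y.Opens, f x ∈ W ∧ ∀ U' : X.Opens, U' ≤ U → U' ≤ f ⁻¹ᵁ W → IsCompact (U' : Set X) →
      Scheme.IsQuasiAffine (U' : Scheme.{u})) :
    Scheme.IsQuasiAffine (U : Scheme.{u}) := by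
  refine isQuasiAffine_of_exists_inf_basicOpen U hU fun x hx => ?_
  obtain ⟨W, hxW, hW⟩ := H x hx
  obtain ⟨h, hhW, hxh⟩ := hV.exists_basicOpen_le (V := W) ⟨f x, hxW⟩ (hUV hx)
  refine ⟨f ⁻¹ᵁ V, hUV, f.app V h, ?_, fun hc => ?_⟩
  · rw [← Scheme.preimage_basicOpen]; exact hxh
  · refine hW _ inf_le_left ?_ hc
    rw [← Scheme.preimage_basicOpen]
    exact inf_le_right.trans (f.preimage_mono hhW)

/-- A scheme with a (global) quasi-affine target and quasi-affine quasi-compact opens over the affine opens of the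
target: `V` quasi-affine open of `Y`, `U` quasi-compact open of `X` contained in `f⁻¹ V`; if for every affine open
`W ≤ V` all quasi-compact opens of `U ∩ f⁻¹ W` are quasi-affine, then `U` is quasi-affine. -/
theorem isQuasiAffine_of_quasiAffine_target {X Y : Scheme.{u}} (f : X ⟶ Y) {V : Y.Opens}
    (hV : Scheme.IsQuasiAffine (V : Scheme.{u}))
    {U : X.Opens} (hU : IsCompact (U : Set X)) (hUV : U ≤ f ⁻¹ᵁ V)
    (H : ∀ W : Y.Opens, IsAffineOpen W → W ≤ V → ∀ U' : X.Opens, U' ≤ U → U' ≤ f ⁻¹ᵁ W → IsCompact (U' : Set X) →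
      Scheme.IsQuasiAffine (U' : Scheme.{u})) :
    Scheme.IsQuasiAffine (U : Scheme.{u}) := by
  refine isQuasiAffine_of_exists_inf_basicOpen U hU fun x hx => ?_
  obtain ⟨_, ⟨_, ⟨r, hr, rfl⟩, rfl⟩, hxr, -⟩ := (Scheme.IsQuasiAffine.isBasis_basicOpen
    (V : Scheme.{u})).exists_subset_of_mem_open (Set.mem_univ (⟨f x, hUV hx⟩ : V)) isOpen_univ
  obtain ⟨s, rfl⟩ : ∃ s : Γ(Y, V), V.topIso.inv s = r := ⟨V.topIso.hom r, by
    rw [← CommRingCat.comp_apply, Iso.hom_inv_id, CommRingCat.id_apply]⟩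
  have h1 : V.ι ''ᵁ ((V : Scheme.{u}).basicOpen (V.topIso.inv s)) = Y.basicOpen s :=
    Scheme.Opens.ι_image_basicOpen_topIso_inv _ _
  have h2 : IsAffineOpen (Y.basicOpen s) := by
    rw [← h1]; exact hr.image_of_isOpenImmersion V.ι
  refine ⟨f ⁻¹ᵁ V, hUV, f.app V s, ?_, fun hc => ?_⟩
  · rw [← Scheme.preimage_basicOpen, ← h1]
    exact ⟨_, hxr, rfl⟩
  · refine H _ h2 (Y.basicOpen_le s) _ inf_le_left ?_ hc
    rw [← Scheme.preimage_basicOpen]
    exact inf_le_right

end Groth.Agent.Flat2F.QAff
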