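import Groth.Agent.Flat2F.QAff
import Mathlib.AlgebraicGeometry.Morphisms.FlatDescent

/-!
# fpqc descent of quasi-affineness

* `isPullback_toSpecΓ_of_flat`: for a cartesian square `P = U ×_V T` with `V`, `T` affine, `T → V` flat and `U` qcqs,
  the square `P → Spec Γ(P)`, `U → Spec Γ(U)` is cartesian.
* `isQuasiAffine_of_isPullback_of_flat_surjective`: in that situation, if `T → V` is also surjective and `P` is
  quasi-affine then `U` is quasi-affine.
-/

set_option autoImplicit false
universe u

namespace Groth.Agent.Flat2F.QAffDescent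

open AlgebraicGeometry CategoryTheory Limits TopologicalSpace

/-- Descent of quasi-separatedness along a surjective quasi-compact morphism. -/
theorem quasiSeparatedSpace_of_surjective {P U : Scheme.{u}} (a : P ⟶ U) [QuasiCompact a] [Surjective a]
    [QuasiSeparatedSpace P] : QuasiSeparatedSpace U := by
  refine ⟨fun A B hA hA' hB hB' => ?_⟩
  have h1 : IsCompact (a ⁻¹' A) := QuasiCompact.isCompact_preimage A hA hA'
  have h2 : IsCompact (a ⁻¹' B) := QuasiCompact.isCompact_preimage B hB hB'
  have h3 : IsCompact (a ⁻¹' A ∩ a ⁻¹' B) :=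
    QuasiSeparatedSpace.inter_isCompact _ _ (hA.preimage a.continuous) h1 (hB.preimage a.continuous) h2
  have h4 := h3.image a.continuous
  rwa [← Set.preimage_inter, Set.image_preimage_eq _ a.surjective] at h4

/-- For a cartesian square `P = U ×_V T` with `V`, `T` affine, `T → V` flat and `U` qcqs, both squares
`P → U, Spec Γ(P) → Spec Γ(U)` and `Spec Γ(P) → Spec Γ(U), T → V` are cartesian. -/
theorem isPullback_toSpecΓ_of_flat {P U V T : Scheme.{u}} {a : P ⟶ U} {b : P ⟶ T} {c : U ⟶ V} {d : T ⟶ V}
    (h : IsPullback a b c d) [IsAffine V] [IsAffine T] [Flat d] [CompactSpace U] [QuasiSeparatedSpace U] :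
    IsPullback a P.toSpecΓ U.toSpecΓ (Spec.map a.appTop) ∧
      IsPullback (Spec.map a.appTop) (Spec.map b.appTop) (Spec.map c.appTop) (Spec.map d.appTop) := by
  have h1 := isIso_pushoutSection_of_isQuasiSeparated_of_flat_right h (US := ⊤) (UT := ⊤) (UX := ⊤) (UY := ⊤)
    le_top le_top (by simp) (isAffineOpen_top V) (isAffineOpen_top T) isCompact_univ isQuasiSeparated_univ
  rw [isIso_pushoutSection_iff] at h1
  have h2 : IsPushout c.appTop d.appTop a.appTop b.appTop := by
    have e : ∀ {X Y : Scheme.{u}} (f : X ⟶ Y), f.appLE ⊤ ⊤ le_top = f.appTop := fun f => f.appLE_eq_app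
    rw [e, e, e, e] at h1
    exact h1
  have h3 : IsPullback (Spec.map a.appTop) (Spec.map b.appTop) (Spec.map c.appTop) (Spec.map d.appTop) := by
    have := h2.op.map Scheme.Spec
    exact this.flip
  refine ⟨?_, h3⟩
  have h4 : IsPullback a (P.toSpecΓ ≫ Spec.map b.appTop) (U.toSpecΓ ≫ Spec.map c.appTop) (Spec.map d.appTop) := by
    rw [← Scheme.toSpecΓ_naturality, ← Scheme.toSpecΓ_naturality]
    exact IsPullback.of_iso h (Iso.refl _) (Iso.refl _) (asIso T.toSpecΓ) (asIso V.toSpecΓ) (by simp) (by simp)
      (by simp) (by simp [Scheme.toSpecΓ_naturality])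
  exact IsPullback.of_bot h4 (Scheme.toSpecΓ_naturality a) h3

/-- fpqc descent of quasi-affineness: for a cartesian square `P = U ×_V T` with `V`, `T` affine, `T → V` flat and
surjective and `U` quasi-compact, if `P` is quasi-affine then `U` is quasi-affine. -/
theorem isQuasiAffine_of_isPullback_of_flat_surjective {P U V T : Scheme.{u}} {a : P ⟶ U} {b : P ⟶ T} {c : U ⟶ V}
    {d : T ⟶ V} (h : IsPullback a b c d) [IsAffine V] [IsAffine T] [Flat d] [Surjective d] [CompactSpace U]
    (hP : P.IsQuasiAffine) : U.IsQuasiAffine := by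
  have ha1 : IsAffineHom a := MorphismProperty.of_isPullback h.flip inferInstance
  have ha2 : Surjective a := MorphismProperty.of_isPullback h.flip inferInstance
  have : QuasiSeparatedSpace U := quasiSeparatedSpace_of_surjective a
  obtain ⟨h1, h2⟩ := isPullback_toSpecΓ_of_flat h
  have hd : Flat (Spec.map d.appTop) ∧ Surjective (Spec.map d.appTop) := by
    have e : Spec.map d.appTop = inv T.toSpecΓ ≫ d ≫ V.toSpecΓ := by
      rw [Scheme.toSpecΓ_naturality, IsIso.inv_hom_id_assoc]
    rw [e]
    exact ⟨inferInstance, inferInstance⟩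
  have hd1 := hd.1
  have hd2 := hd.2
  have h3 : Flat (Spec.map a.appTop) := MorphismProperty.of_isPullback h2.flip hd1
  have h4 : Surjective (Spec.map a.appTop) := MorphismProperty.of_isPullback h2.flip hd2
  have h5 : IsOpenImmersion U.toSpecΓ :=
    MorphismProperty.of_isPullback_of_descendsAlong (P := @IsOpenImmersion.{u})
      (Q := @Surjective ⊓ @Flat ⊓ @QuasiCompact) h1.flip ⟨⟨h4, h3⟩, inferInstance⟩ inferInstance
  constructor

end Groth.Agent.Flat2F.QAffDescent
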