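import Groth.Prelude.Def_MoreMor
import Mathlib.AlgebraicGeometry.QuasiAffine
import Mathlib.AlgebraicGeometry.Morphisms.QuasiSeparated

set_option autoImplicit false
universe u

open AlgebraicGeometry CategoryTheory Limits TopologicalSpace

namespace Groth.Agent.Flat2F.QuasiAffine

/-- A quasi-compact scheme covered by quasi-affine basic opens of global sections is quasi-affine. -/
lemma isQuasiAffine_of_basicOpens (X : Scheme.{u}) [CompactSpace X]
    (H : ∀ x : X, ∃ r : Γ(X, ⊤), (X.basicOpen r : Scheme.{u}).IsQuasiAffine ∧ x ∈ X.basicOpen r) :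
    X.IsQuasiAffine := by
  suffices IsOpenImmersion X.toSpecΓ by constructor
  have : QuasiSeparatedSpace X := by
    choose r hr hxr using H
    refine .of_isOpenCover (U := (X.basicOpen <| r ·))
      (eq_top_iff.mpr fun _ _ ↦ Opens.mem_iSup.mpr ⟨_, hxr _⟩)
      (fun _ ↦ isRetrocompact_basicOpen _) (fun x ↦ ?_)
    have := hr x
    exact (isQuasiSeparated_iff_quasiSeparatedSpace _ (X.basicOpen (r x)).2).mpr
      (inferInstanceAs (QuasiSeparatedSpace ((X.basicOpen (r x) : Scheme.{u}))))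
  refine IsZariskiLocalAtTarget.of_forall_source_exists_preimage _ fun x ↦ ?_
  obtain ⟨r, hr, hxr⟩ := H x
  refine ⟨PrimeSpectrum.basicOpen r, (X.toSpecΓ_preimage_basicOpen r).ge hxr, ?_⟩
  suffices IsOpenImmersion ((X.basicOpen r).ι ≫ X.toSpecΓ) by
    convert! this <;> rw [Scheme.toSpecΓ_preimage_basicOpen]
  rw [← Scheme.Opens.toSpecΓ_SpecMap_presheaf_map_top]
  have := isLocalization_basicOpen_of_qcqs isCompact_univ isQuasiSeparated_univ r
  have h1 : IsOpenImmersion (X.basicOpen r).toSpecΓ := by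
    delta Scheme.Opens.toSpecΓ
    infer_instance
  have h2 : IsOpenImmersion (Spec.map (X.presheaf.map (homOfLE (le_top : X.basicOpen r ≤ ⊤)).op)) :=
    .of_isLocalization r
  exact inferInstance

lemma isQuasiAffine_of_iso {X Y : Scheme.{u}} (e : X ≅ Y) (h : Y.IsQuasiAffine) :
    X.IsQuasiAffine := by
  have : CompactSpace X := QuasiCompact.compactSpace_of_compactSpace e.hom
  exact Scheme.IsQuasiAffine.of_isImmersion e.hom

lemma isQuasiAffine_iff_opensRange {W X : Scheme.{u}} (j : W ⟶ X) [IsOpenImmersion j] :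
    W.IsQuasiAffine ↔ (j.opensRange : Scheme.{u}).IsQuasiAffine :=
  ⟨isQuasiAffine_of_iso j.isoOpensRange.symm, isQuasiAffine_of_iso j.isoOpensRange⟩

/-- A quasi-compact open of a quasi-affine open is quasi-affine. -/
lemma opens_of_le {X : Scheme.{u}} {U V : X.Opens} (h : U ≤ V) (hU : IsCompact (U : Set X))
    (hV : (V : Scheme.{u}).IsQuasiAffine) : (U : Scheme.{u}).IsQuasiAffine := by
  have : CompactSpace (U : Scheme.{u}) := isCompact_iff_compactSpace.mp hU
  exact Scheme.IsQuasiAffine.of_isImmersion (X.homOfLE h)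

/-- An open of an open subscheme is quasi-affine iff its image is. -/
lemma opens_image_iff {X : Scheme.{u}} (U : X.Opens) (V : (U : Scheme.{u}).Opens) :
    (V : Scheme.{u}).IsQuasiAffine ↔ ((U.ι ''ᵁ V : X.Opens) : Scheme.{u}).IsQuasiAffine := by
  have : (V.ι ≫ U.ι).opensRange = U.ι ''ᵁ V := by
    rw [Scheme.Hom.opensRange_comp, Scheme.Opens.opensRange_ι]
  rw [isQuasiAffine_iff_opensRange (V.ι ≫ U.ι), this]

lemma isAffineOpen_isQuasiAffine {X : Scheme.{u}} {U : X.Opens} (hU : IsAffineOpen U) :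
    (U : Scheme.{u}).IsQuasiAffine := by
  have : IsAffine (U : Scheme.{u}) := hU
  infer_instance

lemma opens_top_iff {X : Scheme.{u}} :
    ((⊤ : X.Opens) : Scheme.{u}).IsQuasiAffine ↔ X.IsQuasiAffine :=
  ⟨isQuasiAffine_of_iso X.topIso.symm, isQuasiAffine_of_iso X.topIso⟩

/-- Characterisation of ind-quasi-affine schemes via opens. -/
lemma indHom_iff {X Y : Scheme.{u}} (f : X ⟶ Y) :
    MoreMor.IsIndQuasiAffineHom f ↔ ∀ (V : Y.Opens), IsAffineOpen V → ∀ U : X.Opens,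
      U ≤ f ⁻¹ᵁ V → IsCompact (U : Set X) → (U : Scheme.{u}).IsQuasiAffine := by
  constructor
  · intro h V hV U hU hUc
    have hr : (f ⁻¹ᵁ V).ι ''ᵁ ((f ⁻¹ᵁ V).ι ⁻¹ᵁ U) = U := by
      rw [Scheme.Hom.image_preimage_eq_opensRange_inf, Scheme.Opens.opensRange_ι]
      exact inf_eq_right.mpr hU
    have hc : IsCompact (((f ⁻¹ᵁ V).ι ⁻¹ᵁ U : (f ⁻¹ᵁ V : Scheme.{u}).Opens) :
        Set (f ⁻¹ᵁ V : Scheme.{u})) := by
      rw [(f ⁻¹ᵁ V).ι.isEmbedding.isCompact_iff]
      convert hUc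
      exact congrArg (fun W : X.Opens => (W : Set X)) hr
    have := (opens_image_iff _ _).mp (h V hV _ hc)
    rwa [hr] at this
  · intro h V hV U hU
    refine (opens_image_iff _ _).mpr (h V hV _ ?_ ?_)
    · refine (Scheme.Hom.image_le_opensRange _ _).trans ?_
      rw [Scheme.Opens.opensRange_ι]
    · exact hU.image (f ⁻¹ᵁ V).ι.continuous

/-- A quasi-compact open covered by quasi-affine basic opens of sections over it is
quasi-affine. -/
lemma opens_of_basicOpens {X : Scheme.{u}} {U : X.Opens} (hU : IsCompact (U : Set X))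
    (H : ∀ x ∈ U, ∃ r : Γ(X, U), x ∈ X.basicOpen r ∧ (X.basicOpen r : Scheme.{u}).IsQuasiAffine) :
    (U : Scheme.{u}).IsQuasiAffine := by
  have : CompactSpace (U : Scheme.{u}) := isCompact_iff_compactSpace.mp hU
  refine isQuasiAffine_of_basicOpens _ fun x ↦ ?_
  obtain ⟨r, hxr, hr⟩ := H x.1 x.2
  refine ⟨U.topIso.inv r, ?_, ?_⟩
  · rw [opens_image_iff, Scheme.Opens.ι_image_basicOpen_topIso_inv]
    exact hr
  · have : U.ι x ∈ U.ι ''ᵁ U.toScheme.basicOpen (U.topIso.inv r) := by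
      rw [Scheme.Opens.ι_image_basicOpen_topIso_inv]
      exact hxr
    obtain ⟨y, hy, hxy⟩ := this
    rwa [U.ι.isOpenEmbedding.injective hxy] at hy

/-- Locality of quasi-affineness with respect to basic opens of a target. -/
lemma opens_of_basicOpens_target {X Y : Scheme.{u}} (f : X ⟶ Y) {V : Y.Opens} {U : X.Opens}
    (hUV : U ≤ f ⁻¹ᵁ V) (hU : IsCompact (U : Set X))
    (H : ∀ x ∈ U, ∃ r : Γ(Y, V), f x ∈ Y.basicOpen r ∧
      ((U ⊓ f ⁻¹ᵁ Y.basicOpen r : X.Opens) : Scheme.{u}).IsQuasiAffine) :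
    (U : Scheme.{u}).IsQuasiAffine := by
  refine opens_of_basicOpens hU fun x hx ↦ ?_
  obtain ⟨r, hxr, hr⟩ := H x hx
  refine ⟨f.appLE V U hUV r, ?_, ?_⟩
  · rw [Scheme.basicOpen_appLE]
    exact ⟨hx, hxr⟩
  · rwa [Scheme.basicOpen_appLE]

lemma isCompact_inf_basicOpen {X Y : Scheme.{u}} (f : X ⟶ Y) {V : Y.Opens} {U : X.Opens}
    (hUV : U ≤ f ⁻¹ᵁ V) (hU : IsCompact (U : Set X)) (r : Γ(Y, V)) :
    IsCompact ((U ⊓ f ⁻¹ᵁ Y.basicOpen r : X.Opens) : Set X) := by
  rw [← Scheme.basicOpen_appLE f U V hUV]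
  exact isCompact_basicOpen _ hU _

/-- Ind-quasi-affineness can be checked with a basis-like family of affine opens of the target. -/
lemma indHom_of_local {X Y : Scheme.{u}} (f : X ⟶ Y)
    (H : ∀ y : Y, ∃ W : Y.Opens, y ∈ W ∧ ∀ V : Y.Opens, IsAffineOpen V → V ≤ W →
      ∀ U : X.Opens, U ≤ f ⁻¹ᵁ V → IsCompact (U : Set X) → (U : Scheme.{u}).IsQuasiAffine) :
    MoreMor.IsIndQuasiAffineHom f := by
  rw [indHom_iff]
  intro V hV U hUV hU
  refine opens_of_basicOpens_target f hUV hU fun x hx ↦ ?_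
  obtain ⟨W, hxW, hW⟩ := H (f x)
  obtain ⟨r, hrW, hxr⟩ := hV.exists_basicOpen_le (V := W) ⟨f x, hxW⟩ (hUV hx)
  exact ⟨r, hxr, hW _ (hV.basicOpen r) hrW _ inf_le_right (isCompact_inf_basicOpen f hUV hU r)⟩

/-- A compact subset of an open is contained in a compact open. -/
lemma exists_compact_opens_between {X : Scheme.{u}} {K : Set X} (hK : IsCompact K) {U : X.Opens}
    (hKU : K ⊆ (U : Set X)) :
    ∃ V : X.Opens, IsCompact (V : Set X) ∧ K ⊆ (V : Set X) ∧ V ≤ U := by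
  obtain ⟨V, hVc, hVo, h1, h2⟩ := PrespectralSpace.exists_isCompact_and_isOpen_between
    hK U.isOpen hKU
  exact ⟨⟨V, hVo⟩, hVc, h1, h2⟩

/-- Every point of a quasi-affine open has an affine neighbourhood of the form `D(r)` with `r` a
section over that open. -/
lemma exists_affine_basicOpen {Y : Scheme.{u}} {V : Y.Opens}
    (hV : (V : Scheme.{u}).IsQuasiAffine) {y : Y} (hy : y ∈ V) :
    ∃ r : Γ(Y, V), y ∈ Y.basicOpen r ∧ IsAffineOpen (Y.basicOpen r) := by
  obtain ⟨_, ⟨_, ⟨r, hr, rfl⟩, rfl⟩, hxr, -⟩ :=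
    (Scheme.IsQuasiAffine.isBasis_basicOpen (V : Scheme.{u})).exists_subset_of_mem_open
      (Set.mem_univ (⟨y, hy⟩ : V)) isOpen_univ
  have key : Y.basicOpen (V.topIso.hom r) = V.ι ''ᵁ (Scheme.basicOpen _ r) := by
    rw [← Scheme.Opens.ι_image_basicOpen_topIso_inv, Iso.hom_inv_id_apply]
  refine ⟨V.topIso.hom r, ?_, ?_⟩
  · rw [key]
    exact ⟨_, hxr, rfl⟩
  · rw [key]
    exact hr.image_of_isOpenImmersion _

end Groth.Agent.Flat2F.QuasiAffine
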