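import Groth.Agent.CohqA.DevSub
import Groth.Agent.CohqA.AffineBaseChange
import Groth.Agent.CohqA.Acyc
import Groth.Agent.CohqA.ModSec
import Groth.Prelude.Def_Formal

/-!
# The ideal of the closed fibre in terms of the base ideal

For a cartesian square with `Z ⟶ X` the base change of `Spec B ⟶ Spec A`, `A ⟶ B` surjective with kernel `I`,
the kernel of `O_X ⟶ i_* O_Z` is generated by the images of multiplication by the elements of `I`.
-/

set_option autoImplicit false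
universe u

open CategoryTheory CategoryTheory.Limits AlgebraicGeometry Opposite TopologicalSpace

namespace Groth.Agent.Flat2F.R1NakA

section

variable {A B : CommRingCat.{u}} (φ : A ⟶ B) {X Z : Scheme.{u}}

/-- The ring map `A ⟶ Γ(X, V)`. -/
noncomputable def toSec {A : CommRingCat.{u}} {X : Scheme.{u}} (π : X ⟶ Spec A) (V : X.Opens) : A →+* Γ(X, V) :=
  (π.appLE ⊤ V le_top).hom.comp (Scheme.ΓSpecIso A).inv.hom

theorem mem_map_of_app_eq_zero (hφ : Function.Surjective φ.hom) {i : Z ⟶ X} {j : Z ⟶ Spec B} {π : X ⟶ Spec A}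
    (h : IsPullback i j π (Spec.map φ)) {V : X.Opens} (hV : IsAffineOpen V) (r : Γ(X, V))
    (hr : i.app V r = 0) : r ∈ Ideal.map (toSec π V) (RingHom.ker φ.hom) := by
  have hp := CohqA.AffineBaseChange.isPushout_appLE h.flip (V := ⊤) (V' := V) (isAffineOpen_top _) hV le_top
  set I : Ideal Γ(X, V) := Ideal.map (toSec π V) (RingHom.ker φ.hom) with hI
  let ψ : A →+* (Γ(X, V) ⧸ I) := (Ideal.Quotient.mk I).comp (toSec π V)
  have hψ : RingHom.ker φ.hom ≤ RingHom.ker ψ := by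
    intro a ha
    rw [RingHom.mem_ker]
    exact Ideal.Quotient.eq_zero_iff_mem.2 (Ideal.mem_map_of_mem _ ha)
  let χ : B →+* (Γ(X, V) ⧸ I) := RingHom.liftOfSurjective φ.hom hφ ⟨ψ, hψ⟩
  have hχ : ∀ a, χ (φ a) = ψ a := fun a => RingHom.liftOfRightInverse_comp_apply _ _ _ ⟨ψ, hψ⟩ a
  have hnat : (Scheme.ΓSpecIso A).inv ≫ (Spec.map φ).appTop = φ ≫ (Scheme.ΓSpecIso B).inv := by
    rw [← Scheme.ΓSpecIso_inv_naturality]
  have hw : π.appLE ⊤ V le_top ≫ CommRingCat.ofHom (Ideal.Quotient.mk I) =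
      (Spec.map φ).appLE ⊤ ((Spec.map φ) ⁻¹ᵁ ⊤) le_rfl ≫ (Scheme.ΓSpecIso B).hom ≫ CommRingCat.ofHom χ := by
    rw [← cancel_epi (Scheme.ΓSpecIso A).inv]
    ext a
    have e1 : (Spec.map φ).appLE ⊤ ((Spec.map φ) ⁻¹ᵁ ⊤) le_rfl = (Spec.map φ).appTop := by
      rw [Scheme.Hom.appLE_eq_app]
    have e2 : ((Scheme.ΓSpecIso B).hom ((Spec.map φ).appTop ((Scheme.ΓSpecIso A).inv a))) = φ a := by
      have := congr($hnat a)
      simp only [CommRingCat.comp_apply] at this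
      rw [this]
      simp
    have e3 : ((Scheme.ΓSpecIso A).inv ≫ (Spec.map φ).appLE ⊤ ((Spec.map φ) ⁻¹ᵁ ⊤) le_rfl ≫
      (Scheme.ΓSpecIso B).hom ≫ CommRingCat.ofHom χ) a = χ (φ a) := by
      rw [e1, ← e2]; rfl
    rw [e3, hχ]
    rfl
  have h1 := hp.inl_desc (CommRingCat.ofHom (Ideal.Quotient.mk I)) ((Scheme.ΓSpecIso B).hom ≫ CommRingCat.ofHom χ) hw
  have h2 : Ideal.Quotient.mk I r = 0 := by
    have h3 := congr($h1 r)
    have h4 : i.appLE V (i ⁻¹ᵁ V) le_rfl r = 0 := by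
      rw [Scheme.Hom.appLE_eq_app]; exact hr
    have h5 : (i.appLE V (i ⁻¹ᵁ V) le_rfl ≫ hp.desc (CommRingCat.ofHom (Ideal.Quotient.mk I))
      ((Scheme.ΓSpecIso B).hom ≫ CommRingCat.ofHom χ) hw) r = 0 := by
      rw [CommRingCat.comp_apply, h4, map_zero]
    exact h3.symm.trans h5
  exact Ideal.Quotient.eq_zero_iff_mem.1 h2

end

section

variable (A : Type u) [CommRing A] {B : Type u} [CommRing B] (φ : A →+* B) {X Z : Scheme.{u}}
  [X.Over (Spec (CommRingCat.of A))]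

theorem smulMod_app (a : A) {V : X.Opens} (r : Γ(X, V)) :
    (Formal.smulMod A (Coh.structureModule X) a).app V r =
      (toSec (X ↘ Spec (CommRingCat.of A)) V a * r : Γ(X, V)) := rfl

variable {A} {i : Z ⟶ X} {j : Z ⟶ Spec (CommRingCat.of B)}

theorem app_toSec (hw : i ≫ (X ↘ Spec (CommRingCat.of A)) = j ≫ Spec.map (CommRingCat.ofHom φ)) (a : A)
    (ha : φ a = 0) (V : X.Opens) : i.app V (toSec (X ↘ Spec (CommRingCat.of A)) V a) = 0 := by
  have e1 := Scheme.Hom.appLE_comp_appLE i (X ↘ Spec (CommRingCat.of A)) ⊤ V (i ⁻¹ᵁ V) le_top le_rfl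
  have e2 := Scheme.Hom.appLE_comp_appLE j (Spec.map (CommRingCat.ofHom φ)) ⊤ ⊤ (i ⁻¹ᵁ V) le_top le_top
  have h1 : (X ↘ Spec (CommRingCat.of A)).appLE ⊤ V le_top ≫ i.appLE V (i ⁻¹ᵁ V) le_rfl =
      (Spec.map (CommRingCat.ofHom φ)).appLE ⊤ ⊤ le_top ≫ j.appLE ⊤ (i ⁻¹ᵁ V) le_top := by
    refine e1.trans (Eq.trans ?_ e2.symm)
    congr 1
  have h2 : i.app V (toSec (X ↘ Spec (CommRingCat.of A)) V a) =
      ((X ↘ Spec (CommRingCat.of A)).appLE ⊤ V le_top ≫ i.appLE V (i ⁻¹ᵁ V) le_rfl)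
        ((Scheme.ΓSpecIso (CommRingCat.of A)).inv a) := by
    rw [Scheme.Hom.appLE_eq_app i]
    rfl
  have h3 : (Spec.map (CommRingCat.ofHom φ)).appLE ⊤ ⊤ le_top ((Scheme.ΓSpecIso (CommRingCat.of A)).inv a) = 0 := by
    have hnat : (Scheme.ΓSpecIso (CommRingCat.of A)).inv ≫ (Spec.map (CommRingCat.ofHom φ)).appLE ⊤ ⊤ le_top =
        CommRingCat.ofHom φ ≫ (Scheme.ΓSpecIso (CommRingCat.of B)).inv := by
      rw [Scheme.ΓSpecIso_inv_naturality]
      congr 1
    have := congr($hnat a)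
    refine this.trans ?_
    have e4 : (CommRingCat.ofHom φ ≫ (Scheme.ΓSpecIso (CommRingCat.of B)).inv) a =
      (Scheme.ΓSpecIso (CommRingCat.of B)).inv (φ a) := rfl
    rw [e4, ha, map_zero]
  rw [h2, h1, CommRingCat.comp_apply, h3, map_zero]

open Groth.Agent.CohqA.DevSub in
theorem smulMod_toPush (hw : i ≫ (X ↘ Spec (CommRingCat.of A)) = j ≫ Spec.map (CommRingCat.ofHom φ)) (a : A)
    (ha : φ a = 0) : Formal.smulMod A (Coh.structureModule X) a ≫ toPush i = 0 := by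
  rw [eq_zero_iff]
  intro V (s : Γ(X, V))
  have e : (Formal.smulMod A (Coh.structureModule X) a ≫ toPush i).app V s =
      i.app V (toSec (X ↘ Spec (CommRingCat.of A)) V a * s) := rfl
  rw [e, map_mul, app_toSec φ hw a ha V, zero_mul]
  rfl

/-- Multiplication by `a ∈ ker φ` as a map `O_X ⟶ ker (O_X ⟶ i_* O_Z)`. -/
noncomputable def mulKer (hw : i ≫ (X ↘ Spec (CommRingCat.of A)) = j ≫ Spec.map (CommRingCat.ofHom φ))
    (a : RingHom.ker φ) : Coh.structureModule X ⟶ kernel (CohqA.DevSub.toPush i) :=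
  kernel.lift _ (Formal.smulMod A (Coh.structureModule X) (a : A)) (smulMod_toPush φ hw _ a.2)

theorem mulKer_ι (hw : i ≫ (X ↘ Spec (CommRingCat.of A)) = j ≫ Spec.map (CommRingCat.ofHom φ))
    (a : RingHom.ker φ) : mulKer φ hw a ≫ kernel.ι (CohqA.DevSub.toPush i) =
      Formal.smulMod A (Coh.structureModule X) (a : A) := kernel.lift_ι _ _ _

open Groth.Agent.CohqA.DevSub in
/-- The kernel of `O_X ⟶ i_* O_Z` is generated by the kernel of `φ`. -/
theorem epi_desc_mulKer (hφ : Function.Surjective φ)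
    (h : IsPullback i j (X ↘ Spec (CommRingCat.of A)) (Spec.map (CommRingCat.ofHom φ))) :
    Epi (Sigma.desc (mulKer φ h.w)) := by
  refine CohqA.Acyc.epi_of_surjective_affine _ fun V hV s => ?_
  have hinj : Function.Injective ((kernel.ι (toPush i)).app V) := (CohqA.ModSec.mono_iff_injective _).1 inferInstance V
  have hs : i.app V ((kernel.ι (toPush i)).app V s : Γ(X, V)) = 0 := by
    have h0 : (kernel.ι (toPush i) ≫ toPush i).app V s = 0 := by
      rw [kernel.condition]; rfl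
    exact h0
  have hm := mem_map_of_app_eq_zero (CommRingCat.ofHom φ) hφ h hV _ hs
  have key : ∀ t : Γ(X, V), t ∈ Ideal.map (toSec (X ↘ Spec (CommRingCat.of A)) V) (RingHom.ker φ) →
      ∃ z, (Sigma.desc (mulKer φ h.w) ≫ kernel.ι (toPush i)).app V z = t := by
    intro t ht
    refine Submodule.span_induction ?_ ?_ ?_ ?_ ht
    · rintro _ ⟨a, ha, rfl⟩
      refine ⟨(Sigma.ι (fun _ : RingHom.ker φ => Coh.structureModule X) ⟨a, ha⟩).app V (1 : Γ(X, V)), ?_⟩
      have e1 : Sigma.ι (fun _ : RingHom.ker φ => Coh.structureModule X) ⟨a, ha⟩ ≫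
          (Sigma.desc (mulKer φ h.w) ≫ kernel.ι (toPush i)) = Formal.smulMod A (Coh.structureModule X) a := by
        rw [← Category.assoc, Sigma.ι_desc, mulKer_ι]
      have e2 := congr(($e1).app V (1 : Γ(X, V)))
      refine e2.trans ?_
      exact mul_one (toSec (X ↘ Spec (CommRingCat.of A)) V a)
    · exact ⟨0, map_zero _⟩
    · rintro x y - - ⟨z, hz⟩ ⟨w, hw⟩
      exact ⟨z + w, by rw [map_add, hz, hw]; rfl⟩
    · rintro r x - ⟨z, hz⟩
      refine ⟨r • z, ?_⟩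
      rw [Scheme.Modules.Hom.app_smul, hz]
      rfl
  obtain ⟨z, hz⟩ := key _ hm
  exact ⟨z, hinj hz⟩

end

end Groth.Agent.Flat2F.R1NakA
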