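import Groth.Agent.Flat2F.R1NakA
import Groth.Agent.Flat2F.NakAlg
import Groth.Agent.FormalB.PrincLin
import Groth.Agent.VarietyA.StalkCrit
import Groth.Agent.VarietyB.HHPush
import Groth.Agent.Fga.UnitRestrict
import Groth.Agent.CohqA.DirectSum
import Groth.Agent.S0034

/-!
# Vanishing of `H^1` near a fibre with vanishing `H^1`: the Nakayama step
-/

set_option autoImplicit false
universe u

open CategoryTheory CategoryTheory.Limits AlgebraicGeometry Opposite TopologicalSpace

namespace Groth.Agent.Flat2F.R1NakB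

open Groth.Agent.CohqB.HSeqMod Groth.Agent.FormalB.PrincLin Groth.Agent.Flat2F.R1NakA
open Groth.Agent.CohqA.DevSub (toPush)

/-- The finite sum property of `H^1` which follows from the vanishing of `H^2` on quasi-coherent modules. -/
def SumProp (X : Scheme.{u}) : Prop :=
  ∀ {ι : Type u} {F : ι → X.Modules} (_ : ∀ i, Coh.IsQCoh (F i)) {G : X.Modules} (_ : Coh.IsQCoh G)
    (e : ∀ i, F i ⟶ G) (_ : Epi (Sigma.desc e)) (x : Coh.HH X G 1),
    ∃ (s : Finset ι) (y : ∀ i, Coh.HH X (F i) 1), x = ∑ i ∈ s, hmap (e i) 1 (y i)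

section

variable {A B : Type u} [CommRing A] [CommRing B] (φ : A →+* B) {X Z : Scheme.{u}}
  [X.Over (Spec (CommRingCat.of A))] {i : Z ⟶ X} {j : Z ⟶ Spec (CommRingCat.of B)}

theorem epi_toPush (i : Z ⟶ X) [IsClosedImmersion i] : Epi (toPush i) :=
  CohqA.Acyc.epi_of_surjective_affine _ fun V hV => i.app_surjective V hV

/-- The kernel of `H^1(X, O_X) ⟶ H^1(X, i_* O_Z)`. -/
theorem mem_smul_of_hmap_eq_zero (hX : SumProp X) (hφ : Function.Surjective φ) [IsClosedImmersion i]
    (h : IsPullback i j (X ↘ Spec (CommRingCat.of A)) (Spec.map (CommRingCat.ofHom φ)))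
    (x : Coh.HH X (Coh.structureModule X) 1) (hx : hmap (toPush i) 1 x = 0) :
    x ∈ RingHom.ker φ • (⊤ : Submodule A (Coh.HH X (Coh.structureModule X) 1)) := by
  have hq : Coh.IsQCoh (Coh.structureModule X) := PerfA.QCohSerre.isQCoh_unit X
  have hZ : Coh.IsQCoh (Coh.structureModule Z) := PerfA.QCohSerre.isQCoh_unit Z
  have hp : Coh.IsQCoh ((Scheme.Modules.pushforward i).obj (Coh.structureModule Z)) :=
    Groth.Agent.Ega1.QcqsPush.isQCoh_pushforward i _ hZ
  have := epi_toPush i
  obtain ⟨y, hy⟩ := exact₂ (VarietyA.StalkCrit.shortExact_kernel (toPush i)) 1 x hx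
  obtain ⟨s, z, hz⟩ := hX (F := fun _ : RingHom.ker φ => Coh.structureModule X) (fun _ => hq)
    (PerfA.QCohSerre.isQCoh_kernel (toPush i) hq hp) (mulKer φ h.w) (epi_desc_mulKer φ hφ h) y
  rw [← hy, hz, map_sum]
  refine Submodule.sum_mem _ fun a _ => ?_
  have e : hmap (kernel.ι (toPush i)) 1 (hmap (mulKer φ h.w a) 1 (z a)) = (a : A) • z a := by
    rw [← hmap_comp_apply, mulKer_ι, hmap_smulMod]
  exact e ▸ Submodule.smul_mem_smul a.2 Submodule.mem_top

end

section Fibre

variable {A : Type u} [CommRing A] {X : Scheme.{u}} (f : X ⟶ Spec (CommRingCat.of A))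

/-- The prime ideal of `A` attached to a point of `Spec A`. -/
abbrev idl (y : Spec (CommRingCat.of A)) : Ideal A := y.asIdeal

instance isPrime_idl (y : Spec (CommRingCat.of A)) : (idl y).IsPrime := y.2

theorem isPullback_fiber (y : Spec (CommRingCat.of A)) :
    IsPullback (f.fiberι y) (f.fiberToSpecResidueField y ≫ Spec.map (Scheme.Spec.residueFieldIso _ y).inv) f
      (Spec.map (CommRingCat.ofHom (algebraMap A (idl y).ResidueField))) := by
  have h : IsPullback (f.fiberι y) (f.fiberToSpecResidueField y) f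
      ((Spec (CommRingCat.of A)).fromSpecResidueField y) := IsPullback.of_hasPullback _ _
  refine h.of_iso (Iso.refl _) (Iso.refl _) (asIso (Spec.map (Scheme.Spec.residueFieldIso _ y).inv))
    (Iso.refl _) ?_ ?_ ?_ ?_
  · simp
  · simp
  · simp
  · simpa using (Scheme.Spec.map_residueFieldIso_inv_eq_fromSpecResidueField _ y).symm

/-- `Spec κ(p) ⟶ Spec A ⧸ p ⟶ Spec A`. -/
theorem map_comp_map (y : Spec (CommRingCat.of A)) :
    Spec.map (CommRingCat.ofHom (algebraMap (A ⧸ idl y) (idl y).ResidueField)) ≫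
      Spec.map (CommRingCat.ofHom (Ideal.Quotient.mk (idl y))) =
    Spec.map (CommRingCat.ofHom (algebraMap A (idl y).ResidueField)) := by
  rw [← Spec.map_comp]
  rfl

end Fibre

section Tensor

/-- If `M` becomes zero over the fraction field then every element is torsion. -/
theorem exists_smul_eq_zero_of_tensor {R K M : Type u} [CommRing R] [IsDomain R] [Field K] [Algebra R K]
    [IsFractionRing R K] [AddCommGroup M] [Module R M] (h : Subsingleton (TensorProduct R K M)) (x : M) :
    ∃ s : R, s ≠ 0 ∧ s • x = 0 := by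
  have h1 : IsLocalizedModule (nonZeroDivisors R) (TensorProduct.mk R K M 1) :=
    (isLocalizedModule_iff_isBaseChange (nonZeroDivisors R) K _).2 (TensorProduct.isBaseChange R M K)
  obtain ⟨s, hs⟩ := (IsLocalizedModule.eq_zero_iff (nonZeroDivisors R) (TensorProduct.mk R K M 1) (m := x)).1
    (Subsingleton.elim _ _)
  exact ⟨s, nonZeroDivisors.ne_zero s.2, hs⟩

end Tensor

section Over

/-- Global functions coming from the base, for a commutative square over `A ⟶ B`. -/
theorem toGlobal_comp {A B : Type u} [CommRing A] [CommRing B] (φ : A →+* B) {Z : Scheme.{u}}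
    (j : Z ⟶ Spec (CommRingCat.of B)) (a : A) :
    Coh.toGlobal (j ≫ Spec.map (CommRingCat.ofHom φ)) a = Coh.toGlobal j (φ a) := by
  have h1 : (j ≫ Spec.map (CommRingCat.ofHom φ)).appTop =
      (Spec.map (CommRingCat.ofHom φ)).appTop ≫ j.appTop := Scheme.Hom.comp_appTop _ _
  have h2 : (Scheme.ΓSpecIso (CommRingCat.of A)).inv ≫ (Spec.map (CommRingCat.ofHom φ)).appTop =
      CommRingCat.ofHom φ ≫ (Scheme.ΓSpecIso (CommRingCat.of B)).inv := by
    rw [Scheme.ΓSpecIso_inv_naturality]
  have h3 : Coh.toGlobal (j ≫ Spec.map (CommRingCat.ofHom φ)) a =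
      ((Scheme.ΓSpecIso (CommRingCat.of A)).inv ≫ (j ≫ Spec.map (CommRingCat.ofHom φ)).appTop) a := rfl
  rw [h3, h1, reassoc_of% h2]
  rfl

end Over

/-- The Nakayama step: `H^1(X, O_X)` is killed by an element off `y` when it is finite and `H^1` of the fibre at `y`
vanishes. -/
theorem exists_smul_eq_zero_of_sumProp (A : Type u) [CommRing A] (X : Scheme.{u}) [X.Over (Spec (CommRingCat.of A))]
    [IsProper (X ↘ Spec (CommRingCat.of A))] (hX : SumProp X)
    (hfin : Module.Finite A (Coh.HH X (Coh.structureModule X) 1)) (y : Spec (CommRingCat.of A))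
    (hH1 : Subsingleton (Coh.HH ((X ↘ Spec (CommRingCat.of A)).fiber y)
      (Coh.structureModule ((X ↘ Spec (CommRingCat.of A)).fiber y)) 1)) :
    ∃ a : A, a ∉ y.asIdeal ∧ ∀ x : Coh.HH X (Coh.structureModule X) 1, a • x = 0 := by
  have hZ : IsPullback (pullback.fst (X ↘ Spec (CommRingCat.of A)) (Spec.map (CommRingCat.ofHom
      (Ideal.Quotient.mk (idl y))))) (pullback.snd _ _) (X ↘ Spec (CommRingCat.of A))
      (Spec.map (CommRingCat.ofHom (Ideal.Quotient.mk (idl y)))) := IsPullback.of_hasPullback _ _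
  generalize pullback.fst (X ↘ Spec (CommRingCat.of A)) (Spec.map (CommRingCat.ofHom
      (Ideal.Quotient.mk (idl y)))) = i at hZ
  generalize pullback.snd (X ↘ Spec (CommRingCat.of A)) (Spec.map (CommRingCat.ofHom
      (Ideal.Quotient.mk (idl y)))) = j at hZ
  generalize pullback (X ↘ Spec (CommRingCat.of A)) (Spec.map (CommRingCat.ofHom
      (Ideal.Quotient.mk (idl y)))) = Z at i j hZ
  have hc : IsClosedImmersion (Spec.map (CommRingCat.ofHom (Ideal.Quotient.mk (idl y)))) :=
    IsClosedImmersion.spec_of_surjective _ Ideal.Quotient.mk_surjective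
  have hi : IsClosedImmersion i := MorphismProperty.of_isPullback hZ.flip hc
  have hq : Coh.IsQCoh (Coh.structureModule Z) := PerfA.QCohSerre.isQCoh_unit Z
  have hXc : CompactSpace X := QuasiCompact.compactSpace_of_compactSpace (X ↘ Spec (CommRingCat.of A))
  have hXs : QuasiSeparatedSpace X := quasiSeparatedSpace_of_quasiSeparated (X ↘ Spec (CommRingCat.of A))
  have hZc : CompactSpace Z := QuasiCompact.compactSpace_of_compactSpace i
  have hZs : QuasiSeparatedSpace Z := quasiSeparatedSpace_of_quasiSeparated i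
  let _ : Z.Over (Spec (CommRingCat.of A)) := ⟨i ≫ (X ↘ Spec (CommRingCat.of A))⟩
  let _ : Z.Over (Spec (CommRingCat.of (A ⧸ idl y))) := ⟨j⟩
  obtain ⟨e⟩ := VarietyB.HHPush.exists_linearEquiv i A rfl (Coh.structureModule Z) hq 1
  have hsub : Subsingleton (TensorProduct (A ⧸ idl y) (idl y).ResidueField (Coh.HH Z (Coh.structureModule Z) 1)) := by
    let _ : ((X ↘ Spec (CommRingCat.of A)).fiber y).Over (Spec (CommRingCat.of (idl y).ResidueField)) :=
      ⟨(X ↘ Spec (CommRingCat.of A)).fiberToSpecResidueField y ≫ Spec.map (Scheme.Spec.residueFieldIso _ y).inv⟩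
    have h1 := isPullback_fiber (X ↘ Spec (CommRingCat.of A)) y
    rw [← map_comp_map] at h1
    obtain ⟨g', h2⟩ : ∃ g', IsPullback g' ((X ↘ Spec (CommRingCat.of A)).fiberToSpecResidueField y ≫
        Spec.map (Scheme.Spec.residueFieldIso _ y).inv) j (Spec.map (CommRingCat.ofHom
          (algebraMap (A ⧸ idl y) (idl y).ResidueField))) := ⟨_, IsPullback.of_right' h1 hZ⟩
    have : Module.Flat (A ⧸ idl y) (idl y).ResidueField :=
      IsLocalization.flat _ (nonZeroDivisors (A ⧸ idl y))
    obtain ⟨e'⟩ := Groth.Agent.S0034.result (A ⧸ idl y) (idl y).ResidueField Z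
      ((X ↘ Spec (CommRingCat.of A)).fiber y) g' h2 (Coh.structureModule Z) 1
    have h3 := CohqA.DirectSum.subsingleton_of_iso (Fga.UnitRestrict.pullbackUnitIso g').symm 1 hH1
    exact e'.injective.subsingleton
  refine NakAlg.exists_smul_eq_zero (idl y) fun x => ?_
  obtain ⟨s, hs, hsx⟩ := exists_smul_eq_zero_of_tensor hsub (e (hmap (toPush i) 1 x))
  obtain ⟨a, rfl⟩ := Ideal.Quotient.mk_surjective s
  refine ⟨a, fun ha => hs (Ideal.Quotient.eq_zero_iff_mem.2 ha), ?_⟩
  have h0 : hmap (toPush i) 1 (a • x) = 0 := by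
    apply e.injective
    rw [map_zero]
    have h1 : e (hmap (toPush i) 1 (a • x)) = a • e (hmap (toPush i) 1 x) := by
      change e (hmapL A (toPush i) 1 (a • x)) = _
      rw [map_smul, map_smul]
      rfl
    rw [h1, ← hsx]
    change Coh.toGlobal (i ≫ (X ↘ Spec (CommRingCat.of A))) a • e (hmap (toPush i) 1 x) =
      Coh.toGlobal j (Ideal.Quotient.mk (idl y) a) • e (hmap (toPush i) 1 x)
    rw [hZ.w, toGlobal_comp]
  have := mem_smul_of_hmap_eq_zero (Ideal.Quotient.mk (idl y)) hX Ideal.Quotient.mk_surjective hZ (a • x) h0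
  rwa [Ideal.mk_ker] at this

end Groth.Agent.Flat2F.R1NakB
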