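import Groth.Agent.Flat2F.GeomPts
import Groth.Agent.Flat2E.EtaleResidueExt
import Mathlib.FieldTheory.PurelyInseparable.Basic
import Mathlib.FieldTheory.SeparableClosure
import Mathlib.FieldTheory.Normal.Closure

/-!
Étale base change making the residue extension at a quasi-finite point purely inseparable.
-/

set_option autoImplicit false
universe u

namespace Groth.Agent.Flat2F.ResSplit

open AlgebraicGeometry CategoryTheory Limits FibreIntegral GeomPts IntermediateField

section Fields

lemma exists_galois_split (k l : Type u) [Field k] [Field l] [Algebra k l] [FiniteDimensional k l] :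
    ∃ (N : Type u) (_ : Field N) (_ : Algebra k N), FiniteDimensional k N ∧
      Algebra.IsSeparable k N ∧
      ∀ a : separableClosure k l, ((minpoly k a).map (algebraMap k N)).Splits := by
  have : Nonempty (separableClosure k l →ₐ[k] SeparableClosure k) := ⟨IsSepClosed.lift⟩
  have h := isNormalClosure_normalClosure k (separableClosure k l) (SeparableClosure k)
  refine ⟨IntermediateField.normalClosure k (separableClosure k l) (SeparableClosure k), inferInstance, inferInstance, inferInstance, ?_,
    h.splits⟩
  exact Algebra.isSeparable_tower_bot_of_isSeparable k _ (SeparableClosure k)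

lemma comp_eq_comp {k l L K N : Type u} [Field k] [Field l] [Field L] [Field K] [Field N]
    [Algebra k l] [FiniteDimensional k l] [Algebra k N]
    (hN : ∀ a : separableClosure k l, ((minpoly k a).map (algebraMap k N)).Splits)
    (j : l →+* L) (i : N →+* L) (h : j.comp (algebraMap k l) = i.comp (algebraMap k N))
    (p q : L →+* K) (hpq : p.comp i = q.comp i) : p.comp j = q.comp j := by
  have key : ∀ a : separableClosure k l, p (j a) = q (j a) := by
    intro a
    let : Algebra N L := i.toAlgebra
    let : Algebra k L := (i.comp (algebraMap k N)).toAlgebra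
    have : IsScalarTower k N L := IsScalarTower.of_algebraMap_eq' rfl
    let j' : l →ₐ[k] L := { j with commutes' := fun r => congr($h r) }
    have hint : IsIntegral k (j' a) := (Algebra.IsIntegral.isIntegral (a : l)).map j'
    have hmin : minpoly k (j' a) = minpoly k a := by
      rw [minpoly.algHom_eq j' j'.injective]
      exact (minpoly.algebraMap_eq (algebraMap (separableClosure k l) l).injective a)
    have : j' a ∈ (algebraMap N L).range :=
      hint.mem_range_algebraMap_of_minpoly_splits (by rw [hmin]; exact hN a)
    obtain ⟨n, hn⟩ := this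
    have hn' : i n = j a := hn
    rw [← hn']
    exact congr($hpq n)
  let : Algebra (separableClosure k l) K :=
    ((p.comp j).comp (algebraMap (separableClosure k l) l)).toAlgebra
  let P : l →ₐ[separableClosure k l] K := { p.comp j with commutes' := fun r => rfl }
  let Q : l →ₐ[separableClosure k l] K := { q.comp j with commutes' := fun r => (key r).symm }
  have : P = Q := Subsingleton.elim _ _
  exact congr(($this : l →+* K))

end Fields

variable {X Y : Scheme.{u}}

lemma exists_map {K : Type u} [Field K] (ω : Spec (.of K) ⟶ Y) (y : Y) (h : ω (pt K) = y) :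
    ∃ φ : Y.residueField y ⟶ .of K, Spec.map φ ≫ Y.fromSpecResidueField y = ω := by
  subst h
  exact exists_ptMap ω

lemma exists_residueMap (h : X ⟶ Y) (x : X) (y : Y) (e : h x = y) :
    ∃ j : Y.residueField y ⟶ X.residueField x,
      Spec.map j ≫ Y.fromSpecResidueField y = X.fromSpecResidueField x ≫ h := by
  subst e
  exact ⟨h.residueFieldMap x, Scheme.Hom.SpecMap_residueFieldMap_fromSpecResidueField _ _⟩

/-- The residue extension at `x` is purely inseparable, in terms of geometric points. -/
def PI (f : X ⟶ Y) (x : X) : Prop :=
  ∀ (K : Type u) [Field K] [IsAlgClosed K] (s t : Spec (.of K) ⟶ X), s ≫ f = t ≫ f →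
    s (pt K) = x → t (pt K) = x → s = t

theorem exists_etale_PI (f : X ⟶ Y) [LocallyQuasiFinite f] (x : X) :
    ∃ (V : Scheme.{u}) (g : V ⟶ Y) (v : V), Etale g ∧ g v = f x ∧
      ∀ z : ↥(pullback f g), pullback.fst f g z = x → pullback.snd f g z = v →
        PI (pullback.snd f g) z := by
  let := (f.residueFieldMap x).hom.toAlgebra
  have hfin : FiniteDimensional (Y.residueField (f x)) (X.residueField x) := finite_residueFieldMap f x
  obtain ⟨N, _, _, hN1, hN2, hN3⟩ := exists_galois_split (Y.residueField (f x)) (X.residueField x)
  obtain ⟨V, g, v, e, -, hg, hgv, he⟩ :=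
    Groth.Agent.Flat2E.EtaleResidueExt.exists_etale_nbhd (f x) N
  refine ⟨V, g, v, hg, hgv, ?_⟩
  intro z hzx hzv K _ _ s t hst hs ht
  obtain ⟨j, hj⟩ := exists_residueMap (pullback.fst f g) z x hzx
  obtain ⟨k, hk⟩ := exists_residueMap (pullback.snd f g) z v hzv
  obtain ⟨p, hp⟩ := exists_map s z hs
  obtain ⟨q, hq⟩ := exists_map t z ht
  have h1 : f.residueFieldMap x ≫ j = CommRingCat.ofHom (algebraMap (Y.residueField (f x)) N) ≫ e.inv ≫ k := by
    rw [← Spec.map_inj, ← cancel_mono (Y.fromSpecResidueField _)]
    simp only [Spec.map_comp, Category.assoc,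
      Scheme.Hom.SpecMap_residueFieldMap_fromSpecResidueField]
    rw [← he, reassoc_of% hj, ← Spec.map_comp_assoc e.hom e.inv, e.hom_inv_id, Spec.map_id,
      Category.id_comp, reassoc_of% hk, pullback.condition]
  have h2 : (e.inv ≫ k) ≫ p = (e.inv ≫ k) ≫ q := by
    simp only [Category.assoc]
    congr 1
    rw [← Spec.map_inj, ← cancel_mono (V.fromSpecResidueField v)]
    simp only [Spec.map_comp, Category.assoc, hk]
    rw [reassoc_of% hp, reassoc_of% hq, hst]
  have h3 : j ≫ p = j ≫ q := by
    ext1
    exact comp_eq_comp hN3 j.hom (e.inv ≫ k).hom congr(($h1).hom) p.hom q.hom congr(($h2).hom)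
  refine pullback.hom_ext ?_ hst
  rw [← hp, ← hq, Category.assoc, Category.assoc, ← hj, ← Spec.map_comp_assoc, h3,
    Spec.map_comp_assoc]

end Groth.Agent.Flat2F.ResSplit
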