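import Mathlib.RingTheory.Smooth.Fiber
import Mathlib.RingTheory.Filtration
import Mathlib.RingTheory.Artinian.Ring
import Mathlib.RingTheory.Artinian.Module
import Mathlib.RingTheory.HopkinsLevitzki
import Mathlib.RingTheory.Derivation.ToSquareZero

set_option autoImplicit false
universe u

namespace Groth.Agent.Flat2F.SmallExt

open TensorProduct IsLocalRing

/-- if the ideal `ker (P → K)` kills `M` and `P → K` is surjective, then `m ↦ 1 ⊗ m` is injective -/
lemma one_tmul_eq_zero {P K M : Type*} [CommRing P] [CommRing K] [Algebra P K]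
    (hs : Function.Surjective (algebraMap P K)) [AddCommGroup M] [Module P M]
    (hM : ∀ p : P, algebraMap P K p = 0 → ∀ m : M, p • m = 0) (m : M)
    (h : (1 : K) ⊗ₜ[P] m = 0) : m = 0 := by
  let e : (P ⧸ RingHom.ker (Algebra.ofId P K)) ≃ₐ[P] K :=
    Ideal.quotientKerAlgEquivOfSurjective (f := Algebra.ofId P K) hs
  have h1 : (1 : P ⧸ RingHom.ker (Algebra.ofId P K)) ⊗ₜ[P] m = 0 := by
    have := congrArg (LinearMap.rTensor M e.symm.toLinearMap) h
    simpa using this
  have h2 := congrArg (TensorProduct.quotTensorEquivQuotSMul M (RingHom.ker (Algebra.ofId P K))) h1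
  rw [map_zero, show (1 : P ⧸ RingHom.ker (Algebra.ofId P K)) = Ideal.Quotient.mk _ 1 from rfl,
    TensorProduct.quotTensorEquivQuotSMul_mk_tmul, one_smul, Submodule.Quotient.mk_eq_zero] at h2
  have h3 : RingHom.ker (Algebra.ofId P K) • (⊤ : Submodule P M) = ⊥ := by
    rw [eq_bot_iff, Submodule.smul_le]
    intro r hr n _
    exact (Submodule.mem_bot _).mpr (hM r hr n)
  rw [h3] at h2
  exact (Submodule.mem_bot _).mp h2

/-- Choice of the ideal `J`. -/
lemma exists_ideal {P : Type*} [CommRing P] [IsNoetherianRing P] [IsLocalRing P]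
    (I : Ideal P) (i : P) (hi : i ∈ I) (hi' : i ∉ maximalIdeal P * I) :
    ∃ (c : ℕ) (J : Ideal P), maximalIdeal P ^ c ≤ J ∧ i ∉ J ∧ I ≤ J ⊔ Ideal.span {i} ∧
      maximalIdeal P * I ≤ J := by
  obtain ⟨k, hk⟩ := Ideal.exists_pow_inf_eq_pow_smul (maximalIdeal P) (I : Submodule P P)
  have hk1 := hk (k + 1) (Nat.le_succ k)
  have h1 : maximalIdeal P ^ (k + 1) ⊓ I ≤ maximalIdeal P * I := by
    have : maximalIdeal P ^ (k + 1) ⊓ I =
        maximalIdeal P ^ (k + 1) • (⊤ : Submodule P P) ⊓ I := by simp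
    rw [this, hk1, Nat.add_sub_cancel_left, pow_one]
    rw [← smul_eq_mul]
    exact Submodule.smul_mono le_rfl inf_le_right
  let J0 := maximalIdeal P * I ⊔ maximalIdeal P ^ (k + 1)
  have hiJ0 : i ∉ J0 := by
    intro h
    obtain ⟨a, ha, b, hb, hab⟩ := Submodule.mem_sup.mp h
    have hb' : b = i - a := by rw [← hab]; ring
    have h2 : b ∈ I := by
      rw [hb']
      exact I.sub_mem hi (Ideal.mul_le_right ha)
    have h3 : b ∈ maximalIdeal P * I := h1 ⟨hb, h2⟩
    apply hi'
    rw [← hab]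
    exact Ideal.add_mem _ ha h3
  obtain ⟨J, ⟨⟨hJ1, hJ2⟩, hJ3⟩, hJ⟩ := set_has_maximal_iff_noetherian.mpr
    (inferInstance : IsNoetherian P P)
    {J : Ideal P | (J0 ≤ J ∧ J ≤ I ⊔ maximalIdeal P ^ (k + 1)) ∧ i ∉ J}
    ⟨J0, ⟨le_rfl, sup_le_sup_right (Ideal.mul_le_right) _⟩, hiJ0⟩
  refine ⟨k + 1, J, le_sup_right.trans hJ1, hJ3, ?_, le_sup_left.trans hJ1⟩
  intro j hj
  by_cases hjJ : j ∈ J
  · exact le_sup_left (α := Ideal P) hjJ
  have h2 : i ∈ J ⊔ Ideal.span {j} := by
    by_contra hcon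
    refine hJ (J ⊔ Ideal.span {j}) ⟨⟨hJ1.trans le_sup_left, sup_le hJ2 ?_⟩, hcon⟩ ?_
    · rw [Ideal.span_singleton_le_iff_mem]
      exact le_sup_left (α := Ideal P) hj
    · refine lt_of_le_of_ne le_sup_left fun h ↦ hjJ ?_
      rw [h]
      exact le_sup_right (α := Ideal P) (Ideal.mem_span_singleton_self j)
  obtain ⟨b, hb, c, hc, hbc⟩ := Submodule.mem_sup.mp h2
  obtain ⟨a, rfl⟩ := Ideal.mem_span_singleton'.mp hc
  by_cases ha : IsUnit a
  · obtain ⟨a, rfl⟩ := ha
    have : j = ↑a⁻¹ * (i - b) := by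
      rw [← hbc]; simp
    rw [this]
    refine Ideal.mul_mem_left _ _ (Ideal.sub_mem _ ?_ ?_)
    · exact le_sup_right (α := Ideal P) (Ideal.mem_span_singleton_self i)
    · exact le_sup_left (α := Ideal P) hb
  · exfalso
    apply hJ3
    rw [← hbc]
    refine J.add_mem hb (hJ1 (le_sup_left (α := Ideal P) (Ideal.mul_mem_mul ?_ hj)))
    exact (mem_maximalIdeal _).mpr ha

/-- in the localization at a maximal ideal, modulo a power of the maximal ideal, every element
comes from the ring -/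
lemma surjective_of_pow_le {P P' : Type*} [CommRing P] [CommRing P'] [Algebra P P'] (n : Ideal P)
    [n.IsMaximal] [IsLocalization.AtPrime P' n] (c : ℕ) (J : Ideal P')
    (hJ : (n.map (algebraMap P P')) ^ c ≤ J) :
    Function.Surjective (algebraMap P (P' ⧸ J)) := by
  intro x
  obtain ⟨x, rfl⟩ := Ideal.Quotient.mk_surjective x
  obtain ⟨a, ⟨s, hs⟩, rfl⟩ := IsLocalization.exists_mk'_eq n.primeCompl x
  have h1 : IsCoprime n (Ideal.span {s}) := by
    rw [Ideal.isCoprime_iff_sup_eq]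
    refine (Ideal.IsMaximal.out : IsCoatom n).2 _ ?_
    refine lt_of_le_of_ne le_sup_left fun h ↦ hs ?_
    change s ∈ n
    rw [h]
    exact le_sup_right (α := Ideal P) (Ideal.mem_span_singleton_self s)
  have h2 : IsCoprime (n ^ c) (Ideal.span {s}) := h1.pow_left
  rw [Ideal.isCoprime_iff_sup_eq, Ideal.eq_top_iff_one, Submodule.mem_sup] at h2
  obtain ⟨y, hy, z, hz, hyz⟩ := h2
  obtain ⟨t, rfl⟩ := Ideal.mem_span_singleton'.mp hz
  refine ⟨a * t, ?_⟩
  change Ideal.Quotient.mk J (algebraMap P P' (a * t)) = _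
  rw [Ideal.Quotient.eq]
  apply hJ
  have h3 : algebraMap P P' y ∈ (n.map (algebraMap P P')) ^ c := by
    rw [← Ideal.map_pow]
    exact Ideal.mem_map_of_mem _ hy
  have h4 : algebraMap P P' (a * t) - IsLocalization.mk' P' a ⟨s, hs⟩ =
      - (IsLocalization.mk' P' a ⟨s, hs⟩ * algebraMap P P' y) := by
    have h5 : algebraMap P P' a = IsLocalization.mk' P' a ⟨s, hs⟩ * algebraMap P P' s :=
      (IsLocalization.mk'_spec P' a ⟨s, hs⟩).symm
    rw [map_mul, h5]
    have h6 : algebraMap P P' y = 1 - algebraMap P P' t * algebraMap P P' s := by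
      rw [← map_mul, ← map_one (algebraMap P P'), ← hyz]; simp
    rw [h6]; ring
  rw [h4]
  exact neg_mem (Ideal.mul_mem_left _ _ h3)

/-- Let `A` be Noetherian, `R` a finite type `A`-algebra and `q` a maximal ideal of `R`. If
`A`-algebra maps from `R` lift along all small extensions `B' → B' / ε` with `B'` an Artinian local
`A`-algebra of finite type, then `R_q` is formally smooth over `A`. -/
theorem formallySmooth_of_lifting {A R : Type u} [CommRing A] [CommRing R] [Algebra A R]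
    [IsNoetherianRing A] [Algebra.FiniteType A R] (q : Ideal R) [q.IsMaximal]
    (H : ∀ (B' : Type u) [CommRing B'] [IsArtinianRing B'] [IsLocalRing B'] [Algebra A B']
      [Algebra.FiniteType A B'] (ε : B'), ε ∈ maximalIdeal B' →
      (∀ m ∈ maximalIdeal B', ε * m = 0) →
      ∀ g : R →ₐ[A] B' ⧸ Ideal.span {ε}, ∃ g' : R →ₐ[A] B', (Ideal.Quotient.mkₐ A _).comp g' = g) :
    Algebra.FormallySmooth A (Localization.AtPrime q) := by
  obtain ⟨n, f₀, hf₀⟩ := Algebra.FiniteType.iff_quotient_mvPolynomial''.mp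
    (inferInstance : Algebra.FiniteType A R)
  have : (q.comap f₀).IsMaximal := Ideal.comap_isMaximal_of_surjective f₀ hf₀
  let 𝔫 := q.comap f₀
  have : 𝔫.IsMaximal := this
  let P' := Localization.AtPrime 𝔫
  let S := Localization.AtPrime q
  have : IsNoetherianRing P' := IsLocalization.isNoetherianRing 𝔫.primeCompl _ inferInstance
  let fP : P' →ₐ[A] S := IsLocalization.liftAlgHom (M := 𝔫.primeCompl)
      (f := (IsScalarTower.toAlgHom A R S).comp f₀) fun x ↦ by
    simpa using IsLocalization.map_units (M := q.primeCompl) _ ⟨f₀ x.1, x.2⟩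
  have hfP_alg (p : MvPolynomial (Fin n) A) : fP (algebraMap _ P' p) = algebraMap R S (f₀ p) := by
    simp [fP]
  have hf₁ : Function.Surjective fP := by
    intro x
    obtain ⟨x, ⟨s, hs⟩, rfl⟩ := IsLocalization.exists_mk'_eq q.primeCompl x
    obtain ⟨x, rfl⟩ := hf₀ x
    obtain ⟨s, rfl⟩ := hf₀ s
    refine ⟨IsLocalization.mk' (M := 𝔫.primeCompl) _ x ⟨s, hs⟩, ?_⟩
    simp [fP, IsLocalization.lift_mk', Units.mul_inv_eq_iff_eq_mul, IsUnit.liftRight]
  algebraize [fP.toRingHom]
  have : Algebra.FormallyEtale (MvPolynomial (Fin n) A) P' := .of_isLocalization 𝔫.primeCompl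
  have : Algebra.FormallySmooth A P' := .comp _ (MvPolynomial (Fin n) A) _
  have : Module.Free P' Ω[P'⁄A] :=
    .of_equiv (KaehlerDifferential.tensorKaehlerEquivOfFormallyEtale A (MvPolynomial (Fin n) A) P')
  have hker : (RingHom.ker (algebraMap P' S)).FG := IsNoetherian.noetherian _
  rw [Algebra.FormallySmooth.iff_injective_cotangentComplexBaseChange_residueField (P := P')
    hf₁ hker, injective_iff_map_eq_zero]
  intro u hu
  have hκ : Function.Surjective (algebraMap P' (ResidueField S)) := by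
    rw [IsScalarTower.algebraMap_eq P' S (ResidueField S)]
    exact residue_surjective.comp hf₁
  obtain ⟨⟨i, hi⟩, rfl⟩ := TensorProduct.mk_surjective P' _ (ResidueField S) hκ u
  simp only [TensorProduct.mk_apply] at hu ⊢
  by_contra hne
  have hkerκ : RingHom.ker (algebraMap P' (ResidueField S)) = maximalIdeal P' :=
    IsLocalRing.eq_maximalIdeal (RingHom.ker_isMaximal_of_surjective _ hκ)
  have hi' : i ∉ maximalIdeal P' * RingHom.ker (algebraMap P' S) := by
    intro h
    apply hne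
    have h1 : i ∈ Submodule.map (Submodule.subtype (RingHom.ker (algebraMap P' S)))
        (maximalIdeal P' • (⊤ : Submodule P' (RingHom.ker (algebraMap P' S)))) := by
      rw [Submodule.map_smul'', Submodule.map_top, Submodule.range_subtype]
      exact h
    obtain ⟨y, hy, hyi⟩ := h1
    have h2 : (⟨i, hi⟩ : RingHom.ker (algebraMap P' S)) = y := Subtype.ext hyi.symm
    rw [h2]
    refine Submodule.smul_induction_on hy ?_ ?_
    · intro r hr m _
      rw [← TensorProduct.smul_tmul, Algebra.smul_def, mul_one,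
        show algebraMap P' (ResidueField S) r = 0 by
          rw [← RingHom.mem_ker, hkerκ]; exact hr, TensorProduct.zero_tmul]
    · intro a b ha hb
      rw [TensorProduct.tmul_add, ha, hb, add_zero]
  obtain ⟨c, J, hJ1, hJ2, hJ3, hJ4⟩ := exists_ideal (RingHom.ker (algebraMap P' S)) i hi hi'
  have hJtop : J ≠ ⊤ := fun h ↦ hJ2 (h ▸ Submodule.mem_top)
  have : Nontrivial (P' ⧸ J) := Ideal.Quotient.nontrivial_iff.mpr hJtop
  have : IsLocalRing (P' ⧸ J) :=
    IsLocalRing.of_surjective' (Ideal.Quotient.mk J) Ideal.Quotient.mk_surjective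
  have hmaxB : maximalIdeal (P' ⧸ J) = (maximalIdeal P').map (Ideal.Quotient.mk J) :=
    (map_maximalIdeal_of_surjective _ Ideal.Quotient.mk_surjective).symm
  have : IsArtinianRing (P' ⧸ J) := by
    rw [isArtinianRing_iff_isNilpotent_maximalIdeal]
    refine ⟨c, ?_⟩
    rw [hmaxB, ← Ideal.map_pow, Ideal.zero_eq_bot, Ideal.map_eq_bot_iff_le_ker,
      Ideal.mk_ker]
    exact hJ1
  have : Algebra.FiniteType A (P' ⧸ J) := by
    refine Algebra.FiniteType.of_surjective (IsScalarTower.toAlgHom A (MvPolynomial (Fin n) A)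
      (P' ⧸ J)) ?_
    refine surjective_of_pow_le 𝔫 c J ?_
    rwa [Localization.AtPrime.map_eq_maximalIdeal]
  let ε : P' ⧸ J := Ideal.Quotient.mk J i
  have hεne : ε ≠ 0 := fun h ↦ hJ2 (Ideal.Quotient.eq_zero_iff_mem.mp h)
  have hε : ε ∈ maximalIdeal (P' ⧸ J) := by
    rw [hmaxB]
    exact Ideal.mem_map_of_mem _ (le_maximalIdeal (RingHom.ker_ne_top _) hi)
  have hε' : ∀ m ∈ maximalIdeal (P' ⧸ J), ε * m = 0 := by
    intro m hm
    rw [hmaxB] at hm
    obtain ⟨m, hm', rfl⟩ := (Ideal.mem_map_iff_of_surjective _ Ideal.Quotient.mk_surjective).mp hm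
    rw [← map_mul, Ideal.Quotient.eq_zero_iff_mem, mul_comm]
    exact hJ4 (Ideal.mul_mem_mul hm' hi)
  -- the canonical maps
  let K : Ideal (P' ⧸ J) := Ideal.span {ε}
  have hKle : K ≤ maximalIdeal (P' ⧸ J) := by
    rw [Ideal.span_singleton_le_iff_mem]; exact hε
  have hKtop : K ≠ ⊤ := fun h ↦ (Ideal.IsPrime.ne_top (I := maximalIdeal (P' ⧸ J)) inferInstance)
    (top_le_iff.mp (h ▸ hKle))
  have : Nontrivial ((P' ⧸ J) ⧸ K) := Ideal.Quotient.nontrivial_iff.mpr hKtop
  let πB : P' →ₐ[A] (P' ⧸ J) ⧸ K := (Ideal.Quotient.mkₐ A K).comp (Ideal.Quotient.mkₐ A J)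
  have hπB : RingHom.ker fP.toRingHom ≤ RingHom.ker πB.toRingHom := by
    intro x hx
    have hx' : x ∈ J ⊔ Ideal.span {i} := hJ3 hx
    obtain ⟨a, ha, b, hb, rfl⟩ := Submodule.mem_sup.mp hx'
    obtain ⟨t, rfl⟩ := Ideal.mem_span_singleton'.mp hb
    change Ideal.Quotient.mk K (Ideal.Quotient.mk J (a + t * i)) = 0
    rw [Ideal.Quotient.eq_zero_iff_mem, map_add, Ideal.Quotient.eq_zero_iff_mem.mpr ha, zero_add,
      map_mul]
    exact Ideal.mul_mem_left _ _ (Ideal.mem_span_singleton_self ε)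
  let gS : S →ₐ[A] (P' ⧸ J) ⧸ K := AlgHom.liftOfSurjective fP hf₁ πB hπB
  have hgS (p : P') : gS (fP p) = Ideal.Quotient.mk K (Ideal.Quotient.mk J p) :=
    AlgHom.liftOfSurjective_apply fP hf₁ πB hπB p
  obtain ⟨g', hg'⟩ := H (P' ⧸ J) ε hε hε' (gS.comp (IsScalarTower.toAlgHom A R S))
  have hg'' (r : R) : Ideal.Quotient.mk K (g' r) = gS (algebraMap R S r) := congr($hg' r)
  let g'S : S →ₐ[A] P' ⧸ J := IsLocalization.liftAlgHom (M := q.primeCompl) (f := g') (by
    intro y
    by_contra hy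
    have h1 : g' y ∈ maximalIdeal (P' ⧸ J) := (mem_maximalIdeal _).mpr hy
    have h2 : IsUnit (Ideal.Quotient.mk K (g' y)) := by
      rw [hg'']
      exact (IsLocalization.map_units (M := q.primeCompl) S y).map gS
    obtain ⟨z, hz⟩ := h2.exists_right_inv
    obtain ⟨z, rfl⟩ := Ideal.Quotient.mk_surjective z
    rw [← map_mul, ← map_one (Ideal.Quotient.mk K), Ideal.Quotient.eq] at hz
    have h3 := Ideal.sub_mem _ (Ideal.mul_mem_right z _ h1) (hKle hz)
    rw [sub_sub_cancel] at h3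
    exact (Ideal.ne_top_iff_one _).mp (Ideal.IsPrime.ne_top (I := maximalIdeal (P' ⧸ J))
      inferInstance) h3)
  have hg'S (r : R) : g'S (algebraMap R S r) = g' r := by simp [g'S]
  let f : P' →ₐ[A] P' ⧸ J := g'S.comp fP
  have hf : (Ideal.Quotient.mkₐ A K).comp f = IsScalarTower.toAlgHom A P' ((P' ⧸ J) ⧸ K) := by
    refine IsLocalization.algHom_ext 𝔫.primeCompl ?_
    ext1 p
    change Ideal.Quotient.mk K (g'S (fP (algebraMap _ P' _))) =
      Ideal.Quotient.mk K (Ideal.Quotient.mk J (algebraMap _ P' _))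
    rw [hfP_alg, hg'S, hg'', ← hfP_alg, hgS]
  have hK2 : K ^ 2 = ⊥ := by
    rw [pow_two, Ideal.span_singleton_mul_span_singleton, hε' ε hε]; simp
  let D := derivationToSquareZeroOfLift K hK2 f hf
  have hD : (D i : P' ⧸ J) = - ε := by
    rw [derivationToSquareZeroOfLift_apply]
    have : f i = 0 := by
      change g'S (fP i) = 0
      rw [show fP i = 0 from hi, map_zero]
    rw [this, zero_sub]
    rfl
  rw [KaehlerDifferential.cotangentComplexBaseChange_tmul, one_smul] at hu
  have hu2 := congrArg (LinearMap.lTensor (ResidueField S) D.liftKaehlerDifferential) hu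
  rw [KaehlerDifferential.kerToTensor_apply, map_zero, LinearMap.lTensor_tmul,
    Derivation.liftKaehlerDifferential_comp_D] at hu2
  have h0 := one_tmul_eq_zero hκ (M := K) (fun p hp m ↦ by
    have hp' : p ∈ maximalIdeal P' := by rw [← hkerκ]; exact hp
    obtain ⟨m, hm⟩ := m
    obtain ⟨t, rfl⟩ := Ideal.mem_span_singleton'.mp hm
    ext
    change p • (t * ε) = 0
    rw [Algebra.smul_def, mul_left_comm, mul_comm _ ε, hε', mul_zero]
    rw [hmaxB]
    exact Ideal.mem_map_of_mem _ hp') (D i) hu2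
  rw [h0] at hD
  exact hεne (neg_eq_zero.mp hD.symm)

end Groth.Agent.Flat2F.SmallExt
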