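import Groth.Agent.Flat2F.ResSplit
import Groth.Agent.Grpsch.EtLoc

/-!
Étale localization of quasi-finite morphisms: around a point the morphism becomes finite with a
unique geometric point in the fibre.
-/

set_option autoImplicit false
universe u

namespace Groth.Agent.Flat2F.Split

open AlgebraicGeometry CategoryTheory Limits FibreIntegral GeomPts ResSplit

variable {X Y : Scheme.{u}}

/-- Near `x` the morphism is finite with one geometric point over each geometric point at `f x`. -/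
def Split (f : X ⟶ Y) (x : X) : Prop :=
  ∃ U : X.Opens, x ∈ U ∧ IsFinite (U.ι ≫ f) ∧ Uniq f (f x) U

lemma isFinite_baseChange_ι {X' Y' : Scheme.{u}} {f : X ⟶ Y} {f' : X' ⟶ Y'} {h : X' ⟶ X}
    {g : Y' ⟶ Y} (hc : IsPullback h f' f g) (U : X.Opens) [IsFinite (U.ι ≫ f)] :
    IsFinite ((h ⁻¹ᵁ U).ι ≫ f') :=
  MorphismProperty.of_isPullback ((isPullback_morphismRestrict h U).paste_vert hc) ‹_›

lemma Split.baseChange {X' Y' : Scheme.{u}} {f : X ⟶ Y} {f' : X' ⟶ Y'} {h : X' ⟶ X}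
    {g : Y' ⟶ Y} (hc : IsPullback h f' f g) {x' : X'} (hx : Split f (h x')) : Split f' x' := by
  obtain ⟨U, hU, hf, hu⟩ := hx
  refine ⟨h ⁻¹ᵁ U, hU, isFinite_baseChange_ι hc U, ?_⟩
  refine Uniq.baseChange hc ?_
  have : g (f' x') = f (h x') := by
    rw [← Scheme.Hom.comp_apply, ← hc.w, Scheme.Hom.comp_apply]
  rwa [this]

lemma PI.baseChange {X' Y' : Scheme.{u}} {f : X ⟶ Y} {f' : X' ⟶ Y'} {h : X' ⟶ X}
    {g : Y' ⟶ Y} (hc : IsPullback h f' f g) {x' : X'} (hx : PI f (h x')) : PI f' x' := by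
  intro K _ _ s t hst hs ht
  refine hc.hom_ext ?_ hst
  refine hx K _ _ ?_ ?_ ?_
  · rw [Category.assoc, Category.assoc, hc.w, reassoc_of% hst]
  · rw [Scheme.Hom.comp_apply, hs]
  · rw [Scheme.Hom.comp_apply, ht]

lemma isFinite_image_ι {W : Scheme.{u}} (j : W ⟶ X) [IsOpenImmersion j] (f : X ⟶ Y) (U : W.Opens)
    [IsFinite (U.ι ≫ j ≫ f)] : IsFinite ((j ''ᵁ U).ι ≫ f) := by
  have h : (j.isoImage U).hom ≫ (j ''ᵁ U).ι ≫ f = U.ι ≫ j ≫ f := by
    rw [Scheme.Hom.isoImage_hom_ι_assoc]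
  rw [← MorphismProperty.cancel_left_of_respectsIso @IsFinite (j.isoImage U).hom, h]
  infer_instance

lemma Uniq.image {W : Scheme.{u}} (j : W ⟶ X) [IsOpenImmersion j] {f : X ⟶ Y} {U : W.Opens} {y : Y}
    (hu : Uniq (j ≫ f) y U) : Uniq f y (j ''ᵁ U) := by
  intro K _ _ ω hω
  obtain ⟨s, ⟨hs, hs'⟩, hs''⟩ := hu K ω hω
  refine ⟨s ≫ j, ⟨by rw [Category.assoc, hs], ?_⟩, ?_⟩
  · rw [Scheme.Hom.comp_apply]
    exact ⟨_, hs', rfl⟩
  · rintro t ⟨ht, ht'⟩
    obtain ⟨w, hw, hwt⟩ := ht'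
    have hr : Set.range t ⊆ Set.range j := by
      rw [range_eq_pt, Set.singleton_subset_iff, ← hwt]
      exact ⟨w, rfl⟩
    let t' := IsOpenImmersion.lift j t hr
    have ht1 : t' ≫ j = t := IsOpenImmersion.lift_fac _ _ _
    have ht2 : t' (pt K) = w := by
      apply j.isOpenEmbedding.injective
      rw [← Scheme.Hom.comp_apply, ht1]
      exact hwt.symm
    rw [← ht1, hs'' t' ⟨by rw [← Category.assoc, ht1, ht], by rw [ht2]; exact hw⟩]

lemma Split.of_comp_open {W : Scheme.{u}} (j : W ⟶ X) [IsOpenImmersion j] {f : X ⟶ Y} {w : W}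
    (h : Split (j ≫ f) w) : Split f (j w) := by
  obtain ⟨U, hU, hf, hu⟩ := h
  exact ⟨j ''ᵁ U, ⟨w, hU, rfl⟩, isFinite_image_ι j f U, Uniq.image j hu⟩

/-- All points of the base change over `v` mapping into `A` are split. -/
def SplitOver (f : X ⟶ Y) (A : Set X) {V : Scheme.{u}} (g : V ⟶ Y) (v : V) : Prop :=
  ∀ z : ↥(pullback f g), pullback.fst f g z ∈ A → pullback.snd f g z = v → Split (pullback.snd f g) z

lemma SplitOver.split {f : X ⟶ Y} {A : Set X} {V : Scheme.{u}} {g : V ⟶ Y} {v : V}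
    (H : SplitOver f A g v) {X' V' : Scheme.{u}} {h : X' ⟶ X} {f' : X' ⟶ V'} {g' : V' ⟶ V}
    (hc : IsPullback h f' f (g' ≫ g)) (x' : X') (h1 : h x' ∈ A) (h2 : g' (f' x') = v) : 
    Split f' x' := by
  let m : X' ⟶ pullback f g := pullback.lift h (f' ≫ g') (by rw [hc.w, Category.assoc])
  have hm : IsPullback m f' (pullback.snd f g) g' := by
    refine IsPullback.of_right (h₁₂ := pullback.fst f g) (v₁₃ := f) (h₂₂ := g) ?_
      (pullback.lift_snd _ _ _) (IsPullback.of_hasPullback _ _)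
    rw [pullback.lift_fst]
    exact hc
  refine Split.baseChange hm (H _ ?_ ?_)
  · rwa [← Scheme.Hom.comp_apply, pullback.lift_fst]
  · rwa [← Scheme.Hom.comp_apply, pullback.lift_snd, Scheme.Hom.comp_apply]

lemma SplitOver.refine {f : X ⟶ Y} {A : Set X} {V : Scheme.{u}} {g : V ⟶ Y} {v : V}
    (H : SplitOver f A g v) {V' : Scheme.{u}} (g' : V' ⟶ V) {v' : V'} (e : g' v' = v) :
    SplitOver f A (g' ≫ g) v' := by
  intro z hz1 hz2
  exact H.split (IsPullback.of_hasPullback f (g' ≫ g)) z hz1 (by rw [hz2, e])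

lemma SplitOver.refine' {f : X ⟶ Y} {A : Set X} {V : Scheme.{u}} {g : V ⟶ Y} {v : V}
    (H : SplitOver f A g v) {V' : Scheme.{u}} (g' : V' ⟶ V) {v' : V'} (e : g' v' = v)
    (g'' : V' ⟶ Y) (h : g' ≫ g = g'') : SplitOver f A g'' v' := by
  subst h
  exact H.refine g' e

lemma SplitOver.mono {f : X ⟶ Y} {A B : Set X} {V : Scheme.{u}} {g : V ⟶ Y} {v : V}
    (H : SplitOver f A g v) (h : B ⊆ A) : SplitOver f B g v := fun z hz1 hz2 => H z (h hz1) hz2

lemma SplitOver.union {f : X ⟶ Y} {A B : Set X} {V : Scheme.{u}} {g : V ⟶ Y} {v : V}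
    (H : SplitOver f A g v) (H' : SplitOver f B g v) : SplitOver f (A ∪ B) g v := by
  rintro z (hz1 | hz1) hz2
  · exact H z hz1 hz2
  · exact H' z hz1 hz2

/-- Étale localization for a finite set of points of a fibre. -/
lemma exists_splitOver_of_finite (f : X ⟶ Y) (y : Y) (A : Set X) (hA : A.Finite)
    (H : ∀ x ∈ A, ∃ (V : Scheme.{u}) (g : V ⟶ Y) (v : V), Etale g ∧ g v = y ∧
      SplitOver f {x} g v) :
    ∃ (V : Scheme.{u}) (g : V ⟶ Y) (v : V), Etale g ∧ g v = y ∧ SplitOver f A g v := by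
  induction A, hA using Set.Finite.induction_on with
  | empty => exact ⟨Y, 𝟙 Y, y, inferInstance, by simp, fun z hz => hz.elim⟩
  | @insert x A hx hA ih =>
    obtain ⟨V₁, g₁, v₁, hg₁, hv₁, H₁⟩ := ih fun x hx => H x (Set.mem_insert_of_mem _ hx)
    obtain ⟨V₂, g₂, v₂, hg₂, hv₂, H₂⟩ := H x (Set.mem_insert _ _)
    obtain ⟨v, hv1, hv2⟩ := Scheme.Pullback.exists_preimage_pullback (f := g₁) (g := g₂) v₁ v₂
      (hv₁.trans hv₂.symm)
    refine ⟨pullback g₁ g₂, pullback.fst g₁ g₂ ≫ g₁, v, inferInstance, ?_, ?_⟩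
    · rw [Scheme.Hom.comp_apply, hv1, hv₁]
    · exact ((H₂.refine' (pullback.snd g₁ g₂) hv2 _ pullback.condition.symm).union
        (H₁.refine (pullback.fst g₁ g₂) hv1)).mono (by simp)

/-- The set of points of the base change over `(x, v)` is finite. -/
lemma finite_points (f : X ⟶ Y) [LocallyQuasiFinite f] (x : X) {V : Scheme.{u}} (g : V ⟶ Y) (v : V) :
    {z : ↥(pullback f g) | pullback.fst f g z = x ∧ pullback.snd f g z = v}.Finite := by
  by_cases hv : g v = f x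
  swap
  · convert Set.finite_empty
    ext z
    simp only [Set.mem_ofPred_eq, Set.mem_empty_iff_false, iff_false, not_and]
    rintro rfl rfl
    apply hv
    rw [← Scheme.Hom.comp_apply, ← Scheme.Hom.comp_apply, pullback.condition]
  obtain ⟨K, _, _, ω, hω⟩ := exists_geometric_point V v
  have h1 := (card_lift f K (ω ≫ g) x (by rw [Scheme.Hom.comp_apply, hω, hv])).1
  let F : {s : Spec (.of K) ⟶ X // s ≫ f = ω ≫ g ∧ s (pt K) = x} → ↥(pullback f g) :=
    fun s => pullback.lift s.1 ω s.2.1 (pt K)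
  refine (Set.finite_range F).subset ?_
  rintro z ⟨hz1, hz2⟩
  obtain ⟨s, hs1, hs2⟩ := exists_lift (pullback.snd f g) ω z (hz2.trans hω.symm)
  refine ⟨⟨s ≫ pullback.fst f g, ?_, ?_⟩, ?_⟩
  · rw [Category.assoc, pullback.condition, reassoc_of% hs1]
  · rw [Scheme.Hom.comp_apply, hs2, hz1]
  · have : pullback.lift (s ≫ pullback.fst f g) ω (by
        rw [Category.assoc, pullback.condition, reassoc_of% hs1]) = s :=
      pullback.hom_ext (pullback.lift_fst _ _ _) (by rw [pullback.lift_snd, hs1])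
    simp only [F]
    rw [this, hs2]

/-- Étale localization at a point with purely inseparable residue extension, separated case. -/
lemma exists_splitOver_of_PI_of_isSeparated (f : X ⟶ Y) [LocallyOfFiniteType f] [LocallyQuasiFinite f]
    [IsSeparated f] (x : X) (hx : PI f x) :
    ∃ (V : Scheme.{u}) (g : V ⟶ Y) (v : V), Etale g ∧ g v = f x ∧ SplitOver f {x} g v := by
  obtain ⟨V, g, v, hnb, U, -, hfin, hU⟩ :=
    Groth.Agent.Grpsch.EtLoc.exists_etaleNbhd_isFinite_of_quasiFiniteAt f x (f.quasiFiniteAt _)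
  have hg := hnb.etale
  have hv : g v = f x := hnb.base_eq
  refine ⟨V, g, v, hg, hv, ?_⟩
  rintro z hz1 hz2
  rw [Set.mem_singleton_iff] at hz1
  refine ⟨U, (hU z hz2).mpr hz1, hfin, ?_⟩
  rw [hz2]
  intro K _ _ ω hω
  obtain ⟨s, hs, hsx⟩ := exists_lift f (ω ≫ g) x (by rw [Scheme.Hom.comp_apply, hω, hv])
  refine ⟨pullback.lift s ω hs, ⟨pullback.lift_snd _ _ _, ?_⟩, ?_⟩
  · refine (hU _ ?_).mpr ?_
    · rw [← Scheme.Hom.comp_apply, pullback.lift_snd, hω]
    · rw [← Scheme.Hom.comp_apply, pullback.lift_fst, hsx]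
  · rintro t ⟨ht, ht'⟩
    refine pullback.hom_ext ?_ ?_
    · rw [pullback.lift_fst]
      refine hx K _ _ ?_ ?_ hsx
      · rw [hs, Category.assoc, pullback.condition, reassoc_of% ht]
      · rw [Scheme.Hom.comp_apply]
        refine (hU _ ?_).mp ht'
        rw [← Scheme.Hom.comp_apply, ht, hω]
    · rw [pullback.lift_snd, ht]

lemma PI.comp_open {W : Scheme.{u}} (j : W ⟶ X) [IsOpenImmersion j] {f : X ⟶ Y} {w : W}
    (h : PI f (j w)) : PI (j ≫ f) w := by
  intro K _ _ s t hst hs ht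
  rw [← cancel_mono j]
  refine h K _ _ (by simpa using hst) ?_ ?_
  · rw [Scheme.Hom.comp_apply, hs]
  · rw [Scheme.Hom.comp_apply, ht]

lemma SplitOver.of_open {f : X ⟶ Y} (W : X.Opens) {A : Set X} (hA : A ⊆ W) {V : Scheme.{u}} {g : V ⟶ Y} {v : V}
    (H : SplitOver (W.ι ≫ f) (W.ι ⁻¹' A) g v) : SplitOver f A g v := by
  intro z hz1 hz2
  have hc := (isPullback_morphismRestrict (pullback.fst f g) W).paste_vert (IsPullback.of_hasPullback f g)
  rw [← Category.id_comp g] at hc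
  have h1 := H.split hc ⟨z, hA hz1⟩ ?_ ?_
  · exact Split.of_comp_open (pullback.fst f g ⁻¹ᵁ W).ι h1
  · change W.ι ((pullback.fst f g ∣_ W) ⟨z, hA hz1⟩) ∈ A
    rw [← Scheme.Hom.comp_apply, morphismRestrict_ι]
    exact hz1
  · change (((pullback.fst f g) ⁻¹ᵁ W).ι ≫ pullback.snd f g) ⟨z, hA hz1⟩ = v
    rw [Scheme.Hom.comp_apply]
    exact hz2

/-- Étale localization at a point with purely inseparable residue extension. -/
lemma exists_splitOver_of_PI (f : X ⟶ Y) [LocallyOfFiniteType f] [LocallyQuasiFinite f] (x : X)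
    (hx : PI f x) :
    ∃ (V : Scheme.{u}) (g : V ⟶ Y) (v : V), Etale g ∧ g v = f x ∧ SplitOver f {x} g v := by
  obtain ⟨W, hW, hxW, -⟩ := exists_isAffineOpen_mem_and_subset (X := X) (x := x) (U := ⊤) trivial
  have : IsAffine W := hW
  have hsep : IsSeparated (W.ι ≫ f) := inferInstance
  obtain ⟨V, g, v, hg, hv, H⟩ := exists_splitOver_of_PI_of_isSeparated (W.ι ≫ f) ⟨x, hxW⟩
    (PI.comp_open W.ι hx)
  refine ⟨V, g, v, hg, hv, SplitOver.of_open W (by simpa using hxW) (H.mono ?_)⟩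
  rintro w hw
  exact Subtype.ext hw

/-- Étale localization at a point of a quasi-finite morphism. -/
theorem exists_splitOver_singleton (f : X ⟶ Y) [LocallyOfFiniteType f] [LocallyQuasiFinite f] (x : X) :
    ∃ (V : Scheme.{u}) (g : V ⟶ Y) (v : V), Etale g ∧ g v = f x ∧ SplitOver f {x} g v := by
  obtain ⟨V₁, g₁, v₁, hg₁, hv₁, H₁⟩ := exists_etale_PI f x
  obtain ⟨V, g, v, hg, hv, H⟩ := exists_splitOver_of_finite (pullback.snd f g₁) v₁ _
    (finite_points f x g₁ v₁) (by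
      rintro z ⟨hz1, hz2⟩
      obtain ⟨V, g, v, hg, hv, H⟩ := exists_splitOver_of_PI (pullback.snd f g₁) z (H₁ z hz1 hz2)
      exact ⟨V, g, v, hg, hv.trans hz2, H⟩)
  refine ⟨V, g ≫ g₁, v, inferInstance, by rw [Scheme.Hom.comp_apply, hv, hv₁], ?_⟩
  intro z hz1 hz2
  let m : pullback f (g ≫ g₁) ⟶ pullback f g₁ :=
    pullback.lift (pullback.fst _ _) (pullback.snd _ _ ≫ g) (by rw [pullback.condition, Category.assoc])
  have hm : IsPullback m (pullback.snd f (g ≫ g₁)) (pullback.snd f g₁) (𝟙 V ≫ g) := by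
    rw [Category.id_comp]
    refine IsPullback.of_right (h₁₂ := pullback.fst f g₁) (v₁₃ := f) (h₂₂ := g₁) ?_
      (pullback.lift_snd _ _ _) (IsPullback.of_hasPullback _ _)
    rw [pullback.lift_fst]
    exact IsPullback.of_hasPullback _ _
  refine H.split hm z ⟨?_, ?_⟩ (by simpa using hz2)
  · rw [← Scheme.Hom.comp_apply, pullback.lift_fst]
    exact hz1
  · rw [← Scheme.Hom.comp_apply, pullback.lift_snd, Scheme.Hom.comp_apply, hz2, hv]

/-- Étale localization at finitely many points of a fibre of a quasi-finite morphism. -/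
theorem exists_splitOver (f : X ⟶ Y) [LocallyOfFiniteType f] [LocallyQuasiFinite f] (y : Y)
    (A : Set X) (hA : A.Finite) (hy : ∀ x ∈ A, f x = y) :
    ∃ (V : Scheme.{u}) (g : V ⟶ Y) (v : V), Etale g ∧ g v = y ∧ SplitOver f A g v := by
  refine exists_splitOver_of_finite f y A hA fun x hx => ?_
  obtain ⟨V, g, v, hg, hv, H⟩ := exists_splitOver_singleton f x
  exact ⟨V, g, v, hg, hv.trans (hy x hx), H⟩

end Groth.Agent.Flat2F.Split
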