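import Groth.Prelude.Def_MoreMor
import Groth.Agent.S0440

/-!
# Geometry of affine stratifications
-/

set_option autoImplicit false
universe u

open CategoryTheory CategoryTheory.Limits AlgebraicGeometry Opposite TopologicalSpace

namespace Groth.Agent.Flat2F.StratGeom

/-- A closed subscheme avoiding the top stratum has a shorter stratification. -/
theorem hasAffineStratification_of_closed {X T : Scheme.{u}} (n : ℕ) (s : X → Fin (n + 1 + 1))
    (hs : ∀ i : Fin (n + 1 + 1), IsClosed {x : X | s x ≤ i})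
    (hst : ∀ i : Fin (n + 1 + 1), ∃ (Z : Scheme.{u}) (ι : Z ⟶ X),
      IsImmersion ι ∧ IsAffine Z ∧ IsAffineHom ι ∧ Set.range ι = {x : X | s x = i})
    (i : T ⟶ X) [IsClosedImmersion i] (hT : ∀ t : T, s (i t) ≠ Fin.last (n + 1)) :
    MoreMor.HasAffineStratification T n := by
  have hlt : ∀ t : T, (s (i t) : ℕ) < n + 1 := by
    intro t
    have := hT t
    have h2 := (s (i t)).isLt
    rw [Ne, Fin.ext_iff, Fin.val_last] at this
    omega
  refine ⟨fun t => ⟨s (i t), hlt t⟩, fun k => ?_, fun k => ?_⟩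
  · have : {t : T | (⟨s (i t), hlt t⟩ : Fin (n + 1)) ≤ k} = i ⁻¹' {x : X | s x ≤ k.castSucc} := by
      ext t
      simp [Fin.le_def]
    rw [this]
    exact (hs _).preimage i.continuous
  · obtain ⟨Z, ι, h1, h2, h3, h4⟩ := hst k.castSucc
    refine ⟨pullback i ι, pullback.fst i ι, inferInstance, ?_,
      MorphismProperty.pullback_fst _ _ h3, ?_⟩
    · exact isAffine_of_isAffineHom (pullback.snd i ι)
    · rw [Scheme.Pullback.range_fst, h4]
      ext t
      simp [Fin.ext_iff]

/-- If an affine scheme has an immersion onto an open subset, this open is affine. -/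
theorem isAffineOpen_of_immersion {X Z : Scheme.{u}} (ι : Z ⟶ X) [IsImmersion ι] [IsAffine Z]
    (U : X.Opens) (hU : Set.range ι = U) : IsAffineOpen U := by
  have hle : Set.range ι ⊆ Set.range U.ι := by rw [hU, Scheme.Opens.range_ι]
  let f : Z ⟶ U := IsOpenImmersion.lift U.ι ι hle
  have hf : f ≫ U.ι = ι := IsOpenImmersion.lift_fac _ _ _
  have : IsImmersion f := by
    have : IsImmersion (f ≫ U.ι) := hf ▸ inferInstance
    exact IsImmersion.of_comp f U.ι
  have hsurj : Function.Surjective f := by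
    intro y
    have : U.ι y ∈ Set.range ι := by rw [hU]; exact y.2
    obtain ⟨z, hz⟩ := this
    refine ⟨z, U.ι.isOpenEmbedding.injective ?_⟩
    rw [← hz, ← hf]
    rfl
  have : IsClosedImmersion f := .of_isPreimmersion f (by rw [hsurj.range_eq]; exact isClosed_univ)
  exact Groth.Agent.S0440.result f hsurj

/-- If an affine immersion has open image, the inclusion of this open is an affine morphism. -/
theorem isAffineHom_of_immersion {X Z : Scheme.{u}} (ι : Z ⟶ X) [IsImmersion ι] [IsAffineHom ι]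
    (U : X.Opens) (hU : Set.range ι = U) : IsAffineHom U.ι := by
  refine ⟨fun V hV => ?_⟩
  have hV' : IsAffineOpen (ι ⁻¹ᵁ V) := hV.preimage ι
  have : IsAffine (ι ⁻¹ᵁ V) := hV'
  -- the immersion of `ι⁻¹ V` into `X` has range `U ∩ V`
  have hUV : IsAffineOpen (U ⊓ V) := by
    refine isAffineOpen_of_immersion ((ι ⁻¹ᵁ V).ι ≫ ι) (U ⊓ V) ?_
    rw [Scheme.Hom.comp_base, TopCat.coe_comp, Set.range_comp, Scheme.Opens.range_ι]
    ext x
    constructor
    · rintro ⟨z, hz, rfl⟩
      exact ⟨hU ▸ Set.mem_range_self z, hz⟩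
    · rintro ⟨hx, hxV⟩
      obtain ⟨z, rfl⟩ : x ∈ Set.range ι := by rw [hU]; exact hx
      exact ⟨z, hxV, rfl⟩
  have : U.ι ''ᵁ (U.ι ⁻¹ᵁ V) = U ⊓ V := by
    rw [Scheme.Hom.image_preimage_eq_opensRange_inf, Scheme.Opens.opensRange_ι]
  rw [← U.ι.isAffineOpen_iff_of_isOpenImmersion, this]
  exact hUV

end Groth.Agent.Flat2F.StratGeom
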