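import Groth.Agent.Flat2F.FlatTrdeg
import Groth.Agent.CycB.StalkLen
import Groth.Agent.CycB.RelDim2
import Groth.Agent.CycB.DivNat

/-!
# Generizations of large transcendence degree in the support of a module flat over the base
-/

set_option autoImplicit false
universe u

namespace Groth.Agent.Flat2F.SuppTrdeg

open AlgebraicGeometry CategoryTheory Cardinal
open Groth.Agent.CycB Groth.Agent.CycB.TrdegAlg Groth.Agent.CycB.RelDim Groth.Agent.CycB.LocQuot

variable {X S : Scheme.{u}}

theorem fracGen_specMap (x ξ : X) (h : ξ ⤳ x) : FracGen (Cyc.specMap x ξ h) := by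
  intro z
  obtain ⟨a, b, hb, rfl⟩ := IsFractionRing.div_surjective (A := Cyc.LocQuot x ξ h) z
  obtain ⟨a, rfl⟩ := Ideal.Quotient.mk_surjective a
  obtain ⟨b, rfl⟩ := Ideal.Quotient.mk_surjective b
  have hb' : Cyc.specMap x ξ h b ≠ 0 := by
    rw [← algebraMap_mk]
    exact IsFractionRing.to_map_ne_zero_of_mem_nonZeroDivisors hb
  refine ⟨a, b, hb', ?_⟩
  rw [algebraMap_mk, algebraMap_mk, div_mul_cancel₀ _ hb']

theorem exists_generization (f : X ⟶ S) (F : X.Modules) (hF : Coh.IsCoh F) (x : X)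
    (hfl : FlatMod.IsFlatOverAt f F x) (hx : x ∈ CohB1.support F) (η : S) (hη : η ⤳ f x) (n : ℕ)
    (hn : (n : Cardinal.{u}) ≤ rtd f x) :
    ∃ ξ : X, ξ ⤳ x ∧ f ξ = η ∧ ξ ∈ CohB1.support F ∧ (n : Cardinal.{u}) ≤ rtd f ξ := by
  -- choose the elements
  algebraize [(f.stalkMap x).hom]
  letI := FlatMod.moduleStalkOver f F x
  have : IsScalarTower (S.presheaf.stalk (f x)) (X.presheaf.stalk x) (F.presheaf.stalk x) := by
    refine ⟨fun r a m => ?_⟩
    rw [Algebra.smul_def, mul_smul]
    rfl
  have : IsLocalHom (algebraMap (S.presheaf.stalk (f x)) (X.presheaf.stalk x)) :=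
    inferInstanceAs (IsLocalHom (f.stalkMap x).hom)
  have : Module.Flat (S.presheaf.stalk (f x)) (F.presheaf.stalk x) := hfl
  have : Module.Finite (X.presheaf.stalk x) (F.presheaf.stalk x) := StalkLoc.finite_stalk F hF x
  have : Nontrivial (F.presheaf.stalk x) := not_subsingleton_iff_nontrivial.mp hx
  obtain ⟨y, hy⟩ : ∃ y : ULift.{u} (Fin n) → X.presheaf.stalk x,
      AlgebraicIndependent (IsLocalRing.ResidueField (S.presheaf.stalk (f x)))
        (fun i ↦ IsLocalRing.residue (X.presheaf.stalk x) (y i)) := by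
    let _ : Algebra (S.residueField (f x)) (X.residueField x) := (f.residueFieldMap x).hom.toAlgebra
    have hn' : (n : Cardinal.{u}) ≤ Algebra.trdeg (S.residueField (f x)) (X.residueField x) := hn
    obtain ⟨B, hB⟩ := exists_isTranscendenceBasis (S.residueField (f x)) (X.residueField x)
    have h1 : (n : Cardinal.{u}) = #(ULift.{u} (Fin n)) := by simp
    rw [← hB.cardinalMk_eq_trdeg, h1, Cardinal.le_def] at hn'
    obtain ⟨e⟩ := hn'
    choose y hy using fun i ↦ IsLocalRing.residue_surjective (R := X.presheaf.stalk x)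
      ((e i : B) : X.residueField x)
    refine ⟨y, ?_⟩
    have h2 : AlgebraicIndependent (S.residueField (f x))
        (fun i ↦ ((e i : B) : X.residueField x)) := hB.1.comp e e.injective
    have h3 : (fun i ↦ IsLocalRing.residue (X.presheaf.stalk x) (y i)) =
        (fun i ↦ ((e i : B) : X.residueField x)) := funext hy
    rw [h3]
    exact h2
  obtain ⟨Q, hQ1, hQ2, hQ3⟩ := FlatTrdeg.exists_prime (M := F.presheaf.stalk x) y hy
    (primeOf hη).asIdeal
  have hsp : ptOf Q ⤳ x := ptOf_specializes Q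
  have hfη : f (ptOf Q) = η := by
    have h1 := Scheme.SpecMap_stalkMap_fromSpecStalk f (x := x)
    have h2 : S.fromSpecStalk (f x) (Spec.map (f.stalkMap x) Q) = f (X.fromSpecStalk x Q) := by
      rw [← Scheme.Hom.comp_apply, h1, Scheme.Hom.comp_apply]
    have h3 : Spec.map (f.stalkMap x) Q = primeOf hη := PrimeSpectrum.ext hQ2
    rw [h3, fromSpecStalk_primeOf hη] at h2
    exact h2.symm
  refine ⟨ptOf Q, hsp, hfη, ?_, ?_⟩
  · have h1 := StalkLen.mem_support_stalk_iff F hF.1 hsp
    rw [primeOf_ptOf] at h1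
    exact not_subsingleton_iff_nontrivial.mpr (h1.mp hQ1)
  · have hsp' : f (ptOf Q) ⤳ f x := hsp.map f.continuous
    have hcomm : (f.residueFieldMap (ptOf Q)).hom.comp (Cyc.specMap (f x) (f (ptOf Q)) hsp') =
        (Cyc.specMap x (ptOf Q) hsp).comp (f.stalkMap x).hom :=
      RingHom.ext fun a ↦ DivNat.residueFieldMap_specMap f x (ptOf Q) hsp a
    have hle : RingHom.ker (Cyc.specMap (f x) (f (ptOf Q)) hsp') ≤
        (RingHom.ker (Cyc.specMap x (ptOf Q) hsp)).comap (f.stalkMap x).hom := by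
      intro a ha
      rw [Ideal.mem_comap, RingHom.mem_ker, ← RingHom.comp_apply, ← hcomm, RingHom.comp_apply,
        RingHom.mem_ker.mp ha, map_zero]
    have hp : RingHom.ker (Cyc.specMap (f x) (f (ptOf Q)) hsp') = (primeOf hη).asIdeal := by
      rw [← primeOf_asIdeal]
      congr 1
      rw [primeOf_inj]
      exact hfη
    have hq : RingHom.ker (Cyc.specMap x (ptOf Q) hsp) = Q.asIdeal := by
      rw [← primeOf_asIdeal, primeOf_ptOf]
    rw [rtd, trd_eq_trd_quotientMap (f.stalkMap x).hom _ _ _ hcomm (fracGen_specMap _ _ hsp')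
      (fracGen_specMap _ _ hsp) _ rfl _ rfl hle]
    have h1 : (n : Cardinal.{u}) = #(ULift.{u} (Fin n)) := by simp
    rw [h1]
    let _ := (Ideal.quotientMap (RingHom.ker (Cyc.specMap x (ptOf Q) hsp))
      (f.stalkMap x).hom hle).toAlgebra
    have hind : AlgebraicIndependent (S.presheaf.stalk (f x) ⧸
        RingHom.ker (Cyc.specMap (f x) (f (ptOf Q)) hsp'))
        (fun i ↦ Ideal.Quotient.mk (RingHom.ker (Cyc.specMap x (ptOf Q) hsp)) (y i)) := by
      rw [algebraicIndependent_iff]
      intro G' hG'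
      obtain ⟨G, rfl⟩ := MvPolynomial.map_surjective (Ideal.Quotient.mk
        (RingHom.ker (Cyc.specMap (f x) (f (ptOf Q)) hsp'))) Ideal.Quotient.mk_surjective G'
      have h2 : MvPolynomial.aeval (fun i ↦ Ideal.Quotient.mk
          (RingHom.ker (Cyc.specMap x (ptOf Q) hsp)) (y i)) (MvPolynomial.map (Ideal.Quotient.mk
          (RingHom.ker (Cyc.specMap (f x) (f (ptOf Q)) hsp'))) G) =
          Ideal.Quotient.mk (RingHom.ker (Cyc.specMap x (ptOf Q) hsp))
            (MvPolynomial.aeval y G) := by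
        rw [MvPolynomial.aeval_def, MvPolynomial.eval₂_map, MvPolynomial.aeval_def,
          ← MvPolynomial.coe_eval₂Hom, ← MvPolynomial.coe_eval₂Hom, ← RingHom.comp_apply]
        congr 1
        ext a
        · simp only [MvPolynomial.coe_eval₂Hom, RingHom.coe_comp, Function.comp_apply,
            MvPolynomial.eval₂_C]
          rfl
        · simp
      rw [h2, Ideal.Quotient.eq_zero_iff_mem, hq] at hG'
      ext I
      rw [MvPolynomial.coeff_map, MvPolynomial.coeff_zero, Ideal.Quotient.eq_zero_iff_mem, hp]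
      exact hQ3 G hG' I
    exact hind.cardinalMk_le_trdeg

end Groth.Agent.Flat2F.SuppTrdeg
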