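import Groth.Agent.Flat2F.WeightLoc
import Groth.Agent.EtpbcA.ConstrTop
import Mathlib.AlgebraicGeometry.Morphisms.FinitePresentation

/-!
Constructibility of the level sets of fibre integrals of weightings (Stacks 0F3H).
-/

set_option autoImplicit false
universe u

namespace Groth.Agent.Flat2F.WeightConstr

open AlgebraicGeometry CategoryTheory Limits FibreIntegral GeomPts ResSplit Split WeightLoc Topology

variable {X Y : Scheme.{u}}

lemma isCompact_of_isFinite (f : X ⟶ Y) [CompactSpace Y] (U : X.Opens) [IsFinite (U.ι ≫ f)] :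
    IsCompact (U : Set X) := by
  have : CompactSpace (U : Scheme.{u}) := QuasiCompact.compactSpace_of_compactSpace (U.ι ≫ f)
  exact isCompact_iff_compactSpace.mpr this

/-- Near a point with all points of the fibre split: the fibre integral is constant on a
constructible neighbourhood. -/
theorem exists_isConstructible_of_split (f : X ⟶ Y) [LocallyQuasiFinite f] [LocallyOfFinitePresentation f]
    [QuasiCompact f] [QuasiSeparated f] [IsAffine Y] (w : X → ℤ) (hw : MoreMor.IsWeighting f w) (y : Y)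
    (hs : ∀ x, f x = y → Split f x) :
    ∃ Z : Set Y, y ∈ Z ∧ IsConstructible Z ∧
      ∀ y' ∈ Z, MoreMor.fibreIntegral f w y' = MoreMor.fibreIntegral f w y := by
  have hcX : CompactSpace X := QuasiCompact.compactSpace_of_compactSpace f
  have hqX : QuasiSeparatedSpace X := quasiSeparatedSpace_of_quasiSeparated f
  have hfin : (f ⁻¹' {y}).Finite := f.finite_preimage_singleton y
  let ι := f ⁻¹' {y}
  have : Finite ι := hfin
  choose U hU hUf hUu using fun x : ι => hs x.1 x.2
  have hUc : ∀ i, IsCompact (U i : Set X) := fun i => isCompact_of_isFinite f (U i)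
  have hUcon : ∀ i, IsConstructible (U i : Set X) := fun i => (hUc i).isConstructible (U i).2
  -- bad sets
  let B₁ : Set X := (⋃ i, (U i : Set X))ᶜ
  let B₂ : Set X := ⋃ i, ⋃ j : {j : ι // i ≠ j}, (U i : Set X) ∩ (U j : Set X)
  have hB₁ : IsConstructible B₁ := isConstructible_compl.mpr (IsConstructible.iUnion hUcon)
  have hB₂ : IsConstructible B₂ :=
    IsConstructible.iUnion fun i => IsConstructible.iUnion fun j => (hUcon i).inter (hUcon j)
  have hy₁ : y ∉ f '' B₁ := by
    rintro ⟨x, hx, rfl⟩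
    exact hx (Set.mem_iUnion.mpr ⟨⟨x, rfl⟩, hU ⟨x, rfl⟩⟩)
  have huniq : ∀ (i : ι) (x : X), x ∈ U i → f x = y → x = i.1 := by
    intro i x hx hxy
    have h1 := hUu i
    rw [show f i.1 = y from i.2] at h1
    exact h1.eq hx (hU i) hxy i.2
  have hy₂ : y ∉ f '' B₂ := by
    rintro ⟨x, hx, hxy⟩
    simp only [B₂, Set.mem_iUnion] at hx
    obtain ⟨i, j, hx1, hx2⟩ := hx
    exact j.2 (Subtype.ext ((huniq i x hx1 hxy).symm.trans (huniq j x hx2 hxy)))
  -- local constancy of the integrals over `U i`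
  have hloc : ∀ i, IsLocallyConstant (MoreMor.fibreIntegral ((U i).ι ≫ f) (fun u => w ((U i).ι u))) :=
    fun i => isLocallyConstant_of_isPullback (IsPullback.id_horiz f) hw (U i)
  have hN : ∃ N : Set Y, y ∈ N ∧ IsConstructible N ∧ ∀ y' ∈ N, ∀ i,
      MoreMor.fibreIntegral ((U i).ι ≫ f) (fun u => w ((U i).ι u)) y' =
        MoreMor.fibreIntegral ((U i).ι ≫ f) (fun u => w ((U i).ι u)) y := by
    have h1 : ∀ i, {y' | MoreMor.fibreIntegral ((U i).ι ≫ f) (fun u => w ((U i).ι u)) y' =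
        MoreMor.fibreIntegral ((U i).ι ≫ f) (fun u => w ((U i).ι u)) y} ∈ 𝓝 y :=
      fun i => ((hloc i).isOpen_fiber _).mem_nhds rfl
    have h2 := (Filter.iInter_mem (β := ι)).mpr h1
    obtain ⟨N, hN, hyN, hN'⟩ := Y.isBasis_affineOpens.mem_nhds_iff.mp h2
    obtain ⟨N, hN0, rfl⟩ := hN
    refine ⟨N, hyN, IsCompact.isConstructible (IsAffineOpen.isCompact hN0) N.2, ?_⟩
    intro y' hy' i
    exact Set.mem_iInter.mp (hN' hy') i
  obtain ⟨N, hyN, hNc, hN⟩ := hN
  have key : ∀ y', y' ∉ f '' B₁ → y' ∉ f '' B₂ → MoreMor.fibreIntegral f w y' =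
      ∑ᶠ i, MoreMor.fibreIntegral ((U i).ι ≫ f) (fun x => w ((U i).ι x)) y' := by
    intro y' h1 h2
    refine fibreIntegral_eq_sum f w U y' ?_ ?_
    · intro x hx
      by_contra h
      exact h1 ⟨x, fun hx' => h (Set.mem_iUnion.mp hx'), hx⟩
    · intro x i j hx hi hj
      by_contra h
      refine h2 ⟨x, ?_, hx⟩
      simp only [B₂, Set.mem_iUnion]
      exact ⟨i, ⟨j, h⟩, hi, hj⟩
  refine ⟨(f '' B₁ ∪ f '' B₂)ᶜ ∩ N, ⟨by simp only [Set.mem_compl_iff, Set.mem_union, not_or]; exact ⟨hy₁, hy₂⟩, hyN⟩, ?_, ?_⟩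
  · refine IsConstructible.inter (isConstructible_compl.mpr (IsConstructible.union ?_ ?_)) hNc
    · exact f.isConstructible_image hB₁
    · exact f.isConstructible_image hB₂
  · rintro y' ⟨h1, h2⟩
    simp only [Set.mem_compl_iff, Set.mem_union, not_or] at h1
    rw [key y' h1.1 h1.2, key y hy₁ hy₂]
    exact finsum_congr fun i => hN y' h2 i

/-- The fibre integral is constant on a constructible neighbourhood of every point. -/
theorem exists_isConstructible (f : X ⟶ Y) [LocallyQuasiFinite f] [LocallyOfFinitePresentation f]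
    [QuasiCompact f] [QuasiSeparated f] [IsAffine Y] (w : X → ℤ) (hw : MoreMor.IsWeighting f w) (y : Y) :
    ∃ Z : Set Y, y ∈ Z ∧ IsConstructible Z ∧
      ∀ y' ∈ Z, MoreMor.fibreIntegral f w y' = MoreMor.fibreIntegral f w y := by
  obtain ⟨V, g, v, hg, hv, H⟩ := exists_splitOver f y (f ⁻¹' {y}) (f.finite_preimage_singleton y)
    (fun x hx => hx)
  obtain ⟨V₀, hV₀, hvV₀, -⟩ := exists_isAffineOpen_mem_and_subset (X := V) (x := v) (U := ⊤) trivial
  have : IsAffine V₀ := hV₀
  let g₀ : (V₀ : Scheme.{u}) ⟶ Y := V₀.ι ≫ g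
  let v₀ : (V₀ : Scheme.{u}) := ⟨v, hvV₀⟩
  have H₀ : SplitOver f (f ⁻¹' {y}) g₀ v₀ := H.refine V₀.ι rfl
  have hv₀ : g₀ v₀ = y := hv
  have hc := IsPullback.of_hasPullback f g₀
  obtain ⟨Z', hvZ', hZ', hZ'w⟩ := exists_isConstructible_of_split (pullback.snd f g₀)
    (fun x => w (pullback.fst f g₀ x)) (isWeighting_of_isPullback hc hw) v₀ (by
      intro x hx
      refine H₀ x ?_ hx
      change f (pullback.fst f g₀ x) = y
      rw [← Scheme.Hom.comp_apply, pullback.condition, Scheme.Hom.comp_apply, hx, hv₀])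
  refine ⟨g₀ '' Z', ⟨v₀, hvZ', hv₀⟩, g₀.isConstructible_image hZ', ?_⟩
  rintro _ ⟨v', hv', rfl⟩
  have h1 := hZ'w v' hv'
  have h2 := fun v' => fibreIntegral_baseChange f (pullback.snd f g₀) (pullback.fst f g₀) g₀ hc w v'
  rw [← h2, ← hv₀, ← h2]
  exact h1

/-- Constructibility of the level sets over an affine base. -/
theorem isConstructible_of_isAffine (f : X ⟶ Y) [LocallyQuasiFinite f] [LocallyOfFinitePresentation f]
    [QuasiCompact f] [QuasiSeparated f] [IsAffine Y] (w : X → ℤ) (hw : MoreMor.IsWeighting f w) (n : ℤ) :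
    IsConstructible {y : Y | MoreMor.fibreIntegral f w y = n} := by
  choose Z hyZ hZ hZw using exists_isConstructible f w hw
  obtain ⟨t, ht⟩ := Groth.Agent.EtpbcA.ConstrTop.finite_subcover Z hZ
    (Set.eq_univ_of_forall fun y => Set.mem_iUnion.mpr ⟨y, hyZ y⟩)
  have : {y : Y | MoreMor.fibreIntegral f w y = n} =
      ⋃ i ∈ {i : Y | i ∈ t ∧ MoreMor.fibreIntegral f w i = n}, Z i := by
    ext y
    simp only [Set.mem_ofPred_eq, Set.mem_iUnion, exists_prop]
    constructor
    · intro hy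
      have h1 : y ∈ ⋃ i ∈ t, Z i := ht ▸ Set.mem_univ y
      simp only [Set.mem_iUnion, exists_prop] at h1
      obtain ⟨i, hi, hyi⟩ := h1
      exact ⟨i, ⟨hi, (hZw i y hyi).symm.trans hy⟩, hyi⟩
    · rintro ⟨i, ⟨hi, hin⟩, hyi⟩
      exact (hZw i y hyi).trans hin
  rw [this]
  refine IsConstructible.biUnion ?_ fun i _ => hZ i
  exact t.finite_toSet.subset fun i hi => hi.1

/-- Stacks 0F3H. -/
theorem isLocallyConstructible (f : X ⟶ Y) [LocallyQuasiFinite f] [LocallyOfFinitePresentation f]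
    [QuasiCompact f] [QuasiSeparated f] (w : X → ℤ) (hw : MoreMor.IsWeighting f w) (n : ℤ) :
    IsLocallyConstructible {y : Y | MoreMor.fibreIntegral f w y = n} := by
  intro y
  obtain ⟨U, hU, hyU, -⟩ := exists_isAffineOpen_mem_and_subset (X := Y) (x := y) (U := ⊤) trivial
  have : IsAffine U := hU
  refine ⟨U, U.2.mem_nhds hyU, U.2, ?_⟩
  have hc := (isPullback_morphismRestrict f U).flip
  have h1 := isConstructible_of_isAffine (f ∣_ U) (fun x => w ((f ⁻¹ᵁ U).ι x))
    (isWeighting_of_isPullback (isPullback_morphismRestrict f U).flip hw) n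
  have h4 : {y : (U : Scheme.{u}) | MoreMor.fibreIntegral (f ∣_ U) (fun x => w ((f ⁻¹ᵁ U).ι x)) y = n} =
      Subtype.val ⁻¹' {y : Y | MoreMor.fibreIntegral f w y = n} := by
    ext y
    have h2 := fibreIntegral_baseChange f (f ∣_ U) _ _ (isPullback_morphismRestrict f U).flip w y
    have h3 : MoreMor.fibreIntegral (f ∣_ U) (fun x => w ((f ⁻¹ᵁ U).ι x)) y = MoreMor.fibreIntegral f w (U.ι y) := h2
    simp only [Set.mem_preimage, Set.mem_ofPred_eq]
    rw [h3]
    rfl
  exact h4 ▸ h1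

end Groth.Agent.Flat2F.WeightConstr
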