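import Groth.Agent.Flat2F.Split

/-!
Weightings and étale base change; decomposing fibre integrals.
-/

set_option autoImplicit false
universe u

namespace Groth.Agent.Flat2F.WeightLoc

open AlgebraicGeometry CategoryTheory Limits FibreIntegral GeomPts ResSplit Split

variable {X Y : Scheme.{u}}

/-- Flexible form of the definition of weightings. -/
theorem isLocallyConstant_of_isPullback {X' Y' : Scheme.{u}} {f : X ⟶ Y} {f' : X' ⟶ Y'} {h : X' ⟶ X}
    {g : Y' ⟶ Y} (hc : IsPullback h f' f g) [Etale g] {w : X → ℤ} (hw : MoreMor.IsWeighting f w)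
    (U : X'.Opens) [IsFinite (U.ι ≫ f')] [LocallyQuasiFinite (U.ι ≫ f')] :
    IsLocallyConstant (MoreMor.fibreIntegral (U.ι ≫ f') (fun u => w (h (U.ι u)))) := by
  let e := hc.isoPullback
  have he : IsPullback e.inv (pullback.snd f g) f' (𝟙 Y') :=
    IsPullback.of_horiz_isIso ⟨by simp [e]⟩
  have hc2 := (isPullback_morphismRestrict e.inv U).paste_vert he
  have hfin : IsFinite ((e.inv ⁻¹ᵁ U).ι ≫ pullback.snd f g) :=
    MorphismProperty.of_isPullback hc2 ‹_›
  have h1 := hw Y' g (e.inv ⁻¹ᵁ U) hfin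
  convert h1 using 1
  ext v
  have h2 := fibreIntegral_baseChange _ _ _ _ hc2 (fun u => w (h (U.ι u))) v
  rw [show (𝟙 Y' : Y' ⟶ Y') v = v from rfl] at h2
  rw [← h2]
  congr 1
  ext u
  simp only [Function.comp_apply]
  rw [← Scheme.Hom.comp_apply, ← Scheme.Hom.comp_apply, ← Scheme.Hom.comp_apply,
    morphismRestrict_ι_assoc, hc.isoPullback_inv_fst]

/-- Weightings are stable under étale base change. -/
theorem isWeighting_of_isPullback {X' Y' : Scheme.{u}} {f : X ⟶ Y} {f' : X' ⟶ Y'} {h : X' ⟶ X}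
    {g : Y' ⟶ Y} (hc : IsPullback h f' f g) [Etale g] {w : X → ℤ} (hw : MoreMor.IsWeighting f w)
    [LocallyQuasiFinite f'] :
    MoreMor.IsWeighting f' (fun x => w (h x)) := by
  intro V g' _ U hU
  have hc' := (IsPullback.of_hasPullback f' g').paste_horiz hc
  have hq : LocallyQuasiFinite (U.ι ≫ pullback.snd f' g') := inferInstance
  exact isLocallyConstant_of_isPullback hc' hw U

/-- The fibre integral as a sum over all geometric lifts. -/
theorem fibreIntegral_top (f : X ⟶ Y) [LocallyQuasiFinite f] (w : X → ℤ)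
    {K : Type u} [Field K] [IsAlgClosed K] (ω : Spec (.of K) ⟶ Y) :
    MoreMor.fibreIntegral f w (ω (pt K)) = ∑ᶠ s ∈ L f ω ⊤, w (s (pt K)) := by
  rw [fibreIntegral_eq, ← finsum_set_coe_eq_finsum_mem]
  refine finsum_eq_of_bijective (fun s => ⟨s.1, s.2, trivial⟩) ⟨?_, ?_⟩ fun s => rfl
  · intro s t hst
    exact Subtype.ext congr(($hst).1)
  · rintro ⟨s, hs, hs'⟩
    exact ⟨⟨s, hs⟩, rfl⟩

lemma L_mono (f : X ⟶ Y) {K : Type u} [Field K] (ω : Spec (.of K) ⟶ Y) {U V : X.Opens}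
    (h : U ≤ V) : L f ω U ⊆ L f ω V := fun _ hs => ⟨hs.1, h hs.2⟩

lemma apply_pt_of_mem_L {f : X ⟶ Y} {K : Type u} [Field K] {ω : Spec (.of K) ⟶ Y} {U : X.Opens}
    {s : Spec (.of K) ⟶ X} (hs : s ∈ L f ω U) : f (s (pt K)) = ω (pt K) := by
  rw [← Scheme.Hom.comp_apply, hs.1]

/-- Decomposition of a fibre integral. -/
theorem fibreIntegral_eq_sum (f : X ⟶ Y) [LocallyQuasiFinite f] (w : X → ℤ) {ι : Type*} [Finite ι]
    (U : ι → X.Opens) [∀ i, IsFinite ((U i).ι ≫ f)] (y : Y)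
    (h1 : ∀ x, f x = y → ∃ i, x ∈ U i)
    (h2 : ∀ x i j, f x = y → x ∈ U i → x ∈ U j → i = j) :
    MoreMor.fibreIntegral f w y = ∑ᶠ i, MoreMor.fibreIntegral ((U i).ι ≫ f) (fun x => w ((U i).ι x)) y := by
  obtain ⟨K, _, _, ω, rfl⟩ := exists_geometric_point Y y
  rw [fibreIntegral_top]
  have h3 : L f ω ⊤ = ⋃ i, L f ω (U i) := by
    ext s
    simp only [Set.mem_iUnion]
    constructor
    · intro hs
      obtain ⟨i, hi⟩ := h1 _ (apply_pt_of_mem_L hs)
      exact ⟨i, hs.1, hi⟩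
    · rintro ⟨i, hi⟩
      exact L_mono f ω le_top hi
  rw [h3, finsum_mem_iUnion]
  · refine finsum_congr fun i => ?_
    exact (fibreIntegral_ι f (U i) w ω).symm
  · intro i j hij
    rw [Function.onFun, Set.disjoint_left]
    intro s hs hs'
    exact hij (h2 _ i j (apply_pt_of_mem_L hs) hs.2 hs'.2)
  · intro i
    exact finite_L f (U i) ω

/-- Lower bound of a fibre integral. -/
theorem sum_le_fibreIntegral (f : X ⟶ Y) [LocallyQuasiFinite f] [QuasiCompact f] (w : X → ℤ)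
    (hw : ∀ x, 0 ≤ w x) {ι : Type*} [Finite ι]
    (U : ι → X.Opens) [∀ i, IsFinite ((U i).ι ≫ f)] (y : Y)
    (h2 : ∀ x i j, f x = y → x ∈ U i → x ∈ U j → i = j) :
    ∑ᶠ i, MoreMor.fibreIntegral ((U i).ι ≫ f) (fun x => w ((U i).ι x)) y ≤ MoreMor.fibreIntegral f w y := by
  obtain ⟨K, _, _, ω, rfl⟩ := exists_geometric_point Y y
  have h4 : (L f ω ⊤).Finite := by
    have h0 : (⊤ : X.Opens).ι = X.topIso.hom := rfl
    have : QuasiCompact ((⊤ : X.Opens).ι ≫ f) := by rw [h0]; infer_instance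
    exact finite_L f ⊤ ω
  rw [fibreIntegral_top]
  have h3 : ⋃ i, L f ω (U i) ⊆ L f ω ⊤ := Set.iUnion_subset fun i => L_mono f ω le_top
  have h5 : ∑ᶠ i, MoreMor.fibreIntegral ((U i).ι ≫ f) (fun x => w ((U i).ι x)) (ω (pt K)) =
      ∑ᶠ s ∈ ⋃ i, L f ω (U i), w (s (pt K)) := by
    rw [finsum_mem_iUnion]
    · refine finsum_congr fun i => ?_
      exact (fibreIntegral_ι f (U i) w ω)
    · intro i j hij
      rw [Function.onFun, Set.disjoint_left]
      intro s hs hs'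
      exact hij (h2 _ i j (apply_pt_of_mem_L hs) hs.2 hs'.2)
    · intro i
      exact finite_L f (U i) ω
  rw [h5]
  have h6 : (⋃ i, L f ω (U i)).Finite := h4.subset h3
  rw [finsum_mem_eq_finite_toFinset_sum _ h6, finsum_mem_eq_finite_toFinset_sum _ h4]
  refine Finset.sum_le_sum_of_subset_of_nonneg ?_ fun s _ _ => hw _
  exact Set.Finite.toFinset_mono h3

end Groth.Agent.Flat2F.WeightLoc
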